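import Cfsg.Agent.Lib.Layer.Characteristic
import Cfsg.Agent.Lib.Critical.Basic
import Cfsg.Prelude.Def_PLocal

/-!
Subgroups `H` with `C_H(O_p(H)) ≤ O_p(H)`: passage to normalizers and centralizers of `p`-subgroups.
-/

set_option autoImplicit false
set_option linter.style.haveILetI false
set_option linter.unusedSectionVars false

namespace CfsgLib.CharCore

variable {G : Type*} [Group G] {p : ℕ}

/-- `C(O_p) ≤ O_p`. -/
abbrev Cp (p : ℕ) (H : Type*) [Group H] : Prop :=
  Subgroup.centralizer (Cfsg.pCore p H : Set H) ≤ Cfsg.pCore p H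

theorem map_pCore {A B : Type*} [Group A] [Group B] (e : A ≃* B) :
    (Cfsg.pCore p A).map e.toMonoidHom = Cfsg.pCore p B := by
  refine le_antisymm (Fitting.le_pCore ((Fitting.pCore_normal p).map _ e.surjective)
    ((Fitting.pCore_isPGroup p).map _)) fun y hy => ⟨e.symm y, ?_, e.apply_symm_apply y⟩
  exact Fitting.le_pCore ((Fitting.pCore_normal p).map e.symm.toMonoidHom e.symm.surjective)
    ((Fitting.pCore_isPGroup p).map _) (Subgroup.mem_map_of_mem _ hy)

theorem cp_congr {A B : Type*} [Group A] [Group B] (e : A ≃* B) (h : Cp p A) : Cp p B := by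
  intro y hy
  rw [← map_pCore e] at hy ⊢
  refine ⟨e.symm y, h fun z hz => ?_, e.apply_symm_apply y⟩
  apply e.injective
  rw [map_mul, map_mul, e.apply_symm_apply]
  exact hy (e z) (Subgroup.mem_map_of_mem _ hz)

theorem cp_of_eq {H K : Subgroup G} (e : H = K) (h : Cp p H) : Cp p K :=
  cp_congr (MulEquiv.subgroupCongr e) h

variable [Finite G] [Fact p.Prime]

/-- Normal subgroups inherit the condition. -/
theorem cp_of_normal {H M : Subgroup G} (hMH : M ≤ H) (hHM : H ≤ Subgroup.normalizer (M : Set G))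
    (h : Cp p H) : Cp p M := by
  haveI : (M.subgroupOf H).Normal := (Subgroup.normal_subgroupOf_iff_le_normalizer hMH).mpr hHM
  exact cp_congr (Subgroup.subgroupOfEquivOfLe hMH)
    (PSolvable.centralizer_pCore_le_of_normal h (M.subgroupOf H))

/-- Normalizers of `p`-subgroups inherit the condition. -/
theorem cp_inf_normalizer {H P : Subgroup G} (hPH : P ≤ H) (hP : IsPGroup p P) (h : Cp p H) :
    Cp p ↥(H ⊓ Subgroup.normalizer (P : Set G)) := by
  have hN : (Subgroup.normalizer (P : Set G)).subgroupOf H =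
      Subgroup.normalizer ((P.subgroupOf H : Subgroup H) : Set H) :=
    Subgroup.subgroupOf_normalizer_eq hPH
  have h1 := PSolvable.centralizer_pCore_le_normalizer h
    (hP.comap_of_injective H.subtype H.subtype_injective) hN
  refine cp_of_eq ?_ (cp_congr (Subgroup.equivMapOfInjective
    ((Subgroup.normalizer (P : Set G)).subgroupOf H) H.subtype H.subtype_injective) h1)
  rw [Subgroup.subgroupOf_map_subtype, inf_comm]

/-- The condition lifts from the centralizer of a normal `p`-subgroup. -/
theorem cp_of_centralizer {H B : Subgroup G} (hB : IsPGroup p B) (hBH : B ≤ H)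
    (hHB : H ≤ Subgroup.normalizer (B : Set G))
    (h : Cp p ↥(H ⊓ Subgroup.centralizer (B : Set G))) : Cp p H := by
  set C := H ⊓ Subgroup.centralizer (B : Set G) with hC
  haveI : (B.subgroupOf H).Normal := (Subgroup.normal_subgroupOf_iff_le_normalizer hBH).mpr hHB
  haveI : (C.subgroupOf H).Normal := (Subgroup.normal_subgroupOf_iff_le_normalizer inf_le_left).mpr
    (Coprime.le_normalizer_inf_of_le Subgroup.le_normalizer (Coprime.le_normalizer_centralizer hHB))
  haveI := Fitting.pCore_normal (G := H) p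
  have hchar : (Cfsg.pCore p (C.subgroupOf H)).Characteristic :=
    Subgroup.characteristic_iff_map_eq.mpr fun φ => map_pCore φ
  haveI := hchar
  have hle : (Cfsg.pCore p (C.subgroupOf H)).map (C.subgroupOf H).subtype ≤ Cfsg.pCore p H :=
    Fitting.le_pCore inferInstance ((Fitting.pCore_isPGroup p).map _)
  refine Fitting.le_pCore inferInstance (PSolvable.isPGroup_of_forall_coprime fun x hx hxp => ?_)
  have hxC : x ∈ C.subgroupOf H := by
    refine ⟨x.2, fun b hb => ?_⟩
    exact congrArg Subtype.val (hx ⟨b, hBH hb⟩ (Fitting.le_pCore (N := B.subgroupOf H) inferInstance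
      (hB.comap_of_injective H.subtype H.subtype_injective) hb))
  have h1 : Cp p (C.subgroupOf H) := cp_congr (Subgroup.subgroupOfEquivOfLe inf_le_left).symm h
  have h2 : (⟨x, hxC⟩ : C.subgroupOf H) ∈ Cfsg.pCore p (C.subgroupOf H) := h1 fun z hz =>
    Subtype.ext (hx z (hle (Subgroup.mem_map_of_mem _ hz)))
  have h3 := Transfer.orderOf_eq_one_of_coprime_of_isPGroup (Fitting.pCore_isPGroup p)
    (y := (⟨⟨x, hxC⟩, h2⟩ : Cfsg.pCore p (C.subgroupOf H))) (by
      rwa [← Subgroup.orderOf_coe, ← Subgroup.orderOf_coe])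
  exact congrArg (fun u : Cfsg.pCore p (C.subgroupOf H) => ((u : C.subgroupOf H) : H)) h3

/-- From a normal subgroup of a `p`-subgroup: centralizer and normalizer. -/
theorem cp_step {B C : Subgroup G} (hB : IsPGroup p B) (hCB : C ≤ B)
    (hBC : B ≤ Subgroup.normalizer (C : Set G))
    (h : Cp p ↥(Subgroup.normalizer (C : Set G))) :
    Cp p ↥(Subgroup.normalizer (B : Set G)) ∧ Cp p ↥(Subgroup.centralizer (B : Set G)) := by
  have h1 := cp_inf_normalizer hBC hB h
  have hle : Subgroup.centralizer (B : Set G) ≤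
      Subgroup.normalizer (C : Set G) ⊓ Subgroup.normalizer (B : Set G) :=
    le_inf ((Subgroup.centralizer_le hCB).trans (Subgroup.centralizer_le_normalizer _))
      (Subgroup.centralizer_le_normalizer _)
  have h2 : Cp p ↥(Subgroup.centralizer (B : Set G)) :=
    cp_of_normal hle (inf_le_right.trans (Coprime.le_normalizer_centralizer le_rfl)) h1
  refine ⟨cp_of_centralizer hB Subgroup.le_normalizer le_rfl (cp_of_eq ?_ h2), h2⟩
  exact (inf_eq_right.mpr (Subgroup.centralizer_le_normalizer _)).symm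

/-- From any subgroup of a `p`-subgroup to its normalizer. -/
theorem cp_normalizer_of_le {C U : Subgroup G} (hU : IsPGroup p U) (hCU : C ≤ U)
    (h : Cp p ↥(Subgroup.normalizer (C : Set G))) : Cp p ↥(Subgroup.normalizer (U : Set G)) := by
  revert hCU h
  induction C using WellFoundedGT.induction with
  | _ C ih =>
  intro hCU h
  rcases eq_or_lt_of_le hCU with e | hlt
  · subst e; exact h
  have hlt' : C < U ⊓ Subgroup.normalizer (C : Set G) := by
    refine lt_of_le_of_ne (le_inf hCU Subgroup.le_normalizer) fun e => ?_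
    haveI := hU.isNilpotent
    have h1 := Group.normalizerCondition_of_isNilpotent (G := U) (C.subgroupOf U)
      (lt_top_iff_ne_top.mpr fun e' => hlt.not_ge (Subgroup.subgroupOf_eq_top.mp e'))
    refine h1.not_ge fun x hx => ?_
    rw [← Subgroup.subgroupOf_normalizer_eq hCU, Subgroup.mem_subgroupOf] at hx
    exact Subgroup.mem_subgroupOf.mpr (e.ge ⟨x.2, hx⟩)
  exact ih _ hlt' inf_le_left (cp_step (hU.to_le inf_le_left) hlt'.le inf_le_right h).1

/-- From the centralizer of an element of a `p`-subgroup to its normalizer. -/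
theorem cp_normalizer_of_mem {z : G} {U : Subgroup G} (hU : IsPGroup p U) (hz : z ∈ U)
    (h : Cp p ↥(Subgroup.centralizer ({z} : Set G))) : Cp p ↥(Subgroup.normalizer (U : Set G)) := by
  have hzU : Subgroup.zpowers z ≤ U := Subgroup.zpowers_le.mpr hz
  have e : Subgroup.centralizer ((Subgroup.zpowers z : Subgroup G) : Set G) =
      Subgroup.centralizer ({z} : Set G) := by
    rw [Subgroup.zpowers_eq_closure, Subgroup.centralizer_closure]
  refine cp_normalizer_of_le hU hzU (cp_of_centralizer (hU.to_le hzU) Subgroup.le_normalizer le_rfl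
    (cp_of_eq ?_ h))
  rw [← e, inf_eq_right.mpr (Subgroup.centralizer_le_normalizer _)]

/-- A nontrivial `p`-subgroup normalized by a `p`-group has an element of order `p` central in the
latter. -/
theorem exists_central_orderOf {T R : Subgroup G} (hT : IsPGroup p T) (hR : R ≠ ⊥) (hRT : R ≤ T)
    (hn : T ≤ Subgroup.normalizer (R : Set G)) :
    ∃ z ∈ R, orderOf z = p ∧ ∀ t ∈ T, t * z = z * t := by
  haveI := hT.isNilpotent
  haveI : (R.subgroupOf T).Normal := (Subgroup.normal_subgroupOf_iff_le_normalizer hRT).mpr hn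
  have hne : R.subgroupOf T ≠ ⊥ := by
    rw [Ne, Subgroup.subgroupOf_eq_bot, disjoint_iff, inf_eq_left.mpr hRT]
    exact hR
  set Z := R.subgroupOf T ⊓ Subgroup.center T with hZ
  have hZp : IsPGroup p Z := hT.to_subgroup Z
  have hZ1 : Z ≠ ⊥ := Critical.inf_center_ne_bot _ hne
  obtain ⟨k, hk⟩ := hZp.exists_card_eq
  have hd : p ∣ Nat.card Z := by
    rcases k with _ | k
    · rw [pow_zero] at hk
      exact absurd (Subgroup.card_eq_one.mp hk) hZ1
    · exact hk ▸ dvd_pow_self p k.succ_ne_zero
  obtain ⟨⟨⟨z, hzT⟩, hzR, hzc⟩, hz⟩ := exists_prime_orderOf_dvd_card' (G := Z) p hd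
  refine ⟨z, hzR, ?_, fun t ht => ?_⟩
  · rwa [← Subgroup.orderOf_coe, ← Subgroup.orderOf_coe] at hz
  · exact congrArg Subtype.val (Subgroup.mem_center_iff.mp hzc ⟨t, ht⟩)

/-- The conjugate of a centralizer. -/
theorem cp_centralizer_conj {z : G} (g : G) (h : Cp p ↥(Subgroup.centralizer ({z} : Set G))) :
    Cp p ↥(Subgroup.centralizer ({g * z * g⁻¹} : Set G)) := by
  refine cp_of_eq ?_ (cp_congr ((MulAut.conj g).subgroupMap _) h)
  ext x
  constructor
  · rintro ⟨y, hy, rfl⟩
    rw [SetLike.mem_coe, Subgroup.mem_centralizer_singleton_iff] at hy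
    rw [Subgroup.mem_centralizer_singleton_iff]
    show g * y * g⁻¹ * (g * z * g⁻¹) = g * z * g⁻¹ * (g * y * g⁻¹)
    simpa [mul_assoc] using congrArg (fun y => g * y * g⁻¹) hy
  · intro hx
    rw [Subgroup.mem_centralizer_singleton_iff] at hx
    refine ⟨g⁻¹ * x * g, ?_, ?_⟩
    · rw [SetLike.mem_coe, Subgroup.mem_centralizer_singleton_iff]
      simpa [mul_assoc] using congrArg (fun y => g⁻¹ * y * g) hx
    · show g * (g⁻¹ * x * g) * g⁻¹ = x
      group

theorem generalizedFitting_iff {H : Subgroup G} :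
    Cfsg.generalizedFittingSubgroup H = Cfsg.pCore p H ↔ Cp p H :=
  Layer.generalizedFitting_eq_pCore_iff

/-- `C_H(O_p(H)) ≤ O_p(H)` when there are no components and `O_{p'}(H) = 1`. -/
theorem cp_of_no_component {H : Type*} [Group H] [Finite H] (hO : Cfsg.pPrimeCore p H = ⊥)
    (hc : ∀ K : Subgroup H, ¬ Cfsg.IsComponent K) : Cp p H :=
  Layer.centralizer_pCore_le_iff.mpr ⟨Layer.layer_eq_bot_iff.mpr hc, hO⟩

end CfsgLib.CharCore
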