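import Cfsg.Agent.Lib.Layer.CharP
import Cfsg.Agent.S2896

/-!
Subnormal subgroups: inheritance of `C(O_p) ≤ O_p` and of parabolic characteristic.
-/

set_option autoImplicit false
set_option linter.style.haveILetI false
set_option linter.unusedSectionVars false

namespace CfsgLib.CharCore

variable {G : Type*} [Group G] [Finite G] {p : ℕ} [Fact p.Prime]

theorem cp_of_isSubnormal {M : Subgroup G} (hM : M.IsSubnormal) (h : Cp p G) : Cp p M := by
  induction hM with
  | top => exact cp_congr Subgroup.topEquiv.symm h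
  | step M K hle _ hn ih =>
    exact cp_of_normal hle
      ((Subgroup.normal_subgroupOf_iff_le_normalizer hle).mp hn) ih

/-- A Sylow subgroup meets a subnormal subgroup in a Sylow subgroup. -/
theorem not_dvd_relIndex_of_isSubnormal {M : Subgroup G} (hM : M.IsSubnormal) (S : Sylow p G) :
    ¬ p ∣ (S : Subgroup G).relIndex M := by
  induction hM with
  | top => rw [Subgroup.relIndex_top_right]; exact S.not_dvd_index
  | step M K hle _ hn ih =>
    intro hd
    apply ih
    rw [← Subgroup.relIndex_subgroupOf hle] at hd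
    haveI := hn
    exact hd.trans (Fitting.relIndex_dvd_index_of_normal_right _ _)

/-- Parabolic characteristic passes to a subnormal subgroup whose Sylow centre lies in that of `G`. -/
theorem parabolic_of_isSubnormal (hG : Cfsg.IsOfParabolicCharacteristic p G) (S : Sylow p G)
    {G₁ : Subgroup G} (hsn : G₁.IsSubnormal)
    (hle : ∀ z : G, z ∈ (S : Subgroup G) ⊓ G₁ →
      z ∈ Subgroup.centralizer (((S : Subgroup G) ⊓ G₁ : Subgroup G) : Set G) → z ^ p = 1 →
      z ∈ Subgroup.centralizer ((S : Subgroup G) : Set G)) :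
    Cfsg.IsOfParabolicCharacteristic p ↥G₁ := by
  intro R hR hR1 hpar
  have hdiv₁ : p ∣ Nat.card G₁ := by
    obtain ⟨k, hk⟩ := hR.exists_card_eq
    rcases k with _ | k
    · rw [pow_zero] at hk
      exact absurd (Subgroup.card_eq_one.mp hk) hR1
    · exact (hk ▸ dvd_pow_self p k.succ_ne_zero).trans (Subgroup.card_subgroup_dvd_card R)
  have hdiv : p ∣ Nat.card G := hdiv₁.trans (Subgroup.card_subgroup_dvd_card G₁)
  set S₁ := (S.2.comap_of_injective G₁.subtype G₁.subtype_injective).toSylow
    (not_dvd_relIndex_of_isSubnormal hsn S)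
  refine (Cfsg.Agent.S2896.result hdiv₁ S₁ ⊥ bot_le).2.1.mpr (fun z hz1 hz => ?_) R hR hR1 hpar
  rw [generalizedFitting_iff]
  obtain ⟨hzZ, hzp⟩ : z ∈ (S₁ : Subgroup G₁) ⊓ Subgroup.centralizer ((S₁ : Subgroup G₁) : Set G₁) ∧
      z ^ p = 1 := by
    refine ⟨(Subgroup.closure_le _).mpr (fun x hx => hx.1) hz, ?_⟩
    induction hz using Subgroup.closure_induction with
    | mem x hx => exact hx.2
    | one => exact one_pow p
    | mul x y hx hy ihx ihy =>
      have hx' := (Subgroup.closure_le _).mpr (fun x hx => hx.1) hx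
      have hy' := (Subgroup.closure_le _).mpr (fun x hx => hx.1) hy
      rcases eq_or_ne x 1 with rfl | hx1
      · rw [one_mul]; rcases eq_or_ne y 1 with rfl | hy1
        · exact one_pow p
        · exact ihy hy1
      rcases eq_or_ne y 1 with rfl | hy1
      · rw [mul_one]; exact ihx hx1
      rw [(show Commute x y from hy'.2 x hx'.1).mul_pow, ihx hx1, ihy hy1, one_mul]
    | inv x hx ih => rw [inv_pow, ih (fun e => hz1 (by rw [e, inv_one])), inv_one]
  have hc := hle (z : G) ⟨hzZ.1, z.2⟩
    (fun s hs => congrArg Subtype.val (hzZ.2 ⟨s, hs.2⟩ hs.1))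
    (by rw [← Subgroup.coe_pow, hzp, Subgroup.coe_one])
  have h1 := (Cfsg.Agent.S2896.result hdiv S ⊥ bot_le).2.1.mp hG (z : G)
    (fun e => hz1 (Subtype.ext e))
    (Subgroup.subset_closure ⟨⟨hzZ.1, hc⟩, by rw [← Subgroup.coe_pow, hzp, Subgroup.coe_one]⟩)
  rw [generalizedFitting_iff] at h1
  have h2 := cp_of_isSubnormal (hsn.subgroupOf (K := Subgroup.centralizer ({(z : G)} : Set G))) h1
  refine cp_congr ?_ h2
  exact
    { toFun := fun x => ⟨⟨x, x.2⟩, Subgroup.mem_centralizer_singleton_iff.mpr (Subtype.ext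
        (Subgroup.mem_centralizer_singleton_iff.mp x.1.2))⟩
      invFun := fun y => ⟨⟨y, Subgroup.mem_centralizer_singleton_iff.mpr
        (congrArg Subtype.val (Subgroup.mem_centralizer_singleton_iff.mp y.2))⟩, y.1.2⟩
      left_inv := fun x => rfl
      right_inv := fun y => rfl
      map_mul' := fun x y => rfl }

theorem isPGroup_generalizedFitting_iff {H : Type*} [Group H] [Finite H] :
    IsPGroup p (Cfsg.generalizedFittingSubgroup H) ↔ Cp p H := by
  refine ⟨fun h => ?_, fun h => ?_⟩
  · rw [Cp, ← Layer.generalizedFitting_eq_pCore_iff]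
    exact le_antisymm (Fitting.le_pCore inferInstance h)
      ((Fitting.pCore_le_fittingSubgroup p).trans Layer.fittingSubgroup_le_generalizedFitting)
  · rw [Layer.generalizedFitting_eq_pCore_iff.mpr h]
    exact Fitting.pCore_isPGroup p

end CfsgLib.CharCore
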