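import Cfsg.Agent.Lib.Layer.CharP
import Cfsg.Agent.Lib.PReduced.Largest
import Cfsg.Agent.Lib.Transfer.Alperin
import Cfsg.Prelude.Def_LocalStructure

/-!
Large subgroups: weak closedness, and centralizers of `O_p` of subgroups containing one.
-/

set_option autoImplicit false
set_option linter.style.haveILetI false
set_option linter.unusedSectionVars false

namespace CfsgLib.Large

open CfsgLib

variable {H : Type*} [Group H] [Finite H] {p : ℕ} [Fact p.Prime] {Q : Subgroup H}

/-- The normalizer of a `p`-group containing a large subgroup `Q` normalizes `Q`. -/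
theorem normalizer_le (hQ1 : Q ≠ ⊥) (hL : Cfsg.IsLarge Q) {T : Subgroup H} (hT : IsPGroup p T)
    (hQT : Q ≤ T) : Subgroup.normalizer (T : Set H) ≤ Subgroup.normalizer (Q : Set H) := by
  have hT1 : T ≠ ⊥ := fun e => hQ1 (le_bot_iff.mp (e ▸ hQT))
  obtain ⟨z, hzT, hz, hzc⟩ := CharCore.exists_central_orderOf hT hT1 le_rfl Subgroup.le_normalizer
  set U := T ⊓ Subgroup.centralizer (T : Set H) with hU
  have hU1 : U ≠ ⊥ := by
    intro e
    have h1 : z ∈ U := ⟨hzT, fun t ht => hzc t ht⟩
    rw [e, Subgroup.mem_bot] at h1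
    rw [h1, orderOf_one] at hz
    exact (Fact.out : p.Prime).ne_one hz.symm
  refine le_trans ?_ (hL.2 U (inf_le_right.trans (Subgroup.centralizer_le hQT)) hU1)
  exact Coprime.le_normalizer_inf_of_le le_rfl (Coprime.le_normalizer_centralizer le_rfl)

/-- A large subgroup is weakly closed in every `p`-group. -/
theorem eq_of_conj (hQp : IsPGroup p Q) (hQ1 : Q ≠ ⊥) (hL : Cfsg.IsLarge Q) {g : H}
    (h : Q.map (MulAut.conj g).toMonoidHom ≤ Subgroup.normalizer (Q : Set H)) :
    Q.map (MulAut.conj g).toMonoidHom = Q := by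
  obtain ⟨T, hT⟩ := (IsPGroup.to_sup_of_normal_right' (hQp.map (MulAut.conj g).toMonoidHom) hQp h
    ).exists_le_sylow
  have hQT : Q ≤ (T : Subgroup H) := le_sup_right.trans hT
  have hQT' : Q ≤ ((g⁻¹ • T : Sylow p H) : Subgroup H) := by
    intro x hx
    rw [Sylow.coe_subgroup_smul, Subgroup.mem_pointwise_smul_iff_inv_smul_mem]
    have h1 : g * x * g⁻¹ ∈ (T : Subgroup H) :=
      hT ((le_sup_left : _ ≤ _ ⊔ Q) (Subgroup.mem_map_of_mem _ hx))
    simpa [MulAut.smul_def, MulAut.conj_apply] using h1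
  have hN : (T : Subgroup H) ≤ Subgroup.normalizer (Q : Set H) :=
    Subgroup.le_normalizer.trans (normalizer_le hQ1 hL T.2 hQT)
  have hN' : ((g⁻¹ • T : Sylow p H) : Subgroup H) ≤ Subgroup.normalizer (Q : Set H) :=
    Subgroup.le_normalizer.trans (normalizer_le hQ1 hL (g⁻¹ • T).2 hQT')
  obtain ⟨n, hn⟩ := MulAction.exists_smul_eq (Subgroup.normalizer (Q : Set H)) (T.subtype hN)
    ((g⁻¹ • T).subtype hN')
  rw [Sylow.smul_subtype] at hn
  have h2 := Sylow.subtype_injective hn
  have h3 : (g * (n : H)) • T = T := by rw [mul_smul, show (n : H) • T = g⁻¹ • T from h2, smul_inv_smul]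
  have h4 : g * (n : H) ∈ Subgroup.normalizer (Q : Set H) :=
    normalizer_le hQ1 hL T.2 hQT (Sylow.smul_eq_iff_mem_normalizer.mp h3)
  have h5 : g ∈ Subgroup.normalizer (Q : Set H) := by
    simpa using mul_mem h4 (inv_mem n.2)
  ext x
  rw [Transfer.mem_conj_map_iff]
  exact (Subgroup.mem_normalizer_iff''.mp h5 x).symm

/-- `C_H(O_p(L))` is a `p`-group when `L` contains a large subgroup. -/
theorem isPGroup_centralizer (hQp : IsPGroup p Q) (hL : Cfsg.IsLarge Q)
    {L : Subgroup H} (hQL : Q ≤ L) (hA1 : Cfsg.pCore p L ≠ ⊥) :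
    IsPGroup p (Subgroup.centralizer (Cfsg.pCoreOf p L : Set H)) := by
  set A := Cfsg.pCoreOf p L with hA
  set K := Subgroup.centralizer (A : Set H) with hK
  have hLK : L ≤ Subgroup.normalizer (K : Set H) :=
    Coprime.le_normalizer_centralizer (PReduced.le_normalizer_pCoreOf p L)
  have hAne : A ≠ ⊥ := fun e =>
    hA1 ((Subgroup.map_eq_bot_iff_of_injective _ L.subtype_injective).mp e)
  have hAp : IsPGroup p A := PReduced.isPGroup_pCoreOf p L
  have hQA : Q ≤ Subgroup.normalizer (A : Set H) := hQL.trans (PReduced.le_normalizer_pCoreOf p L)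
  obtain ⟨z, hzA, hz, hzc⟩ := CharCore.exists_central_orderOf
    (IsPGroup.to_sup_of_normal_right' hQp hAp hQA) hAne le_sup_right
    (sup_le hQA Subgroup.le_normalizer)
  have hKN : K ≤ Subgroup.normalizer (Q : Set H) := by
    refine le_trans ?_ (hL.2 (Subgroup.zpowers z) (Subgroup.zpowers_le.mpr fun q hq =>
      hzc q (Subgroup.mem_sup_left hq)) ?_)
    · exact (Subgroup.centralizer_le (Subgroup.zpowers_le.mpr hzA)).trans
        (Subgroup.centralizer_le_normalizer _)
    · intro e
      rw [Subgroup.zpowers_eq_bot] at e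
      rw [e, orderOf_one] at hz
      exact (Fact.out : p.Prime).ne_one hz.symm
  -- `B = O_p(K)` meets `L` inside `A`
  set B := Cfsg.pCoreOf p K with hB
  have hBK : B ≤ K := Subgroup.map_subtype_le _
  have hLB : L ≤ Subgroup.normalizer (B : Set H) := by
    have : (Cfsg.pCore p K).Characteristic :=
      Subgroup.characteristic_iff_map_eq.mpr fun φ => CharCore.map_pCore φ
    exact PSolvable.le_normalizer_map_of_characteristic hLK _
  have hBL : B ⊓ L ≤ A := PReduced.le_pCoreOf inf_le_right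
    (Coprime.le_normalizer_inf_of_le hLB Subgroup.le_normalizer)
    ((PReduced.isPGroup_pCoreOf p K).to_le inf_le_left)
  refine PSolvable.isPGroup_of_forall_coprime fun x hx hxp => ?_
  have hxC : x ∈ Subgroup.centralizer (Q : Set H) := by
    intro q hq
    set y := q * x * q⁻¹ * x⁻¹ with hy
    have hyQ : y ∈ Q := by
      rw [hy, show q * x * q⁻¹ * x⁻¹ = q * (x * q⁻¹ * x⁻¹) by group]
      exact Q.mul_mem hq ((Subgroup.mem_normalizer_iff.mp (hKN hx) _).mp (Q.inv_mem hq))
    have hyK : y ∈ K :=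
      K.mul_mem ((Subgroup.mem_normalizer_iff.mp (hLK (hQL hq)) x).mp hx) (K.inv_mem hx)
    have hyB : y ∈ B := PReduced.le_pCoreOf inf_le_right
      (Coprime.le_normalizer_inf_of_le hKN Subgroup.le_normalizer) (hQp.to_le inf_le_left)
      ⟨hyQ, hyK⟩
    have hcomm : Commute y x := hx y (hBL ⟨hyB, hQL hyQ⟩)
    obtain ⟨k, hk⟩ := IsPGroup.iff_orderOf.mp hQp ⟨y, hyQ⟩
    rw [← Subgroup.orderOf_coe] at hk
    have h1 : orderOf (y * x) = orderOf x := by
      rw [show y * x = q * x * q⁻¹ by rw [hy]; group, Transfer.orderOf_conj]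
    rw [hcomm.orderOf_mul_eq_mul_orderOf_of_coprime
      (by rw [show orderOf y = p ^ k from hk]; exact Nat.Coprime.pow_left _ hxp.symm)] at h1
    have h2 : y = 1 :=
      orderOf_eq_one_iff.mp ((Nat.mul_eq_right (orderOf_pos x).ne').mp h1)
    rw [hy, mul_inv_eq_one] at h2
    exact mul_inv_eq_iff_eq_mul.mp h2
  exact PSolvable.eq_one_of_mem_of_mem hQp (by rwa [Nat.card_zpowers]) (hL.1 hxC)
    (Subgroup.mem_zpowers x)

/-- Conjugates of large subgroups are large. -/
theorem isLarge_map (g : H) (hL : Cfsg.IsLarge Q) :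
    Cfsg.IsLarge (Q.map (MulAut.conj g).toMonoidHom) := by
  set Q' := Q.map (MulAut.conj g).toMonoidHom with hQ'
  have hcen : ∀ x, x ∈ Subgroup.centralizer (Q' : Set H) ↔
      g⁻¹ * x * g ∈ Subgroup.centralizer (Q : Set H) := by
    intro x
    constructor
    · intro hx q hq
      have h1 : g * q * g⁻¹ * x = x * (g * q * g⁻¹) := hx _ (Subgroup.mem_map_of_mem _ hq)
      calc q * (g⁻¹ * x * g) = g⁻¹ * (g * q * g⁻¹ * x) * g := by group
        _ = g⁻¹ * (x * (g * q * g⁻¹)) * g := by rw [h1]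
        _ = g⁻¹ * x * g * q := by group
    · rintro hx _ ⟨q, hq, rfl⟩
      have h1 := hx q hq
      show g * q * g⁻¹ * x = x * (g * q * g⁻¹)
      calc g * q * g⁻¹ * x = g * (q * (g⁻¹ * x * g)) * g⁻¹ := by group
        _ = g * (g⁻¹ * x * g * q) * g⁻¹ := by rw [h1]
        _ = x * (g * q * g⁻¹) := by group
  refine ⟨fun x hx => Transfer.mem_conj_map_iff.mpr (hL.1 ((hcen x).mp hx)),
    fun U hU hU1 n hn => ?_⟩
  set U₀ := U.map (MulAut.conj g⁻¹).toMonoidHom with hU₀
  have h2 : U₀ ≤ Subgroup.centralizer (Q : Set H) := by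
    rintro _ ⟨u, hu, rfl⟩
    have := (hcen u).mp (hU hu)
    simpa [MulAut.conj_apply] using this
  have hn0 : g⁻¹ * n * g ∈ Subgroup.normalizer (U₀ : Set H) := by
    rw [hU₀, Transfer.normalizer_map_conj]
    exact ⟨n, hn, by simp [MulAut.conj_apply]⟩
  have h3 := hL.2 U₀ h2 (fun e => hU1 ((Subgroup.map_eq_bot_iff_of_injective _
    (MulAut.conj g⁻¹).injective).mp e)) hn0
  rw [hQ', Transfer.normalizer_map_conj, Transfer.mem_conj_map_iff]
  exact h3

/-- The centralizer of a nontrivial `p`-subgroup normalized by a large subgroup normalizes it. -/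
theorem centralizer_le_normalizer (hQp : IsPGroup p Q) (hL : Cfsg.IsLarge Q) {Y : Subgroup H}
    (hY : IsPGroup p Y) (hY1 : Y ≠ ⊥) (hQY : Q ≤ Subgroup.normalizer (Y : Set H)) :
    Subgroup.centralizer (Y : Set H) ≤ Subgroup.normalizer (Q : Set H) := by
  obtain ⟨z, hzY, hz, hzc⟩ := CharCore.exists_central_orderOf
    (IsPGroup.to_sup_of_normal_right' hQp hY hQY) hY1 le_sup_right
    (sup_le hQY Subgroup.le_normalizer)
  refine ((Subgroup.centralizer_le (Subgroup.zpowers_le.mpr hzY)).trans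
    (Subgroup.centralizer_le_normalizer _)).trans (hL.2 (Subgroup.zpowers z)
      (Subgroup.zpowers_le.mpr fun q hq => hzc q (Subgroup.mem_sup_left hq)) fun e => ?_)
  rw [Subgroup.zpowers_eq_bot] at e
  rw [e, orderOf_one] at hz
  exact (Fact.out : p.Prime).ne_one hz.symm

/-- Two conjugates of a large subgroup which centralize a common nontrivial subgroup are equal. -/
theorem eq_of_centralizer_inf (hQp : IsPGroup p Q) (hQ1 : Q ≠ ⊥) (hL : Cfsg.IsLarge Q) {g : H}
    (h : Subgroup.centralizer (Q : Set H) ⊓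
      Subgroup.centralizer (Q.map (MulAut.conj g).toMonoidHom : Set H) ≠ ⊥) :
    g ∈ Subgroup.normalizer (Q : Set H) := by
  have h1 : Q.map (MulAut.conj g).toMonoidHom = Q := by
    refine eq_of_conj hQp hQ1 hL (le_trans ?_ (hL.2 _ inf_le_left h))
    refine le_trans ?_ (Subgroup.centralizer_le_normalizer _)
    exact Subgroup.le_centralizer_iff.mp inf_le_right
  rw [Subgroup.mem_normalizer_iff'']
  intro x
  conv_lhs => rw [← h1]
  exact Transfer.mem_conj_map_iff

end CfsgLib.Large
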