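import Mathlib
import Cfsg.Prelude.Def_RootSubgroups
import Cfsg.Agent.Lib.PSolvable.Core

/-!
The solvable radical and subnormal subgroups: solvable, `p`- and `p'`-subnormal subgroups lie in
the corresponding normal radical.
-/

set_option autoImplicit false
set_option linter.style.haveILetI false

namespace CfsgLib.Layer

universe u

variable {G : Type*} [Group G]

theorem solvableRadical_normal (G : Type*) [Group G] : (Cfsg.solvableRadical G).Normal :=
  Subgroup.sSup_normal _ fun _ hN => hN.1

instance solvableRadical_characteristic : (Cfsg.solvableRadical G).Characteristic := by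
  rw [Subgroup.characteristic_iff_map_le]
  intro φ
  rw [Cfsg.solvableRadical, Subgroup.map_le_iff_le_comap]
  refine sSup_le fun N hN => ?_
  rw [← Subgroup.map_le_iff_le_comap]
  exact le_sSup ⟨hN.1.map _ φ.surjective, CfsgLib.Coprime.isSolvable_map _ hN.2⟩

theorem le_solvableRadical {N : Subgroup G} (hn : N.Normal) (hs : Group.IsSolvable N) :
    N ≤ Cfsg.solvableRadical G :=
  le_sSup ⟨hn, hs⟩

theorem solvableRadical_isSolvable [Finite G] : Group.IsSolvable (Cfsg.solvableRadical G) := by
  classical
  set 𝒮 : Set (Subgroup G) := {N | N.Normal ∧ Group.IsSolvable N}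
  have key : ∀ T : Finset (Subgroup G), (T : Set (Subgroup G)) ⊆ 𝒮 →
      (T.sup id).Normal ∧ Group.IsSolvable ↥(T.sup id) := by
    intro T
    induction T using Finset.induction_on with
    | empty =>
      intro _
      rw [Finset.sup_empty]
      exact ⟨inferInstance, inferInstance⟩
    | @insert N T hN ih =>
      intro hsub
      rw [Finset.coe_insert, Set.insert_subset_iff] at hsub
      obtain ⟨h1, h2⟩ := ih hsub.2
      haveI := hsub.1.1
      haveI := h1
      rw [Finset.sup_insert, id_eq]
      exact ⟨Subgroup.sup_normal _ _, CfsgLib.Coprime.isSolvable_sup_of_le_normalizer hsub.1.2 h2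
        Subgroup.le_normalizer_of_normal⟩
  haveI : Finite (Subgroup G) := Finite.of_injective (fun H => (H : Set G)) SetLike.coe_injective
  have heq : Cfsg.solvableRadical G = (Set.toFinite 𝒮).toFinset.sup id := by
    rw [Finset.sup_id_eq_sSup, Set.Finite.coe_toFinset]
    rfl
  rw [heq]
  exact (key _ (by simp)).2

/-- Induction over a subnormal chain: a property of finite groups closed under passing a
characteristic radical up to a normal overgroup. -/
theorem subnormal_induction (P : ∀ (X : Type u) [Group X], Subgroup X → Prop)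
    (R : ∀ (X : Type u) [Group X], Subgroup X)
    (htop : ∀ (X : Type u) [Group X] [Finite X], P X ⊤ → (⊤ : Subgroup X) ≤ R X)
    (hres : ∀ (X : Type u) [Group X] [Finite X] (K : Subgroup X) (S : Subgroup X), S ≤ K → P X S →
      P K (S.subgroupOf K))
    (hup : ∀ (X : Type u) [Group X] [Finite X] (K : Subgroup X), K.Normal →
      (R K).map K.subtype ≤ R X)
    {X : Type u} [Group X] [Finite X] {S : Subgroup X} (hS : S.IsSubnormal) (hP : P X S) :
    S ≤ R X := by
  obtain ⟨k, hk⟩ : ∃ k, Nat.card X = k := ⟨_, rfl⟩
  induction k using Nat.strong_induction_on generalizing X with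
  | _ k IH =>
    rcases eq_or_ne S ⊤ with rfl | hne
    · exact htop X hP
    obtain ⟨K, hK, hSK, hKlt⟩ := hS.exists_normal_and_le_and_lt_top_of_ne hne
    have hlt : Nat.card K < k := hk ▸ lt_of_le_of_ne (Subgroup.card_le_card_group K)
      fun e => hKlt.ne (Subgroup.eq_top_of_card_eq K e)
    have h1 := IH _ hlt (X := K) hS.subgroupOf (hres X K S hSK hP) rfl
    have h2 := Subgroup.map_mono (f := K.subtype) h1
    rw [Subgroup.map_subgroupOf_eq_of_le hSK] at h2
    exact h2.trans (hup X K hK)

theorem le_solvableRadical_of_isSubnormal {X : Type u} [Group X] [Finite X] {S : Subgroup X}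
    (hS : S.IsSubnormal) (hs : Group.IsSolvable S) : S ≤ Cfsg.solvableRadical X := by
  refine subnormal_induction (fun X _ S => Group.IsSolvable S)
    (fun X _ => Cfsg.solvableRadical X) ?_ ?_ ?_ hS hs
  · intro X _ _ h
    exact le_solvableRadical inferInstance h
  · intro X _ _ K S hSK h
    exact Group.isSolvable_of_isSolvable_injective
      (f := (Subgroup.subgroupOfEquivOfLe hSK).toMonoidHom)
      (Subgroup.subgroupOfEquivOfLe hSK).injective
  · intro X _ _ K hK
    haveI := hK
    exact le_solvableRadical (PSolvable.normal_map_of_characteristic K _)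
      (CfsgLib.Coprime.isSolvable_map _ solvableRadical_isSolvable)

theorem le_pCore_of_isSubnormal {X : Type u} [Group X] [Finite X] {p : ℕ} {S : Subgroup X}
    (hS : S.IsSubnormal) (hs : IsPGroup p S) : S ≤ Cfsg.pCore p X := by
  refine subnormal_induction (fun X _ S => IsPGroup p S) (fun X _ => Cfsg.pCore p X) ?_ ?_ ?_ hS hs
  · intro X _ _ h
    exact Fitting.le_pCore inferInstance h
  · intro X _ _ K S _ h
    exact h.comap_of_injective K.subtype K.subtype_injective
  · intro X _ _ K hK
    haveI := hK
    exact PSolvable.map_pCore_le K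

theorem le_pPrimeCore_of_isSubnormal {X : Type u} [Group X] [Finite X] {p : ℕ} [Fact p.Prime]
    {S : Subgroup X} (hS : S.IsSubnormal) (hs : (Nat.card S).Coprime p) :
    S ≤ Cfsg.pPrimeCore p X := by
  refine subnormal_induction (fun X _ S => (Nat.card S).Coprime p)
    (fun X _ => Cfsg.pPrimeCore p X) ?_ ?_ ?_ hS hs
  · intro X _ _ h
    exact Transfer.le_pPrimeCore inferInstance h
  · intro X _ _ K S hSK h
    rw [Nat.card_congr (Subgroup.subgroupOfEquivOfLe hSK).toEquiv]
    exact h
  · intro X _ _ K hK
    haveI := hK
    exact PSolvable.map_pPrimeCore_le K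

theorem le_fittingSubgroup_of_isSubnormal {X : Type u} [Group X] [Finite X]
    {S : Subgroup X} (hS : S.IsSubnormal) (hs : Group.IsNilpotent S) :
    S ≤ Cfsg.fittingSubgroup X := by
  refine subnormal_induction (fun X _ S => Group.IsNilpotent S)
    (fun X _ => Cfsg.fittingSubgroup X) ?_ ?_ ?_ hS hs
  · intro X _ _ h
    exact Fitting.le_fittingSubgroup inferInstance h
  · intro X _ _ K S hSK h
    exact Group.nilpotent_of_mulEquiv (Subgroup.subgroupOfEquivOfLe hSK).symm
  · intro X _ _ K hK
    haveI := hK
    haveI : (Cfsg.fittingSubgroup K).Characteristic := by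
      rw [Subgroup.characteristic_iff_map_le]
      intro φ
      rw [Cfsg.fittingSubgroup, Subgroup.map_le_iff_le_comap]
      refine sSup_le fun N hN => ?_
      rw [← Subgroup.map_le_iff_le_comap]
      haveI := hN.2
      exact le_sSup ⟨hN.1.map _ φ.surjective,
        Group.nilpotent_of_surjective _ (φ.toMonoidHom.subgroupMap_surjective N)⟩
    haveI := Fitting.fittingSubgroup_isNilpotent (G := K)
    exact Fitting.le_fittingSubgroup (PSolvable.normal_map_of_characteristic K _)
      (Group.nilpotent_of_surjective _ (K.subtype.subgroupMap_surjective _))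

end CfsgLib.Layer
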