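import Mathlib
import Cfsg.Prelude.Def_Local
import Cfsg.Agent.Lib.Layer.Radical

/-!
Quasisimple groups, components, the layer and the generalized Fitting subgroup.
-/

set_option autoImplicit false
set_option linter.style.haveILetI false
set_option linter.unusedSectionVars false

open scoped commutatorElement
open Pointwise

namespace CfsgLib.Layer

open Cfsg

variable {G : Type*} [Group G]

/-! ### Quasisimple groups -/

section Quasisimple

variable {X : Type*} [Group X]

theorem nontrivial_of_isQuasisimple (hX : IsQuasisimple X) : Nontrivial X := by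
  haveI := hX.2
  exact (QuotientGroup.mk_surjective (s := Subgroup.center X)).nontrivial

theorem not_isSolvable_of_isQuasisimple (hX : IsQuasisimple X) : ¬ Group.IsSolvable X := by
  haveI := nontrivial_of_isQuasisimple hX
  haveI := hX.1
  exact Group.IsPerfect.not_isSolvable X

theorem center_ne_top_of_isQuasisimple (hX : IsQuasisimple X) : Subgroup.center X ≠ ⊤ := fun h => by
  refine not_isSolvable_of_isQuasisimple hX (Group.isSolvable_of_comm fun a b => ?_)
  exact Subgroup.mem_center_iff.mp (h ▸ Subgroup.mem_top b) a

theorem eq_top_of_sup_center_eq_top [Group.IsPerfect X] {N : Subgroup X} [N.Normal]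
    (h : N ⊔ Subgroup.center X = ⊤) : N = ⊤ := by
  rw [eq_top_iff, ← Group.IsPerfect.commutator_eq_top (G := X), commutator_def, Subgroup.commutator_le]
  intro a _ b _
  rw [← QuotientGroup.eq_one_iff, ← QuotientGroup.mk'_apply, map_commutatorElement,
    commutatorElement_eq_one_iff_mul_comm]
  obtain ⟨n, hn, z, hz, rfl⟩ := Subgroup.mem_sup_of_normal_left.mp (h.ge (Subgroup.mem_top a))
  have hn1 : QuotientGroup.mk' N n = 1 := (QuotientGroup.eq_one_iff n).mpr hn
  rw [map_mul, hn1, one_mul, ← map_mul, ← map_mul, Subgroup.mem_center_iff.mp hz b]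

theorem eq_top_or_le_center_of_normal (hX : IsQuasisimple X) (N : Subgroup X) [N.Normal] :
    N = ⊤ ∨ N ≤ Subgroup.center X := by
  haveI := hX.1
  haveI := hX.2
  set f := QuotientGroup.mk' (Subgroup.center X)
  have hf : Function.Surjective f := QuotientGroup.mk'_surjective _
  rcases (Subgroup.Normal.map inferInstance f hf : (N.map f).Normal).eq_bot_or_eq_top with h | h
  · right
    rwa [Subgroup.map_eq_bot_iff, QuotientGroup.ker_mk'] at h
  · left
    refine eq_top_of_sup_center_eq_top ?_
    have h2 := congrArg (Subgroup.comap f) h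
    rwa [Subgroup.comap_map_eq, QuotientGroup.ker_mk', Subgroup.comap_top] at h2

theorem eq_top_or_le_center_of_isSubnormal (hX : IsQuasisimple X) {H : Subgroup X}
    (hH : H.IsSubnormal) : H = ⊤ ∨ H ≤ Subgroup.center X := by
  rcases hH.lt_normal with h | ⟨K, hK, hHK, hlt⟩
  · exact Or.inl h
  · haveI := hK
    exact Or.inr (hHK.trans ((eq_top_or_le_center_of_normal hX K).resolve_left hlt.ne))

/-- A perfect group modulo a central subgroup with simple quotient is quasisimple. -/
theorem isQuasisimple_of_normal_le_center [Group.IsPerfect X] [Nontrivial X]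
    (h : ∀ N : Subgroup X, N.Normal → N = ⊤ ∨ N ≤ Subgroup.center X) : IsQuasisimple X := by
  refine ⟨inferInstance, ?_⟩
  haveI : Nontrivial (X ⧸ Subgroup.center X) := QuotientGroup.nontrivial_iff.mpr fun hc =>
    Group.IsPerfect.not_isSolvable X (Group.isSolvable_of_comm fun a b =>
      Subgroup.mem_center_iff.mp (hc ▸ Subgroup.mem_top b) a)
  refine { eq_bot_or_eq_top_of_normal := fun M hM => ?_ }
  set f := QuotientGroup.mk' (Subgroup.center X)
  have hf : Function.Surjective f := QuotientGroup.mk'_surjective _
  rw [← Subgroup.map_comap_eq_self_of_surjective hf M]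
  rcases h (M.comap f) (hM.comap f) with h1 | h1
  · right
    rw [h1, Subgroup.map_top_of_surjective f hf]
  · left
    rw [Subgroup.map_eq_bot_iff, QuotientGroup.ker_mk']
    exact h1

theorem isQuasisimple_of_mulEquiv {Y : Type*} [Group Y] (e : X ≃* Y) (hX : IsQuasisimple X) :
    IsQuasisimple Y := by
  haveI := hX.1
  haveI : Group.IsPerfect Y := Group.IsPerfect.ofSurjective (f := e.toMonoidHom) e.surjective
  haveI := nontrivial_of_isQuasisimple hX
  haveI : Nontrivial Y := e.toEquiv.nontrivial_congr.mp inferInstance
  refine isQuasisimple_of_normal_le_center fun N hN => ?_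
  haveI := hN.comap e.toMonoidHom
  rcases eq_top_or_le_center_of_normal hX (N.comap e.toMonoidHom) with h | h
  · left
    rw [← Subgroup.map_comap_eq_self_of_surjective (f := e.toMonoidHom) e.surjective N, h,
      Subgroup.map_top_of_surjective _ e.surjective]
  · right
    intro y hy
    rw [Subgroup.mem_center_iff]
    intro z
    have h1 := Subgroup.mem_center_iff.mp (h (x := e.symm y) (by
      rw [Subgroup.mem_comap]; simpa using hy)) (e.symm z)
    simpa using congrArg e h1

theorem isQuasisimple_congr {Y : Type*} [Group Y] (e : X ≃* Y) :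
    IsQuasisimple X ↔ IsQuasisimple Y :=
  ⟨isQuasisimple_of_mulEquiv e, isQuasisimple_of_mulEquiv e.symm⟩

/-- A nontrivial quotient of a quasisimple group is quasisimple. -/
theorem isQuasisimple_of_surjective {Y : Type*} [Group Y] [Nontrivial Y] {f : X →* Y}
    (hf : Function.Surjective f) (hX : IsQuasisimple X) : IsQuasisimple Y := by
  haveI := hX.1
  haveI : Group.IsPerfect Y := Group.IsPerfect.ofSurjective hf
  refine isQuasisimple_of_normal_le_center fun N hN => ?_
  haveI := hN.comap f
  rw [← Subgroup.map_comap_eq_self_of_surjective hf N]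
  rcases eq_top_or_le_center_of_normal hX (N.comap f) with h | h
  · exact Or.inl (by rw [h, Subgroup.map_top_of_surjective f hf])
  · right
    rintro _ ⟨x, hx, rfl⟩
    rw [Subgroup.mem_center_iff]
    intro z
    obtain ⟨z, rfl⟩ := hf z
    rw [← map_mul, Subgroup.mem_center_iff.mp (h hx) z, map_mul]

end Quasisimple

/-! ### Components -/

theorem isPerfect_of_isComponent {K : Subgroup G} (hK : IsComponent K) : ⁅K, K⁆ = K :=
  Subgroup.isPerfect_iff.mp hK.2.1

theorem not_isSolvable_of_isComponent {K : Subgroup G} (hK : IsComponent K) :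
    ¬ Group.IsSolvable K :=
  not_isSolvable_of_isQuasisimple hK.2

theorem ne_bot_of_isComponent {K : Subgroup G} (hK : IsComponent K) : K ≠ ⊥ := by
  rintro rfl
  exact not_isSolvable_of_isComponent hK inferInstance

theorem isComponent_map_subtype_iff {H : Subgroup G} (hH : H.IsSubnormal) (K : Subgroup H) :
    IsComponent K ↔ IsComponent (K.map H.subtype) := by
  have e := K.equivMapOfInjective H.subtype H.subtype_injective
  constructor
  · exact fun h => ⟨h.1.trans' hH, (isQuasisimple_congr e).mp h.2⟩
  · intro h
    refine ⟨?_, (isQuasisimple_congr e).mpr h.2⟩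
    have h1 := h.1.subgroupOf (K := H)
    rwa [Subgroup.subgroupOf, Subgroup.comap_map_eq_self_of_injective H.subtype_injective] at h1

theorem isComponent_subgroupOf {K H : Subgroup G} (hK : IsComponent K) (hKH : K ≤ H) :
    IsComponent (K.subgroupOf H) :=
  ⟨hK.1.subgroupOf, (isQuasisimple_congr (Subgroup.subgroupOfEquivOfLe hKH).symm).mp hK.2⟩

theorem isComponent_map_equiv {G' : Type*} [Group G'] (e : G ≃* G') {K : Subgroup G}
    (hK : IsComponent K) : IsComponent (K.map e.toMonoidHom) :=
  ⟨hK.1.map e.surjective,
    (isQuasisimple_congr (K.equivMapOfInjective e.toMonoidHom e.injective)).mp hK.2⟩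

theorem isComponent_conj {K : Subgroup G} (hK : IsComponent K) (g : G) :
    IsComponent (MulAut.conj g • K) :=
  isComponent_map_equiv (MulAut.conj g) hK

/-- The three subgroup lemma for a perfect subgroup. -/
theorem commutator_eq_bot_of_perfect {L H : Subgroup G} (hL : ⁅L, L⁆ = L)
    (h : ⁅⁅L, H⁆, L⁆ = ⊥) : ⁅L, H⁆ = ⊥ := by
  have h2 : ⁅⁅H, L⁆, L⁆ = ⊥ := by rwa [Subgroup.commutator_comm H L]
  have h3 := Subgroup.commutator_commutator_eq_bot_of_rotate (H₁ := L) (H₂ := L) (H₃ := H) h h2
  rwa [hL] at h3

theorem commutator_subgroupOf_eq_bot {A B N : Subgroup G} (hA : A ≤ N) (hB : B ≤ N) :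
    ⁅A.subgroupOf N, B.subgroupOf N⁆ = ⊥ ↔ ⁅A, B⁆ = ⊥ := by
  rw [← Subgroup.map_eq_bot_iff_of_injective (f := N.subtype) _ N.subtype_injective,
    Subgroup.map_commutator, Subgroup.map_subgroupOf_eq_of_le hA,
    Subgroup.map_subgroupOf_eq_of_le hB]

universe u

/-- A component lies in a subnormal subgroup or centralises it. -/
theorem le_or_commutator_eq_bot {G : Type u} [Group G] [Finite G] {L H : Subgroup G}
    (hL : IsComponent L) (hH : H.IsSubnormal) : L ≤ H ∨ ⁅L, H⁆ = ⊥ := by
  obtain ⟨k, hk⟩ : ∃ k, Nat.card G = k := ⟨_, rfl⟩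
  induction k using Nat.strong_induction_on generalizing G with
  | _ k IH =>
    have hlt : ∀ {M : Subgroup G}, M < ⊤ → Nat.card M < k := fun {M} hM =>
      hk ▸ lt_of_le_of_ne (Subgroup.card_le_card_group M)
        fun e => hM.ne (Subgroup.eq_top_of_card_eq M e)
    rcases hH.lt_normal with rfl | ⟨M, hM, hHM, hMlt⟩
    · exact Or.inl le_top
    haveI := hM
    by_cases hLM : L ≤ M
    · rcases IH _ (hlt hMlt) (G := M) (isComponent_subgroupOf hL hLM) hH.subgroupOf rfl with h | h
      · left
        have h2 := Subgroup.map_mono (f := M.subtype) h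
        rwa [Subgroup.map_subgroupOf_eq_of_le hLM, Subgroup.map_subgroupOf_eq_of_le hHM] at h2
      · exact Or.inr ((commutator_subgroupOf_eq_bot hLM hHM).mp h)
    suffices h : ⁅L, M⁆ = ⊥ from Or.inr (le_bot_iff.mp (h ▸ Subgroup.commutator_mono le_rfl hHM))
    rcases hL.1.lt_normal with rfl | ⟨N, hN, hLN, hNlt⟩
    · -- the group is quasisimple
      have hqs : IsQuasisimple G := (isQuasisimple_congr Subgroup.topEquiv).mp hL.2
      have h := (eq_top_or_le_center_of_normal hqs M).resolve_left hMlt.ne
      rw [Subgroup.commutator_comm, Subgroup.commutator_top_right_eq_bot_iff_le_center]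
      exact h
    haveI := hN
    have hnot : ¬ L.subgroupOf N ≤ (M ⊓ N).subgroupOf N := fun h => hLM (fun x hx => by
      have h1 := h (x := ⟨x, hLN hx⟩) (Subgroup.mem_subgroupOf.mpr hx)
      exact (Subgroup.mem_inf.mp (Subgroup.mem_subgroupOf.mp h1)).1)
    have h1 := (IH _ (hlt hNlt) (G := N) (isComponent_subgroupOf hL hLN)
      ((Subgroup.normal_inf_normal M N).isSubnormal).subgroupOf rfl).resolve_left hnot
    rw [commutator_subgroupOf_eq_bot hLN inf_le_right] at h1
    refine commutator_eq_bot_of_perfect (isPerfect_of_isComponent hL) ?_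
    rw [Subgroup.commutator_comm]
    refine le_bot_iff.mp (h1 ▸ Subgroup.commutator_mono le_rfl ?_)
    exact le_inf (Subgroup.commutator_le_right L M)
      ((Subgroup.commutator_mono hLN le_rfl).trans (Subgroup.commutator_le_left N M))

variable [Finite G]

theorem eq_of_isComponent_of_le {L K : Subgroup G} (hL : IsComponent L) (hK : IsComponent K)
    (h : L ≤ K) : L = K := by
  rcases eq_top_or_le_center_of_isSubnormal hK.2 (hL.1.subgroupOf (K := K)) with h1 | h1
  · exact le_antisymm h (Subgroup.subgroupOf_eq_top.mp h1)
  · exfalso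
    refine not_isSolvable_of_isComponent hL (Group.isSolvable_of_comm fun a b => Subtype.ext ?_)
    change (a : G) * b = b * a
    exact congrArg Subtype.val (Subgroup.mem_center_iff.mp
      (h1 (x := ⟨b, h b.2⟩) (Subgroup.mem_subgroupOf.mpr b.2)) ⟨a, h a.2⟩)

/-- Distinct components commute. -/
theorem commutator_eq_bot_of_ne {L K : Subgroup G} (hL : IsComponent L) (hK : IsComponent K)
    (h : L ≠ K) : ⁅L, K⁆ = ⊥ :=
  (le_or_commutator_eq_bot hL hK.1).resolve_left fun hle => h (eq_of_isComponent_of_le hL hK hle)

theorem commutator_eq_bot_of_isSolvable {L H : Subgroup G} (hL : IsComponent L)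
    (hH : Group.IsSolvable H) (hinv : L ≤ Subgroup.normalizer (H : Set G)) : ⁅L, H⁆ = ⊥ := by
  set X := L ⊔ H
  haveI : (H.subgroupOf X).Normal :=
    (Subgroup.normal_subgroupOf_iff_le_normalizer le_sup_right).mpr
      (sup_le hinv Subgroup.le_normalizer)
  rcases le_or_commutator_eq_bot (G := X) (isComponent_subgroupOf hL le_sup_left)
    (inferInstance : (H.subgroupOf X).Normal).isSubnormal with h | h
  · refine absurd (Coprime.isSolvable_of_le (fun x hx => ?_) hH) (not_isSolvable_of_isComponent hL)
    exact Subgroup.mem_subgroupOf.mp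
      (h (x := ⟨x, Subgroup.mem_sup_left hx⟩) (Subgroup.mem_subgroupOf.mpr hx))
  · exact (commutator_subgroupOf_eq_bot le_sup_left le_sup_right).mp h

/-! ### The layer -/

theorem isComponent_le_layer {K : Subgroup G} (hK : IsComponent K) : K ≤ layer G := le_sSup hK

instance layer_characteristic : (layer G).Characteristic := by
  rw [Subgroup.characteristic_iff_map_le]
  intro φ
  rw [layer, Subgroup.map_le_iff_le_comap]
  refine sSup_le fun K hK => ?_
  rw [← Subgroup.map_le_iff_le_comap]
  exact le_sSup (isComponent_map_equiv φ hK)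

theorem layer_normal : (layer G).Normal := inferInstance

theorem component_normal_in_layer {K : Subgroup G} (hK : IsComponent K) :
    layer G ≤ Subgroup.normalizer (K : Set G) := by
  refine sSup_le fun L hL => ?_
  rcases eq_or_ne L K with rfl | hne
  · exact Subgroup.le_normalizer
  · intro x hx
    refine Subgroup.mem_normalizer_fintype fun k hk => ?_
    have h := Subgroup.commutator_eq_bot_iff_le_centralizer.mp (commutator_eq_bot_of_ne hL hK hne)
    have h2 := Subgroup.mem_centralizer_iff.mp (h hx) k hk
    rwa [← h2, mul_inv_cancel_right]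

theorem commutator_layer_self : ⁅layer G, layer G⁆ = layer G := by
  refine le_antisymm (Subgroup.commutator_le_self _) (sSup_le fun K hK => ?_)
  exact (isPerfect_of_isComponent hK).ge.trans
    (Subgroup.commutator_mono (isComponent_le_layer hK) (isComponent_le_layer hK))

theorem layer_isPerfect : Group.IsPerfect (layer G) :=
  Subgroup.isPerfect_iff.mpr commutator_layer_self

theorem commutator_layer_eq_bot_of_isSolvable {H : Subgroup G} [H.Normal]
    (hH : Group.IsSolvable H) : ⁅layer G, H⁆ = ⊥ := by
  rw [Subgroup.commutator_eq_bot_iff_le_centralizer]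
  exact sSup_le fun K hK => Subgroup.commutator_eq_bot_iff_le_centralizer.mp
    (commutator_eq_bot_of_isSolvable hK hH Subgroup.le_normalizer_of_normal)

theorem fittingSubgroup_isSolvable : Group.IsSolvable (fittingSubgroup G) :=
  haveI := Fitting.fittingSubgroup_isNilpotent (G := G)
  inferInstance

theorem commutator_layer_fitting : ⁅layer G, fittingSubgroup G⁆ = ⊥ :=
  haveI := Fitting.fittingSubgroup_normal (G := G)
  commutator_layer_eq_bot_of_isSolvable fittingSubgroup_isSolvable

instance fittingSubgroup_characteristic : (fittingSubgroup G).Characteristic := by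
  rw [Subgroup.characteristic_iff_map_le]
  intro φ
  rw [fittingSubgroup, Subgroup.map_le_iff_le_comap]
  refine sSup_le fun N hN => ?_
  rw [← Subgroup.map_le_iff_le_comap]
  haveI := hN.2
  exact le_sSup ⟨hN.1.map _ φ.surjective,
    Group.nilpotent_of_surjective _ (φ.toMonoidHom.subgroupMap_surjective N)⟩

theorem le_generalizedFitting_of_isComponent {K : Subgroup G} (hK : IsComponent K) :
    K ≤ generalizedFittingSubgroup G :=
  (isComponent_le_layer hK).trans le_sup_left

theorem fittingSubgroup_le_generalizedFitting :
    fittingSubgroup G ≤ generalizedFittingSubgroup G := le_sup_right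

instance generalizedFitting_characteristic : (generalizedFittingSubgroup G).Characteristic := by
  rw [Subgroup.characteristic_iff_map_le]
  intro φ
  rw [generalizedFittingSubgroup, Subgroup.map_sup]
  exact sup_le_sup (Subgroup.characteristic_iff_map_le.mp inferInstance φ)
    (Subgroup.characteristic_iff_map_le.mp inferInstance φ)

theorem generalizedFitting_normal : (generalizedFittingSubgroup G).Normal := inferInstance

theorem isSolvable_of_top {X : Type*} [Group X] (h : Group.IsSolvable (⊤ : Subgroup X)) :
    Group.IsSolvable X :=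
  haveI := h
  Group.isSolvable_of_surjective (f := (Subgroup.topEquiv : (⊤ : Subgroup X) ≃* X).toMonoidHom)
    (Subgroup.topEquiv : (⊤ : Subgroup X) ≃* X).surjective

/-- **Bender's theorem**: the generalized Fitting subgroup contains its centralizer. -/
theorem centralizer_generalizedFitting_le :
    Subgroup.centralizer (generalizedFittingSubgroup G : Set G) ≤ generalizedFittingSubgroup G := by
  classical
  set F := generalizedFittingSubgroup G
  haveI : F.Normal := generalizedFitting_normal
  set C := Subgroup.centralizer (F : Set G)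
  haveI : C.Normal := Subgroup.normal_centralizer
  by_contra hCF
  haveI : Finite (Subgroup G) := Finite.of_injective (fun H => (H : Set G)) SetLike.coe_injective
  obtain ⟨B, hB⟩ := exists_minimal_of_wellFoundedLT
    (fun B : Subgroup G => B.Normal ∧ B ≤ C ∧ ¬ B ≤ F) ⟨C, inferInstance, le_rfl, hCF⟩
  obtain ⟨hBn, hBC, hBF⟩ := hB.prop
  haveI := hBn
  have hmin : ∀ N : Subgroup G, N.Normal → N ≤ B → N ≠ B → N ≤ F := fun N hN hNB hne => by
    by_contra hNF
    exact hne (le_antisymm hNB (hB.le_of_le ⟨hN, hNB.trans hBC, hNF⟩ hNB))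
  -- the part inside `F` is central in `B`
  have hcent : ∀ N : Subgroup G, N ≤ F → ⁅N, B⁆ = ⊥ := fun N hN => by
    rw [Subgroup.commutator_eq_bot_iff_le_centralizer]
    exact fun x hx => Subgroup.mem_centralizer_iff.mpr fun b hb =>
      (Subgroup.mem_centralizer_iff.mp (hBC hb) x (hN hx)).symm
  rcases eq_or_ne ⁅B, B⁆ B with hperf | hperf
  swap
  · refine hBF ((Fitting.le_fittingSubgroup hBn ?_).trans fittingSubgroup_le_generalizedFitting)
    refine Subgroup.nilpotent_iff_lowerCentralSeries.mpr ⟨2, ?_⟩
    apply (Subgroup.map_eq_bot_iff_of_injective _ B.subtype_injective).mp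
    rw [Subgroup.lowerCentralSeries_succ, Subgroup.lowerCentralSeries_succ,
      Subgroup.lowerCentralSeries_zero, Subgroup.map_commutator, Subgroup.map_commutator,
      ← MonoidHom.range_eq_map, Subgroup.range_subtype]
    exact hcent _ (hmin _ inferInstance (Subgroup.commutator_le_self B) hperf)
  haveI hBp : Group.IsPerfect B := Subgroup.isPerfect_iff.mpr hperf
  haveI : Nontrivial B := (Subgroup.nontrivial_iff_ne_bot B).mpr fun h => hBF (h ▸ bot_le)
  -- the radical of `B` is central
  have hrad : ∀ S : Subgroup B, S.IsSubnormal → Group.IsSolvable S → S ≤ Subgroup.center B := by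
    intro S hS hSs
    have hR : (solvableRadical B).map B.subtype ≤ F := by
      refine hmin _ (PSolvable.normal_map_of_characteristic B _) (Subgroup.map_subtype_le _) fun h => ?_
      refine Group.IsPerfect.not_isSolvable B ?_
      have h2 : solvableRadical B = ⊤ := Subgroup.map_injective B.subtype_injective
        (h.trans (by rw [← MonoidHom.range_eq_map, Subgroup.range_subtype]))
      exact isSolvable_of_top (h2 ▸ solvableRadical_isSolvable)
    refine (le_solvableRadical_of_isSubnormal hS hSs).trans fun x hx => ?_
    rw [Subgroup.mem_center_iff]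
    intro y
    exact Subtype.ext (Subgroup.mem_centralizer_iff.mp (hBC y.2) x
      (hR (Subgroup.mem_map_of_mem _ hx))).symm
  -- a minimal nonsolvable subnormal subgroup is a component
  haveI : Finite (Subgroup B) := Finite.of_injective (fun H => (H : Set B)) SetLike.coe_injective
  obtain ⟨K, hK⟩ := exists_minimal_of_wellFoundedLT
    (fun K : Subgroup B => K.IsSubnormal ∧ ¬ Group.IsSolvable K)
    ⟨⊤, Subgroup.IsSubnormal.top, fun h => Group.IsPerfect.not_isSolvable B (isSolvable_of_top h)⟩
  obtain ⟨hKsn, hKns⟩ := hK.prop
  have hsub : ∀ N : Subgroup K, N.Normal → N ≠ ⊤ → Group.IsSolvable N := by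
    intro N hN hne
    by_contra hns
    have h1 : ¬ Group.IsSolvable ↥(N.map K.subtype) := fun h => hns <| by
      haveI := h
      exact Group.isSolvable_of_isSolvable_injective
        (f := (N.equivMapOfInjective K.subtype K.subtype_injective).toMonoidHom)
        (N.equivMapOfInjective K.subtype K.subtype_injective).injective
    have h2 := hK.le_of_le ⟨hN.isSubnormal.trans' hKsn, h1⟩ (Subgroup.map_subtype_le N)
    refine hne (Subgroup.map_injective K.subtype_injective ?_)
    rw [← MonoidHom.range_eq_map, Subgroup.range_subtype]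
    exact le_antisymm (Subgroup.map_subtype_le N) h2
  haveI : Nontrivial K := by
    by_contra h
    rw [not_nontrivial_iff_subsingleton] at h
    exact hKns inferInstance
  haveI : Group.IsPerfect K := by
    refine Group.isPerfect_def.mpr (by_contra fun hne => hKns ?_)
    have h1 := hsub (commutator K) inferInstance hne
    haveI := h1
    haveI : Group.IsSolvable (K ⧸ commutator K) := Group.isSolvable_of_comm (G := Abelianization K)
      fun a b => mul_comm a b
    exact Group.isSolvable_of_ker_le_range (commutator K).subtype (QuotientGroup.mk' (commutator K))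
      (by rw [QuotientGroup.ker_mk', Subgroup.range_subtype])
  have hKq : IsQuasisimple K := by
    refine isQuasisimple_of_normal_le_center fun N hN => ?_
    rcases eq_or_ne N ⊤ with h | hne
    · exact Or.inl h
    · right
      intro x hx
      rw [Subgroup.mem_center_iff]
      intro y
      have h1 := hrad _ (hN.isSubnormal.trans' hKsn) (Coprime.isSolvable_map _ (hsub N hN hne))
        (Subgroup.mem_map_of_mem _ hx)
      exact Subtype.ext (Subgroup.mem_center_iff.mp h1 y)
  have hKG : IsComponent (K.map B.subtype) :=
    (isComponent_map_subtype_iff hBn.isSubnormal K).mp ⟨hKsn, hKq⟩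
  refine hKns (Coprime.isSolvable_of_le (K := Subgroup.center B) ?_
    (Group.isSolvable_of_comm fun a b => mul_comm' a b))
  intro x hx
  rw [Subgroup.mem_center_iff]
  intro y
  exact Subtype.ext (Subgroup.mem_centralizer_iff.mp (hBC y.2) x
    (le_generalizedFitting_of_isComponent hKG (Subgroup.mem_map_of_mem _ hx))).symm

end CfsgLib.Layer
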