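import Mathlib
import Cfsg.Prelude.Def_Local
import Cfsg.Agent.Lib.Layer.Basic
import Cfsg.Agent.Lib.PSolvable.Core

/-!
`p`-components: the subgroup generated by the `p`-elements of the preimage of a component of
`X / O_{p'}(X)`.
-/

set_option autoImplicit false
set_option linter.style.haveILetI false
set_option linter.unusedSectionVars false

open scoped commutatorElement
open Pointwise

namespace CfsgLib.Layer

open Cfsg

variable {X : Type*} [Group X] {p : ℕ}

/-- The subgroup generated by the `p`-elements of a subgroup. -/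
def pGen (p : ℕ) (Y : Subgroup X) : Subgroup X :=
  Subgroup.closure {x | x ∈ Y ∧ ∃ j, orderOf x ∣ p ^ j}

theorem pGen_le (Y : Subgroup X) : pGen p Y ≤ Y :=
  (Subgroup.closure_le _).mpr fun _ hx => hx.1

theorem mem_pGen {Y : Subgroup X} {x : X} {j : ℕ} (hx : x ∈ Y) (hj : orderOf x ∣ p ^ j) :
    x ∈ pGen p Y :=
  Subgroup.subset_closure ⟨hx, j, hj⟩

theorem normalizer_le_normalizer_pGen [Finite X] (Y : Subgroup X) :
    Subgroup.normalizer (Y : Set X) ≤ Subgroup.normalizer (pGen p Y : Set X) := by
  intro g hg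
  refine Subgroup.mem_normalizer_fintype fun n hn => ?_
  have hle : pGen p Y ≤ (pGen p Y).comap (MulAut.conj g).toMonoidHom := by
    refine (Subgroup.closure_le _).mpr ?_
    rintro x ⟨hx, j, hj⟩
    exact mem_pGen (j := j) ((Subgroup.mem_normalizer_iff.mp hg x).mp hx)
      ((orderOf_map_dvd _ x).trans hj)
  exact hle hn

theorem isSubnormal_pGen [Finite X] {Y : Subgroup X} (hY : Y.IsSubnormal) :
    (pGen p Y).IsSubnormal :=
  Subgroup.IsSubnormal.step _ Y (pGen_le Y) hY
    ((Subgroup.normal_subgroupOf_iff_le_normalizer (pGen_le Y)).mpr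
      (Subgroup.le_normalizer.trans (normalizer_le_normalizer_pGen Y)))

theorem mem_of_isSubnormal_of_coprime_index [Finite X] {S : Subgroup X} (hS : S.IsSubnormal)
    (hi : S.index.Coprime p) {x : X} {j : ℕ} (hx : orderOf x ∣ p ^ j) : x ∈ S := by
  induction hS with
  | top => trivial
  | step H K hle _ hN ih =>
    haveI := hN
    rw [← Subgroup.relIndex_mul_index hle] at hi
    have hxK := ih (hi.coprime_dvd_left (dvd_mul_left _ _))
    have h2 : x ^ H.relIndex K ∈ H :=
      Subgroup.mem_subgroupOf.mp ((H.subgroupOf K).pow_index_mem ⟨x, hxK⟩)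
    obtain ⟨m, hm⟩ := exists_pow_eq_self_of_coprime (x := x) (n := H.relIndex K)
      (((hi.coprime_dvd_left (dvd_mul_right _ _)).pow_right j).coprime_dvd_right hx)
    exact hm ▸ pow_mem h2 m

theorem coprime_relIndex_pGen [Finite X] [Fact p.Prime] (Y : Subgroup X) :
    ((pGen p Y).relIndex Y).Coprime p := by
  obtain ⟨P⟩ : Nonempty (Sylow p Y) := inferInstance
  refine ((Nat.Prime.coprime_iff_not_dvd Fact.out).mpr fun hd => P.not_dvd_index
    (hd.trans (Subgroup.index_dvd_of_le fun y hy => ?_))).symm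
  obtain ⟨j, hj⟩ := P.2 ⟨y, hy⟩
  exact Subgroup.mem_subgroupOf.mpr (mem_pGen (j := j) y.2
    (by rw [Subgroup.orderOf_coe]; exact orderOf_dvd_of_pow_eq_one (congrArg Subtype.val hj)))

theorem pGen_le_of_isSubnormal [Finite X] {H Y : Subgroup X} (hH : H.IsSubnormal) (hle : H ≤ Y)
    (hi : (H.relIndex Y).Coprime p) : pGen p Y ≤ H := by
  refine (Subgroup.closure_le _).mpr ?_
  rintro x ⟨hxY, j, hj⟩
  exact Subgroup.mem_subgroupOf.mp (mem_of_isSubnormal_of_coprime_index (S := H.subgroupOf Y)
    hH.subgroupOf hi (x := ⟨x, hxY⟩) (j := j) (by rw [← Subgroup.orderOf_coe]; exact hj))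

section Quotient

variable [Finite X] [hp : Fact p.Prime]

theorem pPrimeCore_quotient_eq_bot (p : ℕ) [Fact p.Prime] :
    pPrimeCore p (X ⧸ pPrimeCore p X) = ⊥ :=
  PSolvable.pPrimeCore_eq_bot_of_ker (QuotientGroup.mk'_surjective _) (QuotientGroup.ker_mk' _)

theorem dvd_card_of_isComponent {L : Subgroup X} (hO : pPrimeCore p X = ⊥) (hL : IsComponent L) :
    p ∣ Nat.card L := by
  by_contra h
  refine ne_bot_of_isComponent hL (eq_bot_iff.mpr (hO ▸ ?_))
  exact le_pPrimeCore_of_isSubnormal hL.1 ((Nat.Prime.coprime_iff_not_dvd hp.out).mpr h).symm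

theorem eq_top_of_coprime_index {L : Subgroup X} (hO : pPrimeCore p X = ⊥) (hL : IsComponent L)
    (N : Subgroup L) [N.Normal] (hN : N.index.Coprime p) : N = ⊤ := by
  rcases eq_top_or_le_center_of_normal hL.2 N with h | h
  · exact h
  exfalso
  haveI := hL.2.1
  obtain ⟨P⟩ : Nonempty (Sylow p L) := inferInstance
  have hPZ : (P : Subgroup L) ≤ Subgroup.center L := fun y hy => h (by
    obtain ⟨j, hj⟩ := P.2 ⟨y, hy⟩
    exact mem_of_isSubnormal_of_coprime_index (inferInstance : N.Normal).isSubnormal hN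
      (orderOf_dvd_of_pow_eq_one (congrArg Subtype.val hj)))
  have hnc := Transfer.hasNormalPComplement_of_normalizer_le_centralizer P fun g _ =>
    Subgroup.mem_centralizer_iff.mpr fun y hy => (Subgroup.mem_center_iff.mp (hPZ hy) g).symm
  obtain ⟨Q, M, hM, hc⟩ := hnc
  haveI := hM
  haveI : Finite ((Q : Subgroup L)) := inferInstance
  have hq : IsPGroup p (L ⧸ M) := Transfer.isPGroup_quotient_of_isComplement' hc
  have hMtop : M = ⊤ := by
    by_contra hne
    haveI : Nontrivial (L ⧸ M) := QuotientGroup.nontrivial_iff.mpr hne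
    haveI : Group.IsNilpotent (L ⧸ M) := hq.isNilpotent
    exact Group.IsPerfect.not_isNilpotent (L ⧸ M) inferInstance
  have hd := dvd_card_of_isComponent hO hL
  have hcop := Transfer.coprime_card_of_isComplement' hc
  rw [hMtop, Subgroup.card_top] at hcop
  exact (Nat.Prime.coprime_iff_not_dvd hp.out).mp hcop.symm hd

/-- The `p`-component attached to a component of `X / O_{p'}(X)`. -/
def pComponentOf (p : ℕ) (L : Subgroup (X ⧸ pPrimeCore p X)) : Subgroup X :=
  pGen p (L.comap (QuotientGroup.mk' (pPrimeCore p X)))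

variable {L : Subgroup (X ⧸ pPrimeCore p X)}

theorem map_pComponentOf (hL : IsComponent L) :
    (pComponentOf p L).map (QuotientGroup.mk' (pPrimeCore p X)) = L := by
  set π := QuotientGroup.mk' (pPrimeCore p X)
  have hπ : Function.Surjective π := QuotientGroup.mk'_surjective _
  set Y := L.comap π
  have hle : (pComponentOf p L).map π ≤ L :=
    (Subgroup.map_mono (pGen_le Y)).trans (Subgroup.map_comap_le _ _)
  haveI : (((pComponentOf p L).map π).subgroupOf L).Normal := by
    refine (Subgroup.normal_subgroupOf_iff_le_normalizer hle).mpr ?_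
    refine (Subgroup.map_comap_eq_self_of_surjective hπ L).symm.trans_le ?_
    exact (Subgroup.map_mono (Subgroup.le_normalizer.trans (normalizer_le_normalizer_pGen Y))).trans
      (Subgroup.le_normalizer_map _)
  refine le_antisymm hle (Subgroup.subgroupOf_eq_top.mp
    (eq_top_of_coprime_index (pPrimeCore_quotient_eq_bot p) hL _ ?_))
  change (((pComponentOf p L).map π).relIndex L).Coprime p
  have e : ((pComponentOf p L).map π).relIndex L = ((pGen p Y).map π).relIndex (Y.map π) :=
    congrArg (fun M => ((pComponentOf p L).map π).relIndex M)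
      (Subgroup.map_comap_eq_self_of_surjective hπ L).symm
  rw [e]
  refine (coprime_relIndex_pGen Y).coprime_dvd_left ?_
  have hk : π.ker ≤ Y := Subgroup.ker_le_comap π L
  rw [Subgroup.relIndex_map_map, sup_eq_left.mpr hk]
  exact Subgroup.relIndex_dvd_of_le_left Y le_sup_left

theorem pComponentOf_le {H : Subgroup X} (hH : H.IsSubnormal)
    (he : H.map (QuotientGroup.mk' (pPrimeCore p X)) = L) : pComponentOf p L ≤ H := by
  set π := QuotientGroup.mk' (pPrimeCore p X)
  haveI := Transfer.pPrimeCore_normal p X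
  have hle : H ≤ L.comap π := Subgroup.map_le_iff_le_comap.mp he.le
  refine pGen_le_of_isSubnormal hH hle ?_
  have hY : L.comap π = H ⊔ pPrimeCore p X := by
    rw [← he, Subgroup.comap_map_eq, QuotientGroup.ker_mk']
  rw [hY]
  refine (Transfer.pPrimeCore_coprime (G := X) p).coprime_dvd_left
    (Dvd.intro (Nat.card ↥(pPrimeCore p X ⊓ H) : ℕ) (Nat.eq_of_mul_eq_mul_right (Nat.card_pos (α := ↥H)) ?_))
  have h1 := Coprime.card_sup_mul_card_inf (K := pPrimeCore p X) (S := H)
    Subgroup.le_normalizer_of_normal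
  have h2 := Coprime.relIndex_mul_card_inf H (H ⊔ pPrimeCore p X)
  rw [inf_eq_left.mpr (le_sup_left : H ≤ H ⊔ pPrimeCore p X)] at h2
  rw [sup_comm (pPrimeCore p X), ← h2] at h1
  rw [mul_right_comm]
  exact h1

theorem isPComponent_pComponentOf (hL : IsComponent L) : IsPComponent p (pComponentOf p L) := by
  haveI := Transfer.pPrimeCore_normal p X
  refine ⟨isSubnormal_pGen (hL.1.comap _), ?_, fun H hH hle he => ?_⟩
  · rw [map_pComponentOf hL]; exact hL
  · rw [map_pComponentOf hL] at he
    exact le_antisymm hle (pComponentOf_le hH he)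

theorem eq_pComponentOf {K : Subgroup X} (hK : IsPComponent p K) :
    K = pComponentOf p (K.map (QuotientGroup.mk' (pPrimeCore p X))) :=
  (hK.2.2 _ (isPComponent_pComponentOf hK.2.1).1 (pComponentOf_le hK.1 rfl)
    (map_pComponentOf hK.2.1)).symm

theorem map_pLayer :
    (pLayer p X).map (QuotientGroup.mk' (pPrimeCore p X)) = layer (X ⧸ pPrimeCore p X) := by
  refine le_antisymm ?_ (sSup_le fun L hL => ?_)
  · rw [pLayer, Subgroup.map_le_iff_le_comap]
    refine sSup_le fun K hK => ?_
    rw [← Subgroup.map_le_iff_le_comap]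
    exact isComponent_le_layer hK.2.1
  · have hL' : IsComponent L := hL
    rw [← map_pComponentOf hL']
    exact Subgroup.map_mono (le_sSup (isPComponent_pComponentOf hL'))

theorem pLayer_eq_bot_iff : pLayer p X = ⊥ ↔ layer (X ⧸ pPrimeCore p X) = ⊥ := by
  constructor
  · intro h
    rw [← map_pLayer, h, Subgroup.map_bot]
  · intro h
    refine eq_bot_iff.mpr (sSup_le fun K hK => ?_)
    exact absurd (le_bot_iff.mp (h ▸ isComponent_le_layer hK.2.1)) (ne_bot_of_isComponent hK.2.1)

theorem pLayer_le_normalizer {K : Subgroup X} (hK : IsPComponent p K) :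
    pLayer p X ≤ Subgroup.normalizer (K : Set X) := by
  set π := QuotientGroup.mk' (pPrimeCore p X)
  rw [eq_pComponentOf hK]
  refine le_trans ?_ (normalizer_le_normalizer_pGen _)
  refine le_trans ?_ (Subgroup.le_normalizer_comap π)
  rw [← Subgroup.map_le_iff_le_comap, map_pLayer]
  exact component_normal_in_layer hK.2.1

theorem commutator_eq_self_of_isPComponent {K : Subgroup X} (hK : IsPComponent p K) :
    ⁅K, K⁆ = K := by
  refine hK.2.2 _ (Subgroup.IsSubnormal.step _ K (Subgroup.commutator_le_self K) hK.1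
    ((Subgroup.normal_subgroupOf_iff_le_normalizer (Subgroup.commutator_le_self K)).mpr
      (Subgroup.normalizer_commutator_ge_left K K))) (Subgroup.commutator_le_self K) ?_
  rw [Subgroup.map_commutator, isPerfect_of_isComponent hK.2.1]

theorem map_pPrimeCore_of_isSubnormal {K : Subgroup X} (hK : K.IsSubnormal) :
    (pPrimeCore p K).map K.subtype = pPrimeCore p X ⊓ K := by
  haveI := Transfer.pPrimeCore_normal p K
  haveI := Transfer.pPrimeCore_normal p X
  refine le_antisymm (le_inf (le_pPrimeCore_of_isSubnormal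
    ((inferInstance : (pPrimeCore p K).Normal).isSubnormal.trans' hK) ?_) (Subgroup.map_subtype_le _)) ?_
  · rw [Subgroup.card_map_of_injective K.subtype_injective]
    exact Transfer.pPrimeCore_coprime p
  · have h := Subgroup.map_mono (f := K.subtype) (Transfer.le_pPrimeCore (p := p)
      (N := (pPrimeCore p X).subgroupOf K) inferInstance ?_)
    · rwa [Subgroup.subgroupOf_map_subtype] at h
    · refine (Transfer.pPrimeCore_coprime p).coprime_dvd_left (?_ :
        Nat.card ((pPrimeCore p X).subgroupOf K) ∣ Nat.card (pPrimeCore p X))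
      rw [← Subgroup.card_map_of_injective K.subtype_injective, Subgroup.subgroupOf_map_subtype]
      exact Subgroup.card_dvd_of_le inf_le_left

theorem mem_pPrimeCore_iff {K : Subgroup X} (hK : K.IsSubnormal) (k : K) :
    k ∈ pPrimeCore p K ↔ (k : X) ∈ pPrimeCore p X := by
  have h : (k : X) ∈ (pPrimeCore p K).map K.subtype ↔ (k : X) ∈ pPrimeCore p X ⊓ K := by
    rw [map_pPrimeCore_of_isSubnormal hK]
  rw [Subgroup.mem_inf, and_iff_left k.2] at h
  refine Iff.trans ⟨fun hk => Subgroup.mem_map_of_mem _ hk, ?_⟩ h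
  rintro ⟨k', hk', he⟩
  exact (Subtype.ext he : k' = k) ▸ hk'

theorem isQuasisimple_quotient_pPrimeCore {K : Subgroup X} (hK : IsPComponent p K)
    [(pPrimeCore p K).Normal] : IsQuasisimple (K ⧸ pPrimeCore p K) := by
  set π := QuotientGroup.mk' (pPrimeCore p X)
  haveI := Transfer.pPrimeCore_normal p X
  have hf : Function.Surjective (π.subgroupMap K) := π.subgroupMap_surjective K
  have hker : (π.subgroupMap K).ker = pPrimeCore p K := by
    ext k
    rw [MonoidHom.mem_ker, mem_pPrimeCore_iff hK.1, ← QuotientGroup.eq_one_iff, Subtype.ext_iff]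
    rfl
  exact (isQuasisimple_congr ((QuotientGroup.quotientMulEquivOfEq hker).symm.trans
    (QuotientGroup.quotientKerEquivOfSurjective _ hf))).mpr hK.2.1.2

end Quotient

end CfsgLib.Layer
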