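import Mathlib
import Cfsg.Agent.Lib.Layer.Basic

/-!
Further properties of the layer and the generalized Fitting subgroup.
-/

set_option autoImplicit false
set_option linter.style.haveILetI false
set_option linter.unusedSectionVars false

open scoped commutatorElement
open Pointwise

namespace CfsgLib.Layer

open Cfsg

variable {G : Type*} [Group G] [Finite G]

theorem layer_eq_bot_iff : layer G = ⊥ ↔ ∀ K : Subgroup G, ¬ IsComponent K := by
  constructor
  · exact fun h K hK => ne_bot_of_isComponent hK (le_bot_iff.mp (h ▸ isComponent_le_layer hK))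
  · exact fun h => eq_bot_iff.mpr (sSup_le fun K hK => absurd hK (h K))

theorem map_layer_le {H : Subgroup G} (hH : H.IsSubnormal) :
    (layer H).map H.subtype ≤ layer G := by
  rw [layer, Subgroup.map_le_iff_le_comap]
  refine sSup_le fun K hK => ?_
  rw [← Subgroup.map_le_iff_le_comap]
  exact isComponent_le_layer ((isComponent_map_subtype_iff hH K).mp hK)

theorem le_map_layer {H K : Subgroup G} (hK : IsComponent K) (hKH : K ≤ H) :
    K ≤ (layer H).map H.subtype := by
  conv_lhs => rw [← Subgroup.map_subgroupOf_eq_of_le hKH]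
  exact Subgroup.map_mono (isComponent_le_layer (isComponent_subgroupOf hK hKH))

theorem map_fittingSubgroup_le {H : Subgroup G} (hH : H.IsSubnormal) :
    (fittingSubgroup H).map H.subtype ≤ fittingSubgroup G :=
  haveI := Fitting.fittingSubgroup_isNilpotent (G := H)
  le_fittingSubgroup_of_isSubnormal ((Fitting.fittingSubgroup_normal (G := H)).isSubnormal.trans' hH)
    (Group.nilpotent_of_surjective _ (H.subtype.subgroupMap_surjective _))

theorem inf_fittingSubgroup_le (H : Subgroup G) :
    fittingSubgroup G ⊓ H ≤ (fittingSubgroup H).map H.subtype := by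
  haveI := Fitting.fittingSubgroup_normal (G := G)
  haveI := Fitting.fittingSubgroup_isNilpotent (G := G)
  have hn : Group.IsNilpotent ↥((fittingSubgroup G).subgroupOf H) := by
    haveI : Group.IsNilpotent ↥(fittingSubgroup G ⊓ H) :=
      Group.nilpotent_of_mulEquiv
        (Subgroup.subgroupOfEquivOfLe (inf_le_left : fittingSubgroup G ⊓ H ≤ fittingSubgroup G))
    rw [← Subgroup.inf_subgroupOf_right]
    exact Group.nilpotent_of_mulEquiv
      (Subgroup.subgroupOfEquivOfLe (inf_le_right : fittingSubgroup G ⊓ H ≤ H)).symm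
  have h := Subgroup.map_mono (f := H.subtype)
    (Fitting.le_fittingSubgroup (N := (fittingSubgroup G).subgroupOf H) inferInstance hn)
  rwa [Subgroup.subgroupOf_map_subtype] at h

theorem map_fittingSubgroup {H : Subgroup G} (hH : H.IsSubnormal) :
    (fittingSubgroup H).map H.subtype = fittingSubgroup G ⊓ H :=
  le_antisymm (le_inf (map_fittingSubgroup_le hH) (Subgroup.map_subtype_le _))
    (inf_fittingSubgroup_le H)

theorem fitting_le_centralizer_layer :
    fittingSubgroup G ≤ Subgroup.centralizer (layer G : Set G) :=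
  Subgroup.commutator_eq_bot_iff_le_centralizer.mp
    (by rw [Subgroup.commutator_comm]; exact commutator_layer_fitting)

/-- The centre of the layer lies in the Fitting subgroup. -/
theorem layer_inf_centralizer_le_fitting :
    layer G ⊓ Subgroup.centralizer (layer G : Set G) ≤ fittingSubgroup G := by
  haveI : (Subgroup.centralizer (layer G : Set G)).Normal := Subgroup.normal_centralizer
  haveI : IsMulCommutative ↥(layer G ⊓ Subgroup.centralizer (layer G : Set G)) :=
    ⟨⟨fun a b => Subtype.ext
      (Subgroup.mem_centralizer_iff.mp (Subgroup.mem_inf.mp b.2).2 a (Subgroup.mem_inf.mp a.2).1)⟩⟩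
  exact Fitting.le_fittingSubgroup inferInstance (by
    open scoped IsMulCommutative in infer_instance)

/-- The generalized Fitting subgroup of a subnormal subgroup. -/
theorem map_generalizedFittingSubgroup {S : Subgroup G} (hS : S.IsSubnormal) :
    (generalizedFittingSubgroup S).map S.subtype = generalizedFittingSubgroup G ⊓ S := by
  refine le_antisymm (le_inf ?_ (Subgroup.map_subtype_le _)) ?_
  · rw [generalizedFittingSubgroup, Subgroup.map_sup]
    exact sup_le_sup (map_layer_le hS) (map_fittingSubgroup_le hS)
  · set E₁ := sSup {K : Subgroup G | IsComponent K ∧ K ≤ S}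
    set E₂ := sSup {K : Subgroup G | IsComponent K ∧ ¬ K ≤ S}
    haveI := Fitting.fittingSubgroup_normal (G := G)
    have hE : layer G = E₁ ⊔ E₂ := by
      refine le_antisymm (sSup_le fun K hK => ?_) (sup_le (sSup_le fun K hK => le_sSup hK.1)
        (sSup_le fun K hK => le_sSup hK.1))
      by_cases h : K ≤ S
      · exact le_sup_of_le_left (le_sSup ⟨hK, h⟩)
      · exact le_sup_of_le_right (le_sSup ⟨hK, h⟩)
    have hE₁S : E₁ ≤ S := sSup_le fun K hK => hK.2
    have hE₂S : E₂ ≤ Subgroup.centralizer (S : Set G) := sSup_le fun K hK =>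
      Subgroup.commutator_eq_bot_iff_le_centralizer.mp
        ((le_or_commutator_eq_bot hK.1 hS).resolve_left hK.2)
    have hE₂n : E₂ ≤ Subgroup.normalizer (E₁ : Set G) := fun x hx =>
      Subgroup.mem_normalizer_fintype fun k hk => by
        have h := Subgroup.mem_centralizer_iff.mp (hE₂S hx) k (hE₁S hk)
        rwa [← h, mul_inv_cancel_right]
    intro x hx
    obtain ⟨hxF, hxS⟩ := Subgroup.mem_inf.mp hx
    rw [generalizedFittingSubgroup] at hxF
    obtain ⟨e, he, f, hf, rfl⟩ := Subgroup.mem_sup_of_normal_right.mp hxF
    rw [hE, ← SetLike.mem_coe, Subgroup.coe_mul_of_right_le_normalizer_left E₁ E₂ hE₂n] at he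
    obtain ⟨e₁, he₁, e₂, he₂, rfl⟩ := he
    have he₁' : e₁ ∈ (layer S).map S.subtype :=
      (sSup_le fun K hK => le_map_layer hK.1 hK.2 : E₁ ≤ (layer S).map S.subtype) he₁
    have hy : e₂ * f ∈ S := by
      simpa [mul_assoc] using mul_mem (inv_mem (hE₁S he₁)) hxS
    have he₂Z : e₂ ∈ layer G ⊓ Subgroup.centralizer (layer G : Set G) := by
      refine Subgroup.mem_inf.mpr ⟨hE.ge (Subgroup.mem_sup_right he₂), ?_⟩
      refine Subgroup.mem_centralizer_iff.mpr fun z hz => ?_
      have hle : layer G ≤ Subgroup.centralizer ({e₂} : Set G) := by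
        rw [hE]
        refine sup_le (fun k hk => Subgroup.mem_centralizer_singleton_iff.mpr ?_)
          (fun k hk => Subgroup.mem_centralizer_singleton_iff.mpr ?_)
        · exact Subgroup.mem_centralizer_iff.mp (hE₂S he₂) k (hE₁S hk)
        · have h1 : Commute k (e₂ * f) :=
            (Subgroup.mem_centralizer_iff.mp (hE₂S hk) _ hy).symm
          have h2 : Commute k f :=
            Subgroup.mem_centralizer_iff.mp (fitting_le_centralizer_layer hf) k
              (hE.ge (Subgroup.mem_sup_right hk))
          simpa [mul_assoc] using (h1.mul_right h2.inv_right).eq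
      exact Subgroup.mem_centralizer_singleton_iff.mp (hle hz)
    have he₂F := layer_inf_centralizer_le_fitting he₂Z
    rw [mul_assoc, generalizedFittingSubgroup, Subgroup.map_sup]
    exact mul_mem (Subgroup.mem_sup_left he₁') (Subgroup.mem_sup_right
      (inf_fittingSubgroup_le S (Subgroup.mem_inf.mpr ⟨mul_mem he₂F hf, hy⟩)))

theorem centralizer_fittingSubgroup_le (h : layer G = ⊥) :
    Subgroup.centralizer (fittingSubgroup G : Set G) ≤ fittingSubgroup G := by
  have h1 : generalizedFittingSubgroup G = fittingSubgroup G := by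
    rw [generalizedFittingSubgroup, h, bot_sup_eq]
  simpa [h1] using centralizer_generalizedFitting_le (G := G)

theorem generalizedFitting_eq_bot_iff :
    generalizedFittingSubgroup G = ⊥ ↔ Subsingleton G := by
  constructor
  · intro h
    have h1 := centralizer_generalizedFitting_le (G := G)
    rw [h, Subgroup.coe_bot, ← Subgroup.coe_bot] at h1
    have h2 : (⊤ : Subgroup G) ≤ ⊥ := le_trans (fun x _ => Subgroup.mem_centralizer_iff.mpr
      fun y hy => by rw [Subgroup.mem_bot.mp hy, one_mul, mul_one]) h1
    exact ⟨fun a b => (Subgroup.mem_bot.mp (h2 (Subgroup.mem_top a))).trans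
      (Subgroup.mem_bot.mp (h2 (Subgroup.mem_top b))).symm⟩
  · intro h
    exact Subsingleton.elim _ _

end CfsgLib.Layer
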