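import Mathlib
import Cfsg.Agent.Lib.Layer.Basic
import Cfsg.Agent.Lib.Layer.FStar
import Cfsg.Agent.Lib.Layer.Radical
import Cfsg.Agent.Lib.Fitting.Basic
import Cfsg.Agent.Lib.Coprime.Action
import Cfsg.Agent.Lib.PSolvable.Core
import Cfsg.Agent.Lib.Transfer.Sylow

/-!
# `L = [L, Y] C_L(Y)` for quasinilpotent `L` with `O_p(L) = 1` and a `p`-group `Y`
-/

set_option autoImplicit false
set_option linter.style.haveILetI false

open Cfsg
open scoped commutatorElement

namespace CfsgLib.Layer.CommutatorSplit

universe u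

variable {G : Type u} [Group G] [Finite G]

theorem fitting_map_le {A B : Type*} [Group A] [Finite A] [Group B] [Finite B] (e : A ≃* B) :
    (fittingSubgroup A).map e.toMonoidHom ≤ fittingSubgroup B := by
  haveI := CfsgLib.Fitting.fittingSubgroup_normal (G := A)
  haveI := CfsgLib.Fitting.fittingSubgroup_isNilpotent (G := A)
  refine CfsgLib.Fitting.le_fittingSubgroup (Subgroup.Normal.map inferInstance _ e.surjective) ?_
  exact Group.nilpotent_of_surjective (e.toMonoidHom.subgroupMap (fittingSubgroup A))
    (e.toMonoidHom.subgroupMap_surjective _)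

theorem generalizedFitting_eq_top_of_equiv {A B : Type*} [Group A] [Finite A] [Group B] [Finite B]
    (e : A ≃* B) (h : generalizedFittingSubgroup A = ⊤) : generalizedFittingSubgroup B = ⊤ := by
  rw [eq_top_iff, ← Subgroup.map_top_of_surjective e.toMonoidHom e.surjective, ← h,
    generalizedFittingSubgroup, Subgroup.map_sup, generalizedFittingSubgroup]
  refine sup_le_sup ?_ (fitting_map_le e)
  rw [Subgroup.map_le_iff_le_comap]
  exact sSup_le fun K hK => Subgroup.map_le_iff_le_comap.mp
    (isComponent_le_layer (isComponent_map_equiv e hK))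

theorem not_dvd_card_fitting {p : ℕ} [Fact p.Prime] (h : pCore p G = ⊥) :
    ¬ p ∣ Nat.card (fittingSubgroup G) := by
  intro hd
  haveI := CfsgLib.Fitting.fittingSubgroup_normal (G := G)
  haveI := CfsgLib.Fitting.fittingSubgroup_isNilpotent (G := G)
  let P : Sylow p (fittingSubgroup G) := default
  have hP := P.normal_of_normalizerCondition Group.normalizerCondition_of_isNilpotent
  have h1 := CfsgLib.Fitting.le_pCore hP P.2
  have h2 := CfsgLib.PSolvable.map_pCore_le (p := p) (fittingSubgroup G)
  rw [h, le_bot_iff] at h2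
  rw [(Subgroup.map_eq_bot_iff_of_injective _ (fittingSubgroup G).subtype_injective).mp h2,
    le_bot_iff] at h1
  exact P.ne_bot_of_dvd_card hd h1

/-- `L = [L, Y] C_L(Y)`. -/
theorem commutator_sup_centralizer_eq {p : ℕ} [Fact p.Prime] {L Y : Subgroup G}
    (hgF : generalizedFittingSubgroup L = ⊤) (hO : pCore p L = ⊥) (hY : IsPGroup p Y)
    (hYL : Y ≤ Subgroup.normalizer (L : Set G)) :
    ⁅L, Y⁆ ⊔ (L ⊓ Subgroup.centralizer (Y : Set G)) = L := by
  set N := ⁅L, Y⁆ with hN
  have hNL : N ≤ L := Coprime.commutator_le_left_of_le_normalizer hYL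
  have hLN : L ≤ Subgroup.normalizer (N : Set G) := by
    intro l hl
    rw [← Transfer.map_conj_eq_self_iff]
    refine Subgroup.eq_of_le_of_card_ge ?_
      (by rw [Subgroup.card_map_of_injective (MulAut.conj l).injective])
    rw [Subgroup.map_le_iff_le_comap, hN, Subgroup.commutator_le]
    intro a ha y hy
    show l * ⁅a, y⁆ * l⁻¹ ∈ N
    have e : l * ⁅a, y⁆ * l⁻¹ = ⁅l * a, y⁆ * ⁅l, y⁆⁻¹ := by
      simp only [commutatorElement_def]; group
    rw [e]
    exact mul_mem (Subgroup.commutator_mem_commutator (mul_mem hl ha) hy)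
      (inv_mem (Subgroup.commutator_mem_commutator hl hy))
  refine le_antisymm (sup_le hNL inf_le_left) ?_
  set V := N ⊔ (L ⊓ Subgroup.centralizer (Y : Set G)) with hV
  suffices h : (⊤ : Subgroup L).map L.subtype ≤ V by
    rwa [← MonoidHom.range_eq_map, Subgroup.range_subtype] at h
  rw [← hgF, generalizedFittingSubgroup, Subgroup.map_sup]
  refine sup_le ?_ ?_
  · rw [layer, Subgroup.map_le_iff_le_comap]
    refine sSup_le fun K hK => Subgroup.map_le_iff_le_comap.mp ?_
    set K₀ := K.map L.subtype with hK₀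
    haveI hNn : (N.subgroupOf L).Normal := Subgroup.normal_subgroupOf_of_le_normalizer hLN
    rcases le_or_commutator_eq_bot hK hNn.isSubnormal with h | h
    · refine le_trans ?_ le_sup_left
      refine (Subgroup.map_mono h).trans (le_of_eq ?_)
      exact Subgroup.map_subgroupOf_eq_of_le hNL
    · have hKN : ⁅K₀, N⁆ = ⊥ := by
        rw [hK₀, ← Subgroup.map_subgroupOf_eq_of_le hNL, ← Subgroup.map_commutator, h,
          Subgroup.map_bot]
      have hperf : ⁅K₀, K₀⁆ = K₀ := by
        rw [hK₀, ← Subgroup.map_commutator, isPerfect_of_isComponent hK]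
      have hKL : K₀ ≤ L := Subgroup.map_subtype_le K
      have h1 : ⁅⁅K₀, Y⁆, K₀⁆ = ⊥ := le_bot_iff.mp (hKN ▸ Subgroup.commutator_comm K₀ N ▸
        Subgroup.commutator_mono (Subgroup.commutator_mono hKL le_rfl) le_rfl)
      have h2 : ⁅⁅Y, K₀⁆, K₀⁆ = ⊥ := by rw [Subgroup.commutator_comm Y K₀]; exact h1
      have h3 := Subgroup.commutator_commutator_eq_bot_of_rotate h1 h2
      rw [hperf, Subgroup.commutator_eq_bot_iff_le_centralizer] at h3
      exact le_trans (le_inf hKL h3) le_sup_right
  · haveI : (fittingSubgroup L).Characteristic :=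
      Subgroup.characteristic_iff_map_le.mpr fun e => fitting_map_le e
    set F := (fittingSubgroup L).map L.subtype with hF
    have hFc : (Nat.card Y).Coprime (Nat.card F) := by
      obtain ⟨k, hk⟩ := IsPGroup.iff_card.mp hY
      rw [hk, hF, Subgroup.card_map_of_injective L.subtype_injective]
      exact ((Fact.out : p.Prime).coprime_iff_not_dvd.mpr (not_dvd_card_fitting hO)).pow_left k
    haveI := hY.isNilpotent
    have h1 := Coprime.commutator_sup_centralizer
      (PSolvable.le_normalizer_map_of_characteristic hYL (fittingSubgroup L)) hFc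
      (Or.inl inferInstance)
    refine h1.ge.trans ?_
    exact sup_le_sup (Subgroup.commutator_mono (Subgroup.map_subtype_le _) le_rfl)
      (inf_le_inf_right _ (Subgroup.map_subtype_le _))

end CfsgLib.Layer.CommutatorSplit
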