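import Mathlib
import Cfsg.Agent.Lib.Layer.FStar
import Cfsg.Agent.Lib.Layer.PComponent
import Cfsg.Agent.Lib.Subnormal.Basic
import Cfsg.Agent.Lib.PSolvable.Constrained

/-!
Groups of characteristic `p`: `F*(G) = O_p(G)`, its equivalents, and `p`-constraint.
-/

set_option autoImplicit false
set_option linter.style.haveILetI false
set_option linter.unusedSectionVars false

namespace CfsgLib.Layer

open Cfsg

variable {G : Type*} [Group G] [Finite G] {p : ℕ} [Fact p.Prime]

theorem fittingSubgroup_eq_pCore (hO : pPrimeCore p G = ⊥) : fittingSubgroup G = pCore p G := by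
  haveI := Fitting.fittingSubgroup_isNilpotent (G := G)
  have hFn := Fitting.fittingSubgroup_normal (G := G)
  refine le_antisymm (Fitting.le_pCore hFn (PSolvable.isPGroup_of_forall_coprime fun x hx hxp => ?_))
    (Fitting.pCore_le_fittingSubgroup p)
  have hsn := Subnormal.isSubnormal_map_subtype
    (Subnormal.isSubnormal_of_isNilpotent (Subgroup.zpowers (⟨x, hx⟩ : fittingSubgroup G)))
    hFn.isSubnormal
  rw [MonoidHom.map_zpowers] at hsn
  have h := le_pPrimeCore_of_isSubnormal (p := p) hsn (by rw [Nat.card_zpowers]; exact hxp)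
  rw [hO, le_bot_iff, Subgroup.zpowers_eq_bot] at h
  exact h

/-- `C(O_p(G)) ≤ O_p(G)` means: no components and trivial `O_{p'}(G)`. -/
theorem centralizer_pCore_le_iff :
    Subgroup.centralizer (pCore p G : Set G) ≤ pCore p G ↔
      layer G = ⊥ ∧ pPrimeCore p G = ⊥ := by
  constructor
  · intro h
    haveI := Fitting.pCore_normal (G := G) p
    haveI := Transfer.pPrimeCore_normal p G
    have hO : pPrimeCore p G = ⊥ := by
      have hd : pPrimeCore p G ⊓ pCore p G = ⊥ := Coprime.inf_eq_bot_of_coprime_card
        (PSolvable.coprime_card_of_isPGroup (Fitting.pCore_isPGroup p)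
          (Transfer.pPrimeCore_coprime p)).symm
      refine eq_bot_iff.mpr (hd ▸ le_inf le_rfl (le_trans ?_ h))
      exact Subgroup.commutator_eq_bot_iff_le_centralizer.mp
        (le_bot_iff.mp (hd ▸ Subgroup.commutator_le_inf _ _))
    refine ⟨layer_eq_bot_iff.mpr fun L hL => ?_, hO⟩
    haveI := (Fitting.pCore_isPGroup (G := G) p).isNilpotent
    have h1 := Subgroup.commutator_eq_bot_iff_le_centralizer.mp
      (commutator_eq_bot_of_isSolvable hL (inferInstance : Group.IsSolvable (pCore p G))
        Subgroup.le_normalizer_of_normal)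
    exact not_isSolvable_of_isComponent hL (Coprime.isSolvable_of_le (h1.trans h) inferInstance)
  · rintro ⟨hL, hO⟩
    have h := centralizer_fittingSubgroup_le hL
    rwa [fittingSubgroup_eq_pCore hO] at h

theorem generalizedFitting_eq_pCore_iff :
    generalizedFittingSubgroup G = pCore p G ↔
      Subgroup.centralizer (pCore p G : Set G) ≤ pCore p G := by
  constructor
  · intro h
    rw [← h]
    exact centralizer_generalizedFitting_le
  · intro h
    obtain ⟨hL, hO⟩ := centralizer_pCore_le_iff.mp h
    rw [generalizedFittingSubgroup, hL, bot_sup_eq, fittingSubgroup_eq_pCore hO]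

theorem isPConstrained_iff_pLayer_eq_bot : IsPConstrained p G ↔ pLayer p G = ⊥ := by
  rw [PSolvable.isPConstrained_iff, centralizer_pCore_le_iff, pLayer_eq_bot_iff]
  exact ⟨fun h => h.1, fun h => ⟨h, pPrimeCore_quotient_eq_bot p⟩⟩

end CfsgLib.Layer
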