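import Cfsg.Agent.Lib.Layer.PComponent

/-!
Groups which are their own `p`-component modulo `O_{p'}`.
-/

set_option autoImplicit false
set_option linter.style.haveILetI false

namespace CfsgLib.Layer

open Cfsg

variable {H : Type*} [Group H] [Finite H] {p : ℕ} [Fact p.Prime]

/-- If `H / O_{p'}(H)` is quasisimple then `H = L_{p'}(H) O_{p'}(H)`. -/
theorem pLayer_sup_eq_top [(pPrimeCore p H).Normal] (h : IsQuasisimple (H ⧸ pPrimeCore p H)) :
    pLayer p H ⊔ pPrimeCore p H = ⊤ := by
  have hc : IsComponent (⊤ : Subgroup (H ⧸ pPrimeCore p H)) :=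
    ⟨Subgroup.IsSubnormal.top, (isQuasisimple_congr Subgroup.topEquiv).mpr h⟩
  have hm := (map_pLayer (X := H) (p := p)).trans (top_le_iff.mp (isComponent_le_layer hc))
  have h2 := congrArg (Subgroup.comap (QuotientGroup.mk' (pPrimeCore p H))) hm
  rwa [Subgroup.comap_map_eq, QuotientGroup.ker_mk', Subgroup.comap_top] at h2

/-- A `p`-component is the `p`-layer of itself. -/
theorem le_map_pLayer {X : Type*} [Group X] [Finite X] {K : Subgroup X} (hK : IsPComponent p K) :
    K ≤ (pLayer p K).map K.subtype := by
  haveI := Transfer.pPrimeCore_normal p K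
  haveI := Transfer.pPrimeCore_normal p X
  have htop := pLayer_sup_eq_top (isQuasisimple_quotient_pPrimeCore hK)
  have hn : (pLayer p K).Normal := by
    refine Subgroup.normalizer_eq_top_iff.mp (top_le_iff.mp (htop.ge.trans (sup_le Subgroup.le_normalizer ?_)))
    intro g _
    refine Subgroup.mem_normalizer_fintype fun y hy => ?_
    have hle : pLayer p K ≤ (pLayer p K).comap (MulAut.conj g).toMonoidHom := sSup_le fun L hL => by
      rw [← Subgroup.map_le_iff_le_comap]
      refine le_sSup ⟨hL.1.map (MulAut.conj g).surjective, ?_, fun M hM hle he => ?_⟩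
      · have e : (L.map (MulAut.conj g).toMonoidHom).map (QuotientGroup.mk' (pPrimeCore p K)) =
            (L.map (QuotientGroup.mk' (pPrimeCore p K))).map
              (MulAut.conj (g : K ⧸ pPrimeCore p K)).toMonoidHom := by
          rw [Subgroup.map_map, Subgroup.map_map]
          rfl
        rw [e]
        exact isComponent_map_equiv _ hL.2.1
      · have h1 : M.comap (MulAut.conj g).toMonoidHom = L := by
          refine hL.2.2 _ (hM.comap _) ?_ ?_
          · intro w hw
            obtain ⟨v, hv, hvw⟩ := hle hw
            exact (MulAut.conj g).injective hvw ▸ hv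
          · refine Subgroup.map_injective (f := (MulAut.conj (g : K ⧸ pPrimeCore p K)).toMonoidHom)
              (MulAut.conj _).injective ?_
            calc ((M.comap (MulAut.conj g).toMonoidHom).map (QuotientGroup.mk' _)).map
                  (MulAut.conj (g : K ⧸ pPrimeCore p K)).toMonoidHom
                = ((M.comap (MulAut.conj g).toMonoidHom).map (MulAut.conj g).toMonoidHom).map
                    (QuotientGroup.mk' _) := by rw [Subgroup.map_map, Subgroup.map_map]; rfl
              _ = M.map (QuotientGroup.mk' _) := by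
                  rw [Subgroup.map_comap_eq_self_of_surjective (MulAut.conj g).surjective]
              _ = _ := by rw [he, Subgroup.map_map, Subgroup.map_map]; rfl
        rw [← h1, Subgroup.map_comap_eq_self_of_surjective (MulAut.conj g).surjective]
    exact hle hy
  refine (hK.2.2 _ (hn.isSubnormal.trans' hK.1) (Subgroup.map_subtype_le _) ?_).ge
  refine le_antisymm (Subgroup.map_mono (Subgroup.map_subtype_le _)) ?_
  rintro _ ⟨k, hk, rfl⟩
  have h1 : (⟨k, hk⟩ : K) ∈ ((pLayer p K ⊔ pPrimeCore p K : Subgroup K) : Set K) := by rw [htop]; trivial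
  rw [Subgroup.mul_normal] at h1
  obtain ⟨a, ha, b, hb, hab⟩ := h1
  refine ⟨a, ⟨a, ha, rfl⟩, ?_⟩
  have e : (a : X) * b = k := congrArg Subtype.val hab
  rw [← e, map_mul, show QuotientGroup.mk' (pPrimeCore p X) (b : X) = 1 from
    (QuotientGroup.eq_one_iff _).mpr ((mem_pPrimeCore_iff hK.1 b).mp hb), mul_one]

theorem map_pPrimeCore_le {A B : Type*} [Group A] [Group B] [Finite A] [Finite B] (f : A ≃* B) :
    (pPrimeCore p A).map f.toMonoidHom ≤ pPrimeCore p B := by
  refine Transfer.le_pPrimeCore ((Transfer.pPrimeCore_normal p A).map _ f.surjective) ?_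
  rw [Subgroup.card_map_of_injective f.injective]
  exact Transfer.pPrimeCore_coprime p

/-- Isomorphisms map `p`-layers into `p`-layers. -/
theorem map_pLayer_equiv {H' : Type*} [Group H'] [Finite H'] (e : H ≃* H') :
    (pLayer p H).map e.toMonoidHom ≤ pLayer p H' := by
  haveI := Transfer.pPrimeCore_normal p H
  haveI := Transfer.pPrimeCore_normal p H'
  have hcore : (pPrimeCore p H).map e.toMonoidHom = pPrimeCore p H' := by
    refine le_antisymm (map_pPrimeCore_le e) fun w hw => ⟨e.symm w, ?_, e.apply_symm_apply w⟩
    exact map_pPrimeCore_le e.symm (Subgroup.mem_map_of_mem _ hw)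
  let ē := QuotientGroup.congr (pPrimeCore p H) (pPrimeCore p H') e hcore
  have hsq : ∀ N : Subgroup H, (N.map e.toMonoidHom).map (QuotientGroup.mk' (pPrimeCore p H')) =
      (N.map (QuotientGroup.mk' (pPrimeCore p H))).map ē.toMonoidHom := fun N => by
    rw [Subgroup.map_map, Subgroup.map_map]
    rfl
  rw [Subgroup.map_le_iff_le_comap]
  refine sSup_le fun L hL => ?_
  rw [← Subgroup.map_le_iff_le_comap]
  refine le_sSup ⟨hL.1.map e.surjective, ?_, fun M hM hle he => ?_⟩
  · rw [hsq]
    exact isComponent_map_equiv _ hL.2.1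
  · have h1 : M.comap e.toMonoidHom = L := by
      refine hL.2.2 _ (hM.comap _) ?_ ?_
      · intro w hw
        obtain ⟨v, hv, hvw⟩ := hle hw
        exact e.injective hvw ▸ hv
      · refine Subgroup.map_injective (f := ē.toMonoidHom) ē.injective ?_
        rw [← hsq, ← hsq, Subgroup.map_comap_eq_self_of_surjective e.surjective, he]
    rw [← h1, Subgroup.map_comap_eq_self_of_surjective e.surjective]

end CfsgLib.Layer
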