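import Mathlib
import Cfsg.Prelude.Def_Local
import Cfsg.Agent.Lib.Layer.Basic
import Cfsg.Agent.Lib.Layer.Radical
import Cfsg.Agent.Lib.Transfer.Basic
import Cfsg.Agent.Lib.PSolvable.Core

/-!
Frattini subgroups of normal subgroups, nilpotency modulo the Frattini subgroup, and perfect groups
acting trivially on `F(X)/Φ(F(X))`.
-/

set_option autoImplicit false
set_option linter.style.haveILetI false

open Cfsg
open scoped commutatorElement

namespace CfsgLib.Layer

/-- A surjection maps the Frattini subgroup into the Frattini subgroup. -/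
theorem map_frattini_le {A B : Type*} [Group A] [Group B] (f : A →* B) (hf : Function.Surjective f) :
    (frattini A).map f ≤ frattini B := by
  unfold frattini Order.radical
  refine le_iInf₂ fun C hC => ?_
  rw [Subgroup.map_le_iff_le_comap]
  refine frattini_le_coatom ⟨fun h => hC.1 ?_, fun D hD => ?_⟩
  · rw [← Subgroup.map_comap_eq_self_of_surjective hf C, h, Subgroup.map_top_of_surjective f hf]
  · have hker : f.ker ≤ D := (Subgroup.ker_le_comap f C).trans hD.le
    have hD' : (D.map f).comap f = D := Subgroup.comap_map_eq_self hker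
    rw [← hD'] at hD ⊢
    have hlt : C < D.map f := lt_of_le_of_ne
      ((Subgroup.map_comap_eq_self_of_surjective hf C).ge.trans
        (Subgroup.map_mono (hD.le.trans hD'.le))) fun e => hD.ne (by rw [← e])
    rw [hC.2 _ hlt, Subgroup.comap_top]

variable {X : Type*} [Group X]

theorem sylow_normal_of_nilpotent {A : Type*} [Group A] [Finite A] (hA : Group.IsNilpotent A) {q : ℕ}
    [Fact q.Prime] (S : Sylow q A) : (S : Subgroup A).Normal := by
  have := (Group.isNilpotent_of_finite_tfae (G := A)).out 0 3
  exact this.mp hA q ‹_› S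

/-- The Frattini subgroup of a normal subgroup lies in the Frattini subgroup. -/
theorem map_frattini_le_frattini [Finite X] (A : Subgroup X) [A.Normal] :
    (frattini ↥A).map A.subtype ≤ frattini X := by
  haveI hΦn : ((frattini ↥A).map A.subtype).Normal := PSolvable.normal_map_of_characteristic A _
  unfold frattini Order.radical
  refine le_iInf₂ fun M hM => ?_
  by_contra hle
  have htop : M ⊔ (frattini ↥A).map A.subtype = ⊤ :=
    hM.2 _ (lt_of_le_of_ne le_sup_left fun e => hle (le_sup_right.trans e.ge))
  have hA : M.subgroupOf A ⊔ frattini ↥A = ⊤ := by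
    refine eq_top_iff.mpr fun a _ => ?_
    obtain ⟨m, hm, x, ⟨y, hy, rfl⟩, e⟩ := Subgroup.mem_sup_of_normal_right.mp (htop.ge (Subgroup.mem_top (a : X)))
    have hmA : m ∈ A := by
      have := A.mul_mem a.2 (A.inv_mem y.2)
      rw [← e] at this
      simpa using this
    have ha : a = ⟨m, hmA⟩ * y := Subtype.ext e.symm
    rw [ha]
    exact Subgroup.mul_mem_sup hm hy
  refine hle ((Subgroup.map_subtype_le _).trans ?_)
  exact Subgroup.subgroupOf_eq_top.mp (frattini_nongenerating hA)

/-- Nilpotency modulo the Frattini subgroup. -/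
theorem isNilpotent_comap_of_le_frattini [Finite X] {N : Subgroup X} [N.Normal] (hN : N ≤ frattini X)
    (M : Subgroup (X ⧸ N)) [M.Normal] (hM : Group.IsNilpotent M) :
    Group.IsNilpotent (M.comap (QuotientGroup.mk' N)) := by
  set f := QuotientGroup.mk' N with hf
  set F₁ := M.comap f with hF₁
  have hsurj : Function.Surjective f := QuotientGroup.mk'_surjective N
  have hNF : N ≤ F₁ := (QuotientGroup.ker_mk' N).ge.trans (Subgroup.ker_le_comap _ _)
  have htfae := (Group.isNilpotent_of_finite_tfae (G := ↥F₁)).out 0 3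
  refine htfae.mpr ?_
  intro p hp S
  let g : ↥F₁ →* ↥M := f.subgroupComap M
  have hg : Function.Surjective g := by
    rintro ⟨y, hy⟩
    obtain ⟨x, rfl⟩ := hsurj y
    exact ⟨⟨x, hy⟩, rfl⟩
  set Sb := S.mapSurjective hg with hSb
  haveI : (Sb : Subgroup M).Normal :=
    sylow_normal_of_nilpotent hM Sb
  haveI : (Sb : Subgroup M).Characteristic := Sb.characteristic_of_normal inferInstance
  haveI : ((Sb : Subgroup M).map M.subtype).Normal := PSolvable.normal_map_of_characteristic M _
  set T := (S : Subgroup ↥F₁).map F₁.subtype with hT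
  have hTm : (Sb : Subgroup M).map M.subtype = T.map f := by
    rw [hSb, Sylow.coe_mapSurjective, hT, Subgroup.map_map, Subgroup.map_map]
    congr 1
  set W := T ⊔ N with hW
  haveI hWn : W.Normal := by
    have e : W = (T.map f).comap f := by rw [Subgroup.comap_map_eq, hf, QuotientGroup.ker_mk']
    rw [e, ← hTm]
    exact Subgroup.Normal.comap inferInstance f
  have hWF : W ≤ F₁ := sup_le (Subgroup.map_subtype_le _) hNF
  have hidx : ¬ p ∣ T.relIndex W := by
    intro hd
    have h2 : T.relIndex W ∣ T.relIndex F₁ :=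
      Dvd.intro _ (Subgroup.relIndex_mul_relIndex T W F₁ le_sup_left hWF)
    rw [show T.relIndex F₁ = (S : Subgroup ↥F₁).index by
      rw [Subgroup.relIndex, hT, Subgroup.subgroupOf,
        Subgroup.comap_map_eq_self_of_injective F₁.subtype_injective]] at h2
    exact S.not_dvd_index (hd.trans h2)
  let P : Sylow p W :=
    ((S.2.map F₁.subtype).of_equiv (Subgroup.subgroupOfEquivOfLe (le_sup_left : T ≤ W)).symm).toSylow hidx
  have hfr := Sylow.normalizer_sup_eq_top P
  have hP : (P : Subgroup W).map W.subtype = T := by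
    change (T.subgroupOf W).map W.subtype = T
    rw [Subgroup.subgroupOf_map_subtype, inf_eq_left.mpr le_sup_left]
  rw [hP] at hfr
  have htop : Subgroup.normalizer (T : Set X) ⊔ frattini X = ⊤ := by
    rw [eq_top_iff, ← hfr]
    exact sup_le le_sup_left (sup_le (Subgroup.le_normalizer.trans le_sup_left) (hN.trans le_sup_right))
  haveI hTn : T.Normal := Subgroup.normalizer_eq_top_iff.mp (frattini_nongenerating htop)
  have := Subgroup.Normal.comap hTn F₁.subtype
  rwa [hT, Subgroup.comap_map_eq_self_of_injective F₁.subtype_injective] at this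

/-- A perfect subgroup acting trivially on `F(X)/Φ(F(X))` centralises `F(X)`. -/
theorem le_centralizer_fitting_of_frattini [Finite X] {K : Subgroup X} (hK : ⁅K, K⁆ = K)
    (h : ∀ k ∈ K, ∀ x ∈ Cfsg.fittingSubgroup X,
      k * x * k⁻¹ * x⁻¹ ∈ (frattini ↥(Cfsg.fittingSubgroup X)).map (Cfsg.fittingSubgroup X).subtype) :
    K ≤ Subgroup.centralizer (Cfsg.fittingSubgroup X : Set X) := by
  set F := Cfsg.fittingSubgroup X with hF
  haveI := Fitting.fittingSubgroup_normal (G := X)
  haveI hFn : Group.IsNilpotent F := Fitting.fittingSubgroup_isNilpotent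
  have hcores : ∀ p : ℕ, p.Prime → ∀ S : Sylow p F,
      K ≤ Subgroup.centralizer (((S : Subgroup F).map F.subtype : Subgroup X) : Set X) := by
    intro p hp S
    haveI := Fact.mk hp
    haveI : (S : Subgroup F).Normal :=
      sylow_normal_of_nilpotent hFn S
    haveI : (S : Subgroup F).Characteristic := S.characteristic_of_normal inferInstance
    set P := (S : Subgroup F).map F.subtype with hP
    haveI hPn : P.Normal := PSolvable.normal_map_of_characteristic F _
    have hPp : IsPGroup p P := S.2.map _
    haveI hMn := Transfer.pPrimeCore_normal p ↥F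
    set M := Cfsg.pPrimeCore p ↥F with hM
    -- the projection onto the Sylow subgroup
    set φ : ↥(S : Subgroup F) →* ↥F ⧸ M := (QuotientGroup.mk' M).comp (S : Subgroup F).subtype with hφ
    have hinj : Function.Injective φ := by
      refine (injective_iff_map_eq_one φ).mpr fun s hs => ?_
      have hsM : (s : F) ∈ M := (QuotientGroup.eq_one_iff _).mp hs
      exact Subtype.ext (PSolvable.eq_one_of_mem_of_mem S.2 (Transfer.pPrimeCore_coprime p) s.2 hsM)
    have hsur : Function.Surjective φ := by
      have htop : (S : Subgroup F) ⊔ M = ⊤ := by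
        rw [← Subgroup.index_eq_one]
        by_contra hne
        obtain ⟨q, hq, hqd⟩ := Nat.exists_prime_and_dvd hne
        haveI := Fact.mk hq
        by_cases hqp : q = p
        · subst hqp
          exact S.not_dvd_index (hqd.trans (Subgroup.index_dvd_of_le le_sup_left))
        · obtain ⟨R⟩ := (inferInstance : Nonempty (Sylow q F))
          have hRn : (R : Subgroup F).Normal :=
            sylow_normal_of_nilpotent hFn R
          have hle : (R : Subgroup F) ≤ M := Transfer.le_pPrimeCore hRn (by
            rw [R.card_eq_multiplicity]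
            exact ((Nat.coprime_primes hq hp).mpr hqp).pow_left _)
          exact R.not_dvd_index (hqd.trans (Subgroup.index_dvd_of_le (hle.trans le_sup_right)))
      intro y
      obtain ⟨x, rfl⟩ := QuotientGroup.mk'_surjective M y
      obtain ⟨s, hs, m, hm, rfl⟩ := Subgroup.mem_sup_of_normal_right.mp (htop.ge (Subgroup.mem_top x))
      refine ⟨⟨s, hs⟩, ?_⟩
      change QuotientGroup.mk' M s = QuotientGroup.mk' M (s * m)
      rw [map_mul, show QuotientGroup.mk' M m = 1 from (QuotientGroup.eq_one_iff m).mpr hm, mul_one]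
    let e := MulEquiv.ofBijective φ ⟨hinj, hsur⟩
    -- elements of order prime to p centralise P
    have hgen : ∀ k ∈ K, (orderOf k).Coprime p → k ∈ Subgroup.centralizer (P : Set X) := by
      intro k hk hkp
      have hnorm : Subgroup.zpowers k ≤ Subgroup.normalizer (P : Set X) :=
        Subgroup.le_normalizer_of_normal
      have hcop : (Nat.card (Subgroup.zpowers k)).Coprime (Nat.card (frattini ↥P)) := by
        obtain ⟨j, hj⟩ := (hPp.to_subgroup (frattini ↥P)).exists_card_eq
        rw [Nat.card_zpowers, hj]
        exact hkp.pow_right j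
      refine Coprime.le_centralizer_of_frattini hnorm hcop (fun a ha x hx => ?_) (Subgroup.mem_zpowers k)
      have haK : a ∈ K := Subgroup.zpowers_le.mpr hk ha
      obtain ⟨y, hy, hye⟩ := h a haK x (Subgroup.map_subtype_le _ hx)
      have hcP : a * x * a⁻¹ * x⁻¹ ∈ P := P.mul_mem (hPn.conj_mem x hx a) (P.inv_mem hx)
      obtain ⟨s, hs, hse⟩ := hcP
      have hys : y = s := Subtype.ext (hye.trans hse.symm)
      have h1 : φ ⟨s, hs⟩ ∈ frattini (↥F ⧸ M) :=
        map_frattini_le _ (QuotientGroup.mk'_surjective M) ⟨y, hy, by rw [hys]; rfl⟩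
      have h2 : (⟨s, hs⟩ : ↥(S : Subgroup F)) ∈ frattini ↥(S : Subgroup F) := by
        have := map_frattini_le e.symm.toMonoidHom e.symm.surjective ⟨_, h1, rfl⟩
        rwa [show e.symm.toMonoidHom (φ ⟨s, hs⟩) = ⟨s, hs⟩ from e.symm_apply_apply _] at this
      let e' := (S : Subgroup F).equivMapOfInjective F.subtype F.subtype_injective
      refine ⟨e' ⟨s, hs⟩, map_frattini_le e'.toMonoidHom e'.surjective ⟨_, h2, rfl⟩, ?_⟩
      exact hse
    haveI : Group.IsPerfect K := Subgroup.isPerfect_iff.mpr hK
    haveI := Transfer.pResidual_normal p ↥K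
    have hres : Cfsg.pResidual p ↥K = ⊤ := by
      by_contra hne
      haveI := QuotientGroup.nontrivial_iff.mpr hne
      haveI : Group.IsPerfect (↥K ⧸ Cfsg.pResidual p ↥K) :=
        Group.IsPerfect.ofSurjective (QuotientGroup.mk'_surjective (Cfsg.pResidual p ↥K))
      haveI : Group.IsNilpotent (↥K ⧸ Cfsg.pResidual p ↥K) :=
        Transfer.isPGroup_quotient_pResidual.isNilpotent
      exact Group.IsPerfect.not_isSolvable (↥K ⧸ Cfsg.pResidual p ↥K) inferInstance
    intro k hk
    have hle : Cfsg.pResidual p ↥K ≤ (Subgroup.centralizer (P : Set X)).subgroupOf K :=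
      (Subgroup.closure_le _).mpr fun g hg => hgen g g.2 (by rw [Subgroup.orderOf_coe]; exact hg)
    exact hle (hres ▸ Subgroup.mem_top (⟨k, hk⟩ : K))
  intro k hk
  rw [Subgroup.mem_centralizer_iff]
  intro x hx
  set C := (Subgroup.centralizer ({k} : Set X)).subgroupOf F with hC
  have hCtop : C = ⊤ := by
    rw [← Subgroup.index_eq_one]
    by_contra hne
    obtain ⟨q, hq, hqd⟩ := Nat.exists_prime_and_dvd hne
    haveI := Fact.mk hq
    obtain ⟨S⟩ := (inferInstance : Nonempty (Sylow q F))
    refine S.not_dvd_index (hqd.trans (Subgroup.index_dvd_of_le fun s hs => ?_))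
    exact Subgroup.mem_centralizer_singleton_iff.mpr
      (Subgroup.mem_centralizer_iff.mp (hcores q hq S hk) s ⟨s, hs, rfl⟩)
  exact Subgroup.mem_centralizer_singleton_iff.mp
    (hCtop.ge (Subgroup.mem_top (⟨x, hx⟩ : F)))

end CfsgLib.Layer
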