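import Mathlib
import Cfsg.Agent.Lib.Layer.Characteristic
import Cfsg.Agent.Lib.Layer.CharPSubnormal
import Cfsg.Agent.Lib.Coprime.Action

/-!
The action of `p`-locals on the components of a group with trivial `p'`-core: `O_{p'}(C(P))` and
the `p`-layer of `N(P)` fix every component.
-/

set_option autoImplicit false
set_option linter.style.haveILetI false
set_option linter.unusedSectionVars false

open scoped commutatorElement
open Pointwise

namespace CfsgLib.Layer.PLocal

open Cfsg
open CfsgLib.Coprime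

variable {G : Type*} [Group G] [Finite G] {p : ℕ} [hp : Fact p.Prime]

instance pCore_normal_inst : (pCore p G).Normal := Fitting.pCore_normal p

/-- A perfect subgroup is contained in whatever contains its elements of order prime to `p`. -/
theorem le_of_coprime_elements {K T : Subgroup G} (hK : ⁅K, K⁆ = K)
    (h : ∀ x ∈ K, (orderOf x).Coprime p → x ∈ T) : K ≤ T := by
  set N : Subgroup K := Subgroup.closure {x : K | (orderOf x).Coprime p} with hN
  haveI : N.Normal := ⟨fun n hn g => by
    have hle : N.map (MulAut.conj g).toMonoidHom ≤ N := by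
      rw [hN, MonoidHom.map_closure]
      refine Subgroup.closure_mono ?_
      rintro _ ⟨x, hx, rfl⟩
      show (orderOf (MulAut.conj g x)).Coprime p
      rwa [MulEquiv.orderOf_eq]
    exact hle ⟨n, hn, rfl⟩⟩
  have hle : N.map K.subtype ≤ T := by
    rw [hN, MonoidHom.map_closure, Subgroup.closure_le]
    rintro _ ⟨x, hx, rfl⟩
    exact h x x.2 (by rwa [Subgroup.orderOf_coe])
  have htop : N = ⊤ := by
    by_contra hne
    haveI : Group.IsPerfect K := Subgroup.isPerfect_iff.mpr hK
    haveI : Nontrivial (K ⧸ N) := QuotientGroup.nontrivial_iff.mpr hne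
    haveI : Group.IsNilpotent (K ⧸ N) := (show IsPGroup p (K ⧸ N) from fun q => by
      obtain ⟨x, rfl⟩ := QuotientGroup.mk'_surjective N q
      obtain ⟨a, b, hb, hab⟩ := Nat.exists_eq_pow_mul_and_not_dvd
        (orderOf_pos x).ne' p hp.out.ne_one
      refine ⟨a, ?_⟩
      rw [← map_pow]
      refine (QuotientGroup.eq_one_iff _).mpr (Subgroup.subset_closure ?_)
      show (orderOf (x ^ p ^ a)).Coprime p
      rw [orderOf_pow, hab, Nat.gcd_eq_right (Dvd.intro _ rfl),
        Nat.mul_div_cancel_left _ (pow_pos hp.out.pos a)]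
      exact ((Nat.Prime.coprime_iff_not_dvd hp.out).mpr hb).symm).isNilpotent
    exact Group.IsPerfect.not_isNilpotent (K ⧸ N) inferInstance
  rwa [htop, ← MonoidHom.range_eq_map, Subgroup.range_subtype] at hle

/-- `A × B` lemma on `O_p(G)`. -/
theorem le_centralizer_pCore {P R : Subgroup G} (hP : IsPGroup p P)
    (hR : (Nat.card R).Coprime p) (hRP : R ≤ Subgroup.centralizer (P : Set G))
    (h : R ≤ Subgroup.centralizer ((pCore p G ⊓ Subgroup.centralizer (P : Set G) : Subgroup G) : Set G)) :
    R ≤ Subgroup.centralizer (pCore p G : Set G) :=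
  pxq hP hR (Subgroup.le_centralizer_iff.mp hRP) (Fitting.pCore_isPGroup p)
    Subgroup.le_normalizer_of_normal Subgroup.le_normalizer_of_normal
    (Subgroup.le_centralizer_iff.mp h)

/-- `C(P) ∩ C(O_p(G))`. -/
def cent (p : ℕ) (P : Subgroup G) : Subgroup G :=
  Subgroup.centralizer (P : Set G) ⊓ Subgroup.centralizer (pCore p G : Set G)

/-- `O_{p'}` of `C(P) ∩ C(O_p(G))`. -/
def core0 (p : ℕ) (P : Subgroup G) : Subgroup G :=
  (pPrimeCore p ↥(cent p P)).map (cent p P).subtype

/-- The elements of the layer centralising `P` modulo `O_p(G)`. -/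
def mid (p : ℕ) [Fact p.Prime] (P : Subgroup G) : Subgroup G :=
  layer G ⊓ (Subgroup.centralizer
    ((P.map (QuotientGroup.mk' (pCore p G)) : Subgroup _) : Set (G ⧸ pCore p G))).comap
      (QuotientGroup.mk' (pCore p G))

theorem mem_mid {P : Subgroup G} {g : G} :
    g ∈ mid p P ↔ g ∈ layer G ∧ ∀ π ∈ P, g⁻¹ * π⁻¹ * g * π ∈ pCore p G := by
  rw [mid, Subgroup.mem_inf, Subgroup.mem_comap, Subgroup.mem_centralizer_iff]
  refine and_congr_right fun _ => ⟨fun h π hπ => ?_, fun h => ?_⟩
  · rw [← QuotientGroup.eq_one_iff]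
    have h1 := h _ ⟨π, hπ, rfl⟩
    show ((QuotientGroup.mk' (pCore p G)) (g⁻¹ * π⁻¹ * g * π)) = 1
    rw [map_mul, map_mul, map_mul, map_inv, map_inv, mul_assoc _ _ (QuotientGroup.mk' _ π), ← h1]
    group
  · rintro _ ⟨π, hπ, rfl⟩
    have h1 := (QuotientGroup.eq_one_iff _).mpr (h π hπ)
    change (QuotientGroup.mk' (pCore p G)) (g⁻¹ * π⁻¹ * g * π) = 1 at h1
    rw [map_mul, map_mul, map_mul, map_inv, map_inv] at h1
    generalize QuotientGroup.mk' (pCore p G) g = a at *
    generalize QuotientGroup.mk' (pCore p G) π = b at *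
    calc b * a = b * a * (a⁻¹ * b⁻¹ * a * b) := by rw [h1, mul_one]
      _ = a * b := by group

theorem pCore_le_centralizer_layer :
    pCore p G ≤ Subgroup.centralizer (layer G : Set G) :=
  (Fitting.pCore_le_fittingSubgroup p).trans fitting_le_centralizer_layer

theorem mid_le_centralizer_pCore (P : Subgroup G) :
    mid p P ≤ Subgroup.centralizer (pCore p G : Set G) :=
  inf_le_left.trans (Subgroup.le_centralizer_iff.mp pCore_le_centralizer_layer)

theorem normalizer_le_normalizer_mid (P : Subgroup G) :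
    Subgroup.normalizer (P : Set G) ≤ Subgroup.normalizer (mid p P : Set G) := by
  haveI := layer_normal (G := G)
  refine le_normalizer_inf_of_le Subgroup.le_normalizer_of_normal fun n hn => ?_
  refine Subgroup.mem_normalizer_fintype fun g hg => ?_
  simp only [SetLike.mem_coe, Subgroup.mem_comap, Subgroup.mem_centralizer_iff] at hg ⊢
  rintro _ ⟨π, hπ, rfl⟩
  have h1 := hg _ ⟨n⁻¹ * π * n, (Subgroup.mem_normalizer_iff''.mp hn π).mp hπ, rfl⟩
  simp only [map_mul, map_inv] at h1 ⊢
  generalize QuotientGroup.mk' (pCore p G) g = a at *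
  generalize QuotientGroup.mk' (pCore p G) π = b at *
  generalize QuotientGroup.mk' (pCore p G) n = c at *
  calc b * (c * a * c⁻¹) = c * (c⁻¹ * b * c * a) * c⁻¹ := by group
    _ = c * (a * (c⁻¹ * b * c)) * c⁻¹ := by rw [h1]
    _ = c * a * c⁻¹ * b := by group

theorem mid_le_normalizer_cent (P : Subgroup G) :
    mid p P ≤ Subgroup.normalizer (cent p P : Set G) := by
  intro g hg
  refine Subgroup.mem_normalizer_fintype fun u hu => ?_
  obtain ⟨hu1, hu2⟩ := Subgroup.mem_inf.mp hu
  refine Subgroup.mem_inf.mpr ⟨Subgroup.mem_centralizer_iff.mpr fun π hπ => ?_, ?_⟩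
  · have hq : g⁻¹ * π⁻¹ * g * π ∈ pCore p G := (mem_mid.mp hg).2 π hπ
    have e1 := Subgroup.mem_centralizer_iff.mp hu2 _ hq
    have e2 := Subgroup.mem_centralizer_iff.mp hu1 π hπ
    have e3 : Commute (g⁻¹ * π * g) u := by
      rw [show g⁻¹ * π * g = π * (g⁻¹ * π⁻¹ * g * π)⁻¹ by group]
      exact Commute.mul_left e2 (Commute.inv_left e1)
    calc π * (g * u * g⁻¹) = g * (g⁻¹ * π * g * u) * g⁻¹ := by group
      _ = g * (u * (g⁻¹ * π * g)) * g⁻¹ := by rw [e3.eq]
      _ = g * u * g⁻¹ * π := by group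
  · haveI : (Subgroup.centralizer (pCore p G : Set G)).Normal := Subgroup.normal_centralizer
    exact this.conj_mem u hu2 g

theorem normalizer_le_normalizer_cent (P : Subgroup G) :
    Subgroup.normalizer (P : Set G) ≤ Subgroup.normalizer (cent p P : Set G) :=
  le_normalizer_inf_of_le (le_normalizer_centralizer le_rfl)
    (haveI : (Subgroup.centralizer (pCore p G : Set G)).Normal := Subgroup.normal_centralizer
     Subgroup.le_normalizer_of_normal)

theorem cent_le_centralizer (P : Subgroup G) : cent p P ≤ Subgroup.centralizer (P : Set G) :=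
  inf_le_left

theorem le_normalizer_core0 {A P : Subgroup G} (h : A ≤ Subgroup.normalizer (cent p P : Set G)) :
    A ≤ Subgroup.normalizer (core0 p P : Set G) :=
  PSolvable.le_normalizer_map_of_characteristic h _

theorem core0_le (P : Subgroup G) : core0 p P ≤ cent p P := Subgroup.map_subtype_le _

theorem coprime_core0 (P : Subgroup G) : (Nat.card (core0 p P)).Coprime p := by
  rw [core0, Subgroup.card_map_of_injective (Subgroup.subtype_injective _)]
  exact Transfer.pPrimeCore_coprime p

/-- A normal `p'`-subgroup of `C(P)` lies in `core0`. -/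
theorem le_core0 {P R : Subgroup G} (hP : IsPGroup p P) (hRP : R ≤ Subgroup.centralizer (P : Set G))
    (hRn : Subgroup.centralizer (P : Set G) ≤ Subgroup.normalizer (R : Set G))
    (hR : (Nat.card R).Coprime p) : R ≤ core0 p P := by
  have hQ : R ≤ Subgroup.centralizer (pCore p G : Set G) := by
    refine le_centralizer_pCore hP hR hRP fun r hr => Subgroup.mem_centralizer_iff.mpr fun w hw => ?_
    obtain ⟨hwQ, hwP⟩ := Subgroup.mem_inf.mp hw
    have h1 : w * r * w⁻¹ * r⁻¹ = 1 := by
      refine PSolvable.eq_one_of_mem_of_mem (Fitting.pCore_isPGroup p) hR ?_ ?_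
      · rw [show w * r * w⁻¹ * r⁻¹ = w * (r * w⁻¹ * r⁻¹) by group]
        exact mul_mem hwQ ((Fitting.pCore_normal p).conj_mem _ (inv_mem hwQ) r)
      · exact mul_mem ((Subgroup.mem_normalizer_iff.mp (hRn hwP) r).mp hr) (inv_mem hr)
    calc w * r = w * r * w⁻¹ * r⁻¹ * (r * w) := by group
      _ = r * w := by rw [h1, one_mul]
  have hle : R ≤ cent p P := le_inf hRP hQ
  have h1 : R.subgroupOf (cent p P) ≤ pPrimeCore p ↥(cent p P) := by
    refine Transfer.le_pPrimeCore (Subgroup.normal_subgroupOf_of_le_normalizer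
      ((cent_le_centralizer P).trans hRn)) ?_
    rw [Nat.card_congr (Subgroup.subgroupOfEquivOfLe hle).toEquiv]
    exact hR
  have h2 := Subgroup.map_mono (f := (cent p P).subtype) h1
  rwa [Subgroup.map_subgroupOf_eq_of_le hle] at h2

theorem smul_layer (g : G) : MulAut.conj g • layer G = layer G := by
  rw [conj_smul_eq_map, Subgroup.characteristic_iff_map_eq.mp inferInstance]

/-- The product of the `P`-orbit of a component. -/
def orbitSup (P L : Subgroup G) : Subgroup G := ⨆ π : P, MulAut.conj (π : G) • L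

theorem le_orbitSup (P L : Subgroup G) : L ≤ orbitSup P L := by
  refine le_trans ?_ (le_iSup _ (1 : P))
  simp

theorem orbitSup_le_layer {P L : Subgroup G} (hL : IsComponent L) : orbitSup P L ≤ layer G :=
  iSup_le fun π => isComponent_le_layer (isComponent_conj hL _)

theorem le_normalizer_orbitSup (P L : Subgroup G) :
    P ≤ Subgroup.normalizer (orbitSup P L : Set G) := by
  intro g hg
  refine Subgroup.mem_normalizer_fintype fun u hu => ?_
  have h : (orbitSup P L).map (MulAut.conj g).toMonoidHom ≤ orbitSup P L := by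
    rw [orbitSup, Subgroup.map_iSup]
    refine iSup_le fun π => le_iSup_of_le ⟨g * π, mul_mem hg π.2⟩ (le_of_eq ?_)
    rw [← conj_smul_eq_map, smul_smul, ← map_mul]
  exact h ⟨u, hu, rfl⟩

theorem orbitSup_isSubnormal {P L : Subgroup G} (hL : IsComponent L) :
    (orbitSup P L).IsSubnormal := by
  refine Subgroup.IsSubnormal.trans' ?_ (layer_normal (G := G)).isSubnormal
    |> fun h => (Subgroup.map_subgroupOf_eq_of_le (orbitSup_le_layer (P := P) hL)) ▸ h
  refine (Subgroup.normal_subgroupOf_iff_le_normalizer (orbitSup_le_layer hL)).mpr ?_ |>.isSubnormal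
  intro g hg
  refine Subgroup.mem_normalizer_fintype fun u hu => ?_
  have h : (orbitSup P L).map (MulAut.conj g).toMonoidHom ≤ orbitSup P L := by
    rw [orbitSup, Subgroup.map_iSup]
    refine iSup_le fun π => le_iSup_of_le π (le_of_eq ?_)
    rw [← conj_smul_eq_map, conj_smul_eq_self_of_mem_normalizer
      (component_normal_in_layer (isComponent_conj hL _) hg)]
  exact h ⟨u, hu, rfl⟩

/-- A noncentral `p`-element of the orbit product fixed by `P` modulo `O_p(G)`. -/
theorem exists_mem_mid (hO : pPrimeCore p G = ⊥) {P L : Subgroup G} (hP : IsPGroup p P)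
    (hL : IsComponent L) :
    ∃ y ∈ mid p P, y ∈ orbitSup P L ∧ (∃ j, orderOf y ∣ p ^ j) ∧
      y ∉ Subgroup.centralizer (orbitSup P L : Set G) := by
  set F := orbitSup P L
  obtain ⟨S, hPS⟩ := hP.exists_le_sylow
  set Z0 := F ⊓ Subgroup.centralizer (F : Set G)
  have hZ0 : Z0 ≤ pCore p G := by
    rw [← fittingSubgroup_eq_pCore hO]
    haveI : IsMulCommutative ↥Z0 := ⟨⟨fun a b => Subtype.ext
      (Subgroup.mem_centralizer_iff.mp (Subgroup.mem_inf.mp b.2).2 a (Subgroup.mem_inf.mp a.2).1)⟩⟩
    refine le_fittingSubgroup_of_isSubnormal ?_ (by open scoped IsMulCommutative in infer_instance)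
    have h1 : (Z0.subgroupOf F).Normal := (Subgroup.normal_subgroupOf_iff_le_normalizer inf_le_left).mpr
      (le_normalizer_inf_of_le Subgroup.le_normalizer (le_normalizer_centralizer Subgroup.le_normalizer))
    have h2 := h1.isSubnormal.trans' (orbitSup_isSubnormal hL)
    rwa [Subgroup.map_subgroupOf_eq_of_le (inf_le_left : Z0 ≤ F)] at h2
  have hnot : ¬ (S : Subgroup G) ⊓ F ≤ Subgroup.centralizer (F : Set G) := by
    intro h
    haveI := hL.2.1
    refine center_ne_top_of_isQuasisimple hL.2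
      (eq_top_of_coprime_index hO hL (Subgroup.center L) ?_)
    refine ((Nat.Prime.coprime_iff_not_dvd hp.out).mpr fun hd => ?_).symm
    refine CharCore.not_dvd_relIndex_of_isSubnormal hL.1 S (hd.trans ?_)
    rw [Subgroup.relIndex]
    refine Subgroup.index_dvd_of_le fun y hy => Subgroup.mem_center_iff.mpr fun z => Subtype.ext ?_
    exact Subgroup.mem_centralizer_iff.mp
      (h ⟨Subgroup.mem_subgroupOf.mp hy, le_orbitSup P L y.2⟩) z (le_orbitSup P L z.2)
  have hPT : P ≤ Subgroup.normalizer (((S : Subgroup G) ⊓ F : Subgroup G) : Set G) :=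
    le_normalizer_inf_of_le (hPS.trans Subgroup.le_normalizer) (le_normalizer_orbitSup P L)
  haveI : Finite (Subgroup G) := Finite.of_injective (fun H => (H : Set G)) SetLike.coe_injective
  obtain ⟨N, hN⟩ := exists_minimal_of_wellFoundedLT
    (fun N : Subgroup G => N ≤ (S : Subgroup G) ⊓ F ∧ P ≤ Subgroup.normalizer (N : Set G) ∧
      ¬ N ≤ Subgroup.centralizer (F : Set G)) ⟨_, le_rfl, hPT, hnot⟩
  obtain ⟨hNT, hPN, hNc⟩ := hN.prop
  haveI : Group.IsNilpotent ↥(S : Subgroup G) := S.2.isNilpotent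
  have hNb : N ≠ ⊥ := fun h => hNc (h ▸ bot_le)
  have hlt : ⁅N, P⁆ < N :=
    commutator_lt_of_isNilpotent (hNT.trans inf_le_left) hPS hPN hNb
  have hNP : ⁅N, P⁆ ≤ Subgroup.centralizer (F : Set G) := by
    by_contra hc
    exact hlt.not_ge (hN.le_of_le ⟨hlt.le.trans hNT,
      le_normalizer_commutator hPN Subgroup.le_normalizer, hc⟩ hlt.le)
  obtain ⟨y, hyN, hyc⟩ := SetLike.not_le_iff_exists.mp hNc
  obtain ⟨hyS, hyF⟩ := Subgroup.mem_inf.mp (hNT hyN)
  refine ⟨y, mem_mid.mpr ⟨orbitSup_le_layer hL hyF, fun π hπ => hZ0 (Subgroup.mem_inf.mpr ⟨?_, ?_⟩)⟩, hyF, ?_, hyc⟩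
  · have : π⁻¹ * y * π ∈ F :=
      (Subgroup.mem_normalizer_iff''.mp (le_normalizer_orbitSup P L hπ) y).mp hyF
    rw [show y⁻¹ * π⁻¹ * y * π = y⁻¹ * (π⁻¹ * y * π) by group]
    exact mul_mem (inv_mem hyF) this
  · refine hNP ?_
    have := Subgroup.commutator_mem_commutator (inv_mem hyN) (inv_mem hπ)
    simpa [commutatorElement_def] using this
  · obtain ⟨j, hj⟩ := S.2 ⟨y, hyS⟩
    exact ⟨j, orderOf_dvd_of_pow_eq_one (congrArg Subtype.val hj)⟩

/-- A commutator in a `p'`-group pins the orbit. -/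
theorem exists_smul_eq (hO : pPrimeCore p G = ⊥) {P L R : Subgroup G} (hP : IsPGroup p P)
    (hL : IsComponent L) (hR : (Nat.card R).Coprime p) {u : G}
    (huP : u ∈ Subgroup.centralizer (P : Set G))
    (hu : ∀ y ∈ mid p P, u * y * u⁻¹ * y⁻¹ ∈ R) :
    ∃ π ∈ P, MulAut.conj u • L = MulAut.conj π • L := by
  by_contra hno
  push Not at hno
  obtain ⟨y, hym, hyF, ⟨j, hyj⟩, hyc⟩ := exists_mem_mid hO hP hL
  set F := orbitSup P L
  have huF : MulAut.conj u • F ≤ Subgroup.centralizer (F : Set G) := by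
    rw [conj_smul_eq_map, show F = orbitSup P L from rfl, orbitSup, Subgroup.map_iSup]
    refine iSup_le fun a => Subgroup.le_centralizer_iff.mpr (iSup_le fun b => ?_)
    rw [Subgroup.le_centralizer_iff, ← Subgroup.commutator_eq_bot_iff_le_centralizer, ← conj_smul_eq_map]
    refine commutator_eq_bot_of_ne (isComponent_conj (isComponent_conj hL _) u)
      (isComponent_conj hL _) fun he => hno ((a : G)⁻¹ * b) (mul_mem (inv_mem a.2) b.2) ?_
    have hua : u * (a : G) = a * u := (Subgroup.mem_centralizer_iff.mp huP a a.2).symm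
    rw [smul_smul, ← map_mul, hua, map_mul, ← smul_smul] at he
    rw [map_mul, ← smul_smul (MulAut.conj (a : G)⁻¹), ← he, smul_smul, ← map_mul, inv_mul_cancel,
      map_one, one_smul]
  have hy' : u * y * u⁻¹ ∈ Subgroup.centralizer (F : Set G) :=
    huF (conj_mem_conj_smul hyF)
  have hc : Commute (u * y * u⁻¹) y⁻¹ :=
    (Subgroup.mem_centralizer_iff.mp hy' y⁻¹ (inv_mem hyF)).symm
  have hz : u * y * u⁻¹ * y⁻¹ = 1 := by
    refine PSolvable.eq_one_of_mem_of_mem (P := Subgroup.zpowers (u * y * u⁻¹ * y⁻¹)) ?_ hR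
      (Subgroup.mem_zpowers _) (hu y hym)
    rintro ⟨z, k, rfl⟩
    refine ⟨j, Subtype.ext ?_⟩
    show ((u * y * u⁻¹ * y⁻¹) ^ k) ^ p ^ j = 1
    rw [← zpow_natCast, ← zpow_mul, mul_comm k, zpow_mul, zpow_natCast, hc.mul_pow, inv_pow,
      conj_pow, orderOf_dvd_iff_pow_eq_one.mp hyj]
    simp
  rw [mul_inv_eq_one] at hz
  exact hyc (hz ▸ hy')

/-- An element of `p'`-order commuting with `P` and moving `L` inside its orbit fixes `L`. -/
theorem smul_eq_of_coprime {P L : Subgroup G} (hP : IsPGroup p P) {u : G}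
    (huP : u ∈ Subgroup.centralizer (P : Set G)) (hu : (orderOf u).Coprime p)
    (h : ∃ π ∈ P, MulAut.conj u • L = MulAut.conj π • L) : MulAut.conj u • L = L := by
  obtain ⟨π, hπ, he⟩ := h
  have hc : Commute π u := Subgroup.mem_centralizer_iff.mp huP π hπ
  have hpow : ∀ m : ℕ, MulAut.conj (u ^ m) • L = MulAut.conj (π ^ m) • L := by
    intro m
    induction m with
    | zero => simp
    | succ m ih =>
      calc MulAut.conj (u ^ (m + 1)) • L = MulAut.conj (u ^ m * π) • L := by
            rw [pow_succ, map_mul, ← smul_smul, he, smul_smul, ← map_mul]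
        _ = MulAut.conj π • MulAut.conj (u ^ m) • L := by
            rw [(hc.symm.pow_left m).eq, map_mul, ← smul_smul]
        _ = MulAut.conj (π ^ (m + 1)) • L := by
            rw [ih, smul_smul, ← map_mul, pow_succ']
  have h1 : MulAut.conj (π ^ orderOf u) • L = L := by
    rw [← hpow, pow_orderOf_eq_one, map_one, one_smul]
  obtain ⟨j, hj⟩ := hP ⟨π, hπ⟩
  have hcop : (orderOf π).Coprime (orderOf u) :=
    (hu.pow_right j).symm.coprime_dvd_left (orderOf_dvd_of_pow_eq_one (congrArg Subtype.val hj))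
  have hmem : π ∈ Subgroup.normalizer (L : Set G) := by
    obtain ⟨m, hm⟩ := exists_pow_eq_self_of_coprime hcop.symm
    rw [← hm]
    exact pow_mem (mem_normalizer_iff_conj_smul.mpr h1) m
  rw [he, conj_smul_eq_self_of_mem_normalizer hmem]

theorem mid_le_normalizer (P : Subgroup G) {L : Subgroup G} (hL : IsComponent L) :
    mid p P ≤ Subgroup.normalizer (L : Set G) :=
  inf_le_left.trans (component_normal_in_layer hL)

/-- `core0` fixes every component. -/
theorem core0_le_normalizer (hO : pPrimeCore p G = ⊥) {P L : Subgroup G} (hP : IsPGroup p P)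
    (hL : IsComponent L) : core0 p P ≤ Subgroup.normalizer (L : Set G) := by
  intro u hu
  have huP : u ∈ Subgroup.centralizer (P : Set G) := cent_le_centralizer P (core0_le P hu)
  refine mem_normalizer_iff_conj_smul.mpr (smul_eq_of_coprime hP huP
    ((coprime_core0 P).coprime_dvd_left (Subgroup.orderOf_dvd_natCard _ hu))
    (exists_smul_eq hO hP hL (coprime_core0 P) huP fun y hy => ?_))
  rw [show u * y * u⁻¹ * y⁻¹ = u * (y * u⁻¹ * y⁻¹) by group]
  exact mul_mem hu ((Subgroup.mem_normalizer_iff.mp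
    (le_normalizer_core0 (mid_le_normalizer_cent P) hy) _).mp (inv_mem hu))

/-- A normalised `p'`-group centralises `L` when `L` lifts to its normaliser modulo `C(L)`. -/
theorem le_centralizer_of_lift (hO : pPrimeCore p G = ⊥) {L R : Subgroup G} (hL : IsComponent L)
    (hR : (Nat.card R).Coprime p) (hRL : R ≤ Subgroup.normalizer (L : Set G))
    (hlift : ∀ b ∈ L, ∃ s ∈ Subgroup.centralizer (L : Set G),
      b * s ∈ Subgroup.normalizer (R : Set G)) : R ≤ Subgroup.centralizer (L : Set G) := by
  set C := Subgroup.centralizer (L : Set G) with hC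
  have hLC : L ≤ Subgroup.normalizer (C : Set G) := le_normalizer_centralizer Subgroup.le_normalizer
  let N : Subgroup G :=
    { carrier := {a | a ∈ L ∧ ∃ r ∈ C, a * r ∈ R}
      one_mem' := ⟨one_mem _, 1, one_mem _, by simp⟩
      mul_mem' := by
        rintro a b ⟨ha, r, hr, har⟩ ⟨hb, s, hs, hbs⟩
        refine ⟨mul_mem ha hb, r * s, mul_mem hr hs, ?_⟩
        have := Subgroup.mem_centralizer_iff.mp hr b hb
        rw [show a * b * (r * s) = a * (b * r) * s by group, this]
        simpa [mul_assoc] using mul_mem har hbs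
      inv_mem' := by
        rintro a ⟨ha, r, hr, har⟩
        refine ⟨inv_mem ha, r⁻¹, inv_mem hr, ?_⟩
        have := Subgroup.mem_centralizer_iff.mp hr a ha
        rw [show a⁻¹ * r⁻¹ = (r * a)⁻¹ by group, ← this]
        exact inv_mem har }
  have hNL : N ≤ L := fun a ha => ha.1
  haveI hNn : (N.subgroupOf L).Normal := by
    refine (Subgroup.normal_subgroupOf_iff_le_normalizer hNL).mpr fun b hb => ?_
    refine Subgroup.mem_normalizer_fintype fun a ha => ?_
    obtain ⟨haL, r, hr, har⟩ := ha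
    obtain ⟨s, hs, hbs⟩ := hlift b hb
    refine ⟨mul_mem (mul_mem hb haL) (inv_mem hb), b * (s * r * s⁻¹) * b⁻¹,
      (Subgroup.mem_normalizer_iff.mp (hLC hb) _).mp (mul_mem (mul_mem hs hr) (inv_mem hs)), ?_⟩
    have h1 := (Subgroup.mem_normalizer_iff.mp hbs _).mp har
    have h2 := Subgroup.mem_centralizer_iff.mp hs a haL
    convert h1 using 1
    calc b * a * b⁻¹ * (b * (s * r * s⁻¹) * b⁻¹) = b * (a * s) * r * s⁻¹ * b⁻¹ := by group
      _ = b * (s * a) * r * s⁻¹ * b⁻¹ := by rw [h2]
      _ = b * s * (a * r) * (b * s)⁻¹ := by group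
  have hNc : N ≤ C := by
    rcases eq_top_or_le_center_of_normal hL.2 (N.subgroupOf L) with h | h
    · exfalso
      have hLN : L ≤ N := Subgroup.subgroupOf_eq_top.mp h
      haveI := hL.2.1
      refine center_ne_top_of_isQuasisimple hL.2
        (eq_top_of_coprime_index hO hL (Subgroup.center L) ?_)
      obtain ⟨S⟩ : Nonempty (Sylow p L) := inferInstance
      refine (((Nat.Prime.coprime_iff_not_dvd hp.out).mpr S.not_dvd_index).symm).coprime_dvd_left
        (Subgroup.index_dvd_of_le fun y hy => ?_)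
      obtain ⟨-, r, hr, hyr⟩ := hLN y.2
      obtain ⟨j, hj⟩ := S.2 ⟨y, hy⟩
      have hcop : (orderOf ((y : G) * r)).Coprime (orderOf (y : G)) :=
        ((hR.coprime_dvd_left (Subgroup.orderOf_dvd_natCard _ hyr)).pow_right j).coprime_dvd_right
          (orderOf_dvd_of_pow_eq_one (by simpa using congrArg (fun z => ((z.1 : L) : G)) hj))
      obtain ⟨m, hm⟩ := exists_pow_eq_self_of_coprime hcop
      have hyC : ((y : G)) ^ orderOf ((y : G) * r) ∈ C := by
        have h1 := pow_orderOf_eq_one ((y : G) * r)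
        rw [(show Commute (y : G) r from Subgroup.mem_centralizer_iff.mp hr y y.2).mul_pow,
          mul_eq_one_iff_eq_inv] at h1
        rw [h1]
        exact inv_mem (pow_mem hr _)
      have hyC' : (y : G) ∈ C := hm ▸ pow_mem hyC m
      exact Subgroup.mem_center_iff.mpr fun z =>
        Subtype.ext (Subgroup.mem_centralizer_iff.mp hyC' z z.2)
    · exact fun a ha => Subgroup.mem_centralizer_iff.mpr fun z hz => congrArg Subtype.val
        (Subgroup.mem_center_iff.mp (h (x := ⟨a, hNL ha⟩) (Subgroup.mem_subgroupOf.mpr ha)) ⟨z, hz⟩)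
  have hcomm : ⁅L, R⁆ ≤ C := by
    refine Subgroup.commutator_le.mpr fun b hb u hu => ?_
    obtain ⟨s, hs, hbs⟩ := hlift b hb
    have huC : u ∈ Subgroup.normalizer (C : Set G) := le_normalizer_centralizer hRL hu
    have hbu : u * b * u⁻¹ ∈ L := (Subgroup.mem_normalizer_iff.mp (hRL hu) b).mp hb
    have h1 : u * b * u⁻¹ * b⁻¹ ∈ N := by
      refine ⟨mul_mem hbu (inv_mem hb), b * (u * s * u⁻¹ * s⁻¹) * b⁻¹,
        (Subgroup.mem_normalizer_iff.mp (hLC hb) _).mp
          (mul_mem ((Subgroup.mem_normalizer_iff.mp huC s).mp hs) (inv_mem hs)), ?_⟩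
      have h2 := mul_mem hu ((Subgroup.mem_normalizer_iff.mp hbs _).mp (inv_mem hu))
      convert h2 using 1
      group
    rw [commutatorElement_def, show b * u * b⁻¹ * u⁻¹ = (u * b * u⁻¹ * b⁻¹)⁻¹ by group]
    exact inv_mem (hNc h1)
  have h0 := commutator_eq_bot_of_perfect (isPerfect_of_isComponent hL)
    (Subgroup.commutator_eq_bot_iff_le_centralizer.mpr hcomm)
  rw [Subgroup.commutator_comm] at h0
  exact Subgroup.commutator_eq_bot_iff_le_centralizer.mp h0

/-- `core0` centralises a component that is moved or centralised by `x`. -/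
theorem core0_le_centralizer (hO : pPrimeCore p G = ⊥) {x : G} (hx : x ^ p = 1) {L : Subgroup G}
    (hL : IsComponent L)
    (h : x ∈ Subgroup.normalizer (L : Set G) → x ∈ Subgroup.centralizer (L : Set G)) :
    core0 p (Subgroup.zpowers x) ≤ Subgroup.centralizer (L : Set G) := by
  have hP : IsPGroup p (Subgroup.zpowers x) := by
    rintro ⟨z, k, rfl⟩
    refine ⟨1, Subtype.ext ?_⟩
    show (x ^ k) ^ p ^ 1 = 1
    rw [pow_one, ← zpow_natCast, ← zpow_mul, mul_comm, zpow_mul, zpow_natCast, hx, one_zpow]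
  refine le_centralizer_of_lift hO hL (coprime_core0 _) (core0_le_normalizer hO hP hL)
    fun b hb => ?_
  have hnorm : ∀ c : G, c * x = x * c →
      c ∈ Subgroup.normalizer (core0 p (Subgroup.zpowers x) : Set G) := fun c hc =>
    le_normalizer_core0 (normalizer_le_normalizer_cent _) (Subgroup.centralizer_le_normalizer _
      (mem_centralizer_singleton_zpowers (Subgroup.mem_centralizer_singleton_iff.mpr hc)))
  by_cases hxL : x ∈ Subgroup.normalizer (L : Set G)
  · exact ⟨1, one_mem _, hnorm _ (by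
      rw [mul_one]; exact (Subgroup.mem_centralizer_iff.mp (h hxL) b hb))⟩
  set C := Subgroup.centralizer (L : Set G)
  have hshift : ∀ n, 1 ≤ n → n < p → x ^ n * b * (x ^ n)⁻¹ ∈ C := by
    intro n h1 h2
    have hne : MulAut.conj (x ^ n) • L ≠ L := fun he => by
      have hcop : n.Coprime p :=
        ((Nat.Prime.coprime_iff_not_dvd hp.out).mpr (Nat.not_dvd_of_pos_of_lt h1 h2)).symm
      obtain ⟨m, hm⟩ := exists_pow_eq_self_of_coprime (x := x)
        (hcop.coprime_dvd_right (orderOf_dvd_of_pow_eq_one hx))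
      exact hxL (hm ▸ pow_mem (mem_normalizer_iff_conj_smul.mpr he) m)
    exact Subgroup.commutator_eq_bot_iff_le_centralizer.mp
      (commutator_eq_bot_of_ne (isComponent_conj hL _) hL hne) (conj_mem_conj_smul hb)
  have hprod : ∀ n, 1 ≤ n → n ≤ p → ∃ r ∈ C, (b * x) ^ n = b * r * x ^ n := by
    intro n
    induction n with
    | zero => intro h; omega
    | succ n ih =>
      intro _ hle
      rcases Nat.eq_zero_or_pos n with rfl | hn
      · exact ⟨1, one_mem _, by simp⟩
      · obtain ⟨r, hr, he⟩ := ih hn (by omega)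
        refine ⟨r * (x ^ n * b * (x ^ n)⁻¹), mul_mem hr (hshift n hn (by omega)), ?_⟩
        rw [pow_succ, he, pow_succ]
        group
  obtain ⟨r, hr, he⟩ := hprod p hp.out.one_lt.le le_rfl
  rw [hx, mul_one] at he
  refine ⟨r, hr, hnorm _ ?_⟩
  have hrb : b * r = r * b := Subgroup.mem_centralizer_iff.mp hr b hb
  have h1 : x * (b * r) * x⁻¹ = b * r := by
    rw [← he]
    calc x * (b * x) ^ p * x⁻¹ = (x * (b * x) * x⁻¹) ^ p := (conj_pow).symm
      _ = (b⁻¹ * (b * x) * b⁻¹⁻¹) ^ p := by group
      _ = b⁻¹ * (b * x) ^ p * b⁻¹⁻¹ := conj_pow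
      _ = b⁻¹ * (b * r) * b⁻¹⁻¹ := by rw [he]
      _ = r * b := by group
      _ = (b * x) ^ p := by rw [he, hrb]
  calc b * r * x = x * (b * r) * x⁻¹ * x := by rw [h1]
    _ = x * (b * r) := by group

/-- A `p'`-group centralising `O_p(G)` and every component is trivial. -/
theorem eq_bot_of_centralizes_components (hO : pPrimeCore p G = ⊥) {R : Subgroup G}
    (hR : (Nat.card R).Coprime p) (hQ : R ≤ Subgroup.centralizer (pCore p G : Set G))
    (hL : ∀ L : Subgroup G, IsComponent L → R ≤ Subgroup.centralizer (L : Set G)) : R = ⊥ := by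
  set F := generalizedFittingSubgroup G with hF
  haveI : F.Normal := generalizedFitting_normal
  have h1 : R ≤ Subgroup.centralizer (F : Set G) := by
    rw [hF, generalizedFittingSubgroup, fittingSubgroup_eq_pCore hO, Subgroup.le_centralizer_iff]
    exact sup_le (sSup_le fun L hL' => Subgroup.le_centralizer_iff.mp (hL L hL'))
      (Subgroup.le_centralizer_iff.mp hQ)
  haveI : (Subgroup.centralizer (F : Set G)).Normal := Subgroup.normal_centralizer
  have h2 : Subgroup.centralizer (F : Set G) ≤ pCore p G := by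
    haveI : IsMulCommutative ↥(Subgroup.centralizer (F : Set G)) := ⟨⟨fun a b => Subtype.ext
      (Subgroup.mem_centralizer_iff.mp b.2 a (centralizer_generalizedFitting_le a.2))⟩⟩
    rw [← fittingSubgroup_eq_pCore hO]
    exact Fitting.le_fittingSubgroup inferInstance (by open scoped IsMulCommutative in infer_instance)
  exact eq_bot_iff.mpr fun r hr => Subgroup.mem_bot.mpr
    (PSolvable.eq_one_of_mem_of_mem (Fitting.pCore_isPGroup p) hR (h2 (h1 hr)) hr)

/-- The part of `core0` inside `L W` maps into the core of the centraliser in the automizer. -/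
theorem map_core0_le_core {x : G} {L W : Subgroup G} (hL : IsComponent L)
    (hO : pPrimeCore p G = ⊥) (hxW : x ∈ W)
    (hWx : W ≤ Subgroup.centralizer ({x} : Set G)) (hWL : W ≤ Subgroup.normalizer (L : Set G))
    {T : Type*} [Group T] (f : ↥(L ⊔ W) →* T) (hf : Function.Surjective f)
    (hker : ∀ h : ↥(L ⊔ W), f h = 1 → (h : G) ∈ Subgroup.centralizer (L : Set G)) :
    ((core0 p (Subgroup.zpowers x)).subgroupOf (L ⊔ W)).map f ≤
      centralizerPPrimeCore p (f ⟨x, Subgroup.mem_sup_right hxW⟩) := by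
  set P := Subgroup.zpowers x with hP
  set R := (core0 p P).subgroupOf (L ⊔ W) with hR
  set c := f ⟨x, Subgroup.mem_sup_right hxW⟩ with hc
  have hRc : R.map f ≤ Subgroup.centralizer ({c} : Set T) := by
    rintro _ ⟨u, hu, rfl⟩
    rw [Subgroup.mem_centralizer_singleton_iff, hc, ← map_mul, ← map_mul]
    congr 1
    exact Subtype.ext (Subgroup.mem_centralizer_iff.mp
      (cent_le_centralizer P (core0_le P hu)) x (Subgroup.mem_zpowers x)).symm
  have hn : Subgroup.centralizer ({c} : Set T) ≤ Subgroup.normalizer (R.map f : Set T) := by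
    intro g hg
    obtain ⟨h, rfl⟩ := hf g
    suffices hh : (h : G) ∈ Subgroup.normalizer (core0 p P : Set G) by
      refine Subgroup.le_normalizer_map f ⟨h, ?_, rfl⟩
      refine Subgroup.mem_normalizer_fintype fun u hu => ?_
      exact (Subgroup.mem_normalizer_iff.mp hh (u : G)).mp hu
    obtain ⟨l, hl, w, hw, he⟩ : ∃ l ∈ L, ∃ w ∈ W, l * w = (h : G) := by
      have := h.2
      rw [← SetLike.mem_coe, Subgroup.coe_mul_of_right_le_normalizer_left L W hWL,
        Set.mem_mul] at this
      exact this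
    have hwx : w * x = x * w := Subgroup.mem_centralizer_singleton_iff.mp (hWx hw)
    rw [← he]
    refine mul_mem ?_ (le_normalizer_core0 (normalizer_le_normalizer_cent P)
      (Subgroup.centralizer_le_normalizer _
        (mem_centralizer_singleton_zpowers (hWx hw))))
    refine le_normalizer_core0 (mid_le_normalizer_cent P) ?_
    have hcL : h * ⟨x, Subgroup.mem_sup_right hxW⟩ * h⁻¹ * (⟨x, Subgroup.mem_sup_right hxW⟩ : ↥(L ⊔ W))⁻¹ ∈
        f.ker := by
      rw [MonoidHom.mem_ker, map_mul, map_mul, map_mul, map_inv, map_inv,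
        Subgroup.mem_centralizer_singleton_iff.mp hg, ← hc]
      group
    have h1 : (h : G) * x * (h : G)⁻¹ * x⁻¹ ∈ Subgroup.centralizer (L : Set G) := hker _ hcL
    rw [← he, show l * w * x * (l * w)⁻¹ * x⁻¹ = l * (w * x) * (w⁻¹ * l⁻¹) * x⁻¹ by group, hwx,
      show l * (x * w) * (w⁻¹ * l⁻¹) * x⁻¹ = l * x * l⁻¹ * x⁻¹ by group] at h1
    have h2 : l * x * l⁻¹ * x⁻¹ ∈ L := by
      rw [show l * x * l⁻¹ * x⁻¹ = l * (x * l⁻¹ * x⁻¹) by group]
      exact mul_mem hl ((Subgroup.mem_normalizer_iff.mp (hWL hxW) _).mp (inv_mem hl))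
    have hz : l * x * l⁻¹ * x⁻¹ ∈ pCore p G := by
      rw [← fittingSubgroup_eq_pCore hO]
      haveI : IsMulCommutative ↥(L ⊓ Subgroup.centralizer (L : Set G)) := ⟨⟨fun a b => Subtype.ext
        (Subgroup.mem_centralizer_iff.mp (Subgroup.mem_inf.mp b.2).2 a (Subgroup.mem_inf.mp a.2).1)⟩⟩
      refine (le_fittingSubgroup_of_isSubnormal ?_
        (by open scoped IsMulCommutative in infer_instance)) (Subgroup.mem_inf.mpr ⟨h2, h1⟩)
      have h3 : ((L ⊓ Subgroup.centralizer (L : Set G)).subgroupOf L).Normal :=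
        (Subgroup.normal_subgroupOf_iff_le_normalizer inf_le_left).mpr
          (le_normalizer_inf_of_le Subgroup.le_normalizer (le_normalizer_centralizer Subgroup.le_normalizer))
      exact (Subgroup.map_subgroupOf_eq_of_le (inf_le_left : L ⊓ _ ≤ L)) ▸
        h3.isSubnormal.trans' hL.1
    refine Subgroup.mem_inf.mpr ⟨isComponent_le_layer hL hl, ?_⟩
    rw [Subgroup.mem_comap, Subgroup.mem_centralizer_iff]
    rintro _ ⟨z, hz', rfl⟩
    obtain ⟨k, rfl⟩ := Subgroup.mem_zpowers_iff.mp hz'
    rw [map_zpow]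
    refine (Commute.zpow_left ?_ k).eq
    have h4 : (QuotientGroup.mk' (pCore p G)) (l * x * l⁻¹ * x⁻¹) = 1 :=
      (QuotientGroup.eq_one_iff _).mpr hz
    simp only [map_mul, map_inv] at h4
    generalize QuotientGroup.mk' (pCore p G) l = a at *
    generalize QuotientGroup.mk' (pCore p G) x = b at *
    show b * a = a * b
    calc b * a = (a * b * a⁻¹ * b⁻¹) * (b * a) := by rw [h4, one_mul]
      _ = a * b := by group
  have hcop : (Nat.card ↥(R.map f)).Coprime p := by
    refine Nat.Coprime.coprime_dvd_left (Subgroup.card_map_dvd R f) ?_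
    rw [hR, ← Subgroup.card_map_of_injective (L ⊔ W).subtype_injective, Subgroup.subgroupOf_map_subtype]
    exact (coprime_core0 P).coprime_dvd_left (Subgroup.card_dvd_of_le inf_le_left)
  haveI : ((R.map f).subgroupOf (Subgroup.centralizer ({c} : Set T))).Normal :=
    Subgroup.normal_subgroupOf_of_le_normalizer hn
  have h1 : (R.map f).subgroupOf (Subgroup.centralizer ({c} : Set T)) ≤
      pPrimeCore p ↥(Subgroup.centralizer ({c} : Set T)) := le_sSup
    ⟨inferInstance, by rwa [Nat.card_congr (Subgroup.subgroupOfEquivOfLe hRc).toEquiv]⟩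
  have h2 := Subgroup.map_mono (f := (Subgroup.centralizer ({c} : Set T)).subtype) h1
  rwa [Subgroup.map_subgroupOf_eq_of_le hRc] at h2

end CfsgLib.Layer.PLocal
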