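import Cfsg.Agent.Lib.Layer.Basic
import Cfsg.Agent.Lib.Coprime.Generation
import Cfsg.Agent.Lib.Transfer.Basic

/-!
A standard subgroup whose centralizer has 2-rank one commutes with the odd core.
-/

set_option autoImplicit false
set_option linter.style.haveILetI false
set_option linter.unusedSectionVars false

open Pointwise
open scoped commutatorElement

namespace CfsgLib.StandardRankOne

open Cfsg

variable {X : Type*} [Group X] [Finite X]

theorem eq_of_rank_one {C : Subgroup X} (hr : PRankLE 2 1 C) {e f : X} (he : e ∈ C) (hf : f ∈ C)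
    (he2 : e * e = 1) (hf2 : f * f = 1) (he1 : e ≠ 1) (hf1 : f ≠ 1) (hef : e * f = f * e) : e = f := by
  by_contra hne
  let a : C := ⟨e, he⟩
  let b : C := ⟨f, hf⟩
  have ha : a * a = 1 := Subtype.ext he2
  have hb : b * b = 1 := Subtype.ext hf2
  have hab : a * b = b * a := Subtype.ext hef
  let A := Subgroup.closure ({a, b} : Set C)
  have hcomm : IsMulCommutative A := Subgroup.isMulCommutative_closure (by
    rintro x (rfl | rfl) y (rfl | rfl) <;> first | rfl | exact hab | exact hab.symm)
  haveI := hcomm
  have hexp : ∀ x ∈ A, x ^ 2 = 1 := by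
    intro x hx
    induction hx using Subgroup.closure_induction with
    | mem y hy => rcases hy with rfl | rfl <;> rw [pow_two] <;> assumption
    | one => rw [one_pow]
    | mul y z hy hz h1 h2 =>
      have hc : Commute y z := congrArg Subtype.val (mul_comm' (⟨y, hy⟩ : A) ⟨z, hz⟩)
      rw [hc.mul_pow, h1, h2, one_mul]
    | inv y _ h => rw [inv_pow, h, inv_one]
  have h2 := hr A hcomm hexp
  rw [pow_one] at h2
  have hA : a ∈ A := Subgroup.subset_closure (Set.mem_insert _ _)
  have hB : b ∈ A := Subgroup.subset_closure (Set.mem_insert_of_mem _ rfl)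
  classical
  haveI : Fintype A := Fintype.ofFinite _
  have h3 : ({1, ⟨a, hA⟩, ⟨b, hB⟩} : Finset A).card = 3 := by
    refine Finset.card_eq_three.mpr ⟨_, _, _, ?_, ?_, ?_, rfl⟩
    · exact fun h => he1 (congrArg (fun z : A => ((z : C) : X)) h).symm
    · exact fun h => hf1 (congrArg (fun z : A => ((z : C) : X)) h).symm
    · exact fun h => hne (congrArg (fun z : A => ((z : C) : X)) h)
  have h4 := Finset.card_le_univ ({1, ⟨a, hA⟩, ⟨b, hB⟩} : Finset A)
  rw [h3, ← Nat.card_eq_fintype_card] at h4
  omega

variable (P : Subgroup X)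

theorem centralizer_involution_le (hP : IsStandardSubgroup P) {t : X}
    (htC : t ∈ Subgroup.centralizer (P : Set X)) (ht : orderOf t = 2) {x : X} (hx : x * t = t * x) :
    x ∈ Subgroup.normalizer (P : Set X) := by
  rw [hP.2.2.2]
  by_contra hn
  have hodd := hP.2.1.2 x hn
  have hmem : t ∈ Subgroup.centralizer (P : Set X) ⊓
      (Subgroup.centralizer (P : Set X)).map (MulAut.conj x).toMonoidHom :=
    ⟨htC, ⟨t, htC, by simp [hx]⟩⟩
  have h2 := Subgroup.orderOf_dvd_natCard _ hmem
  rw [ht] at h2
  exact (Nat.not_even_iff_odd.mpr hodd) (even_iff_two_dvd.mpr h2)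

/-- An odd subgroup of the centralizer of `t` normalised by `P` is centralised by it. -/
theorem commutator_odd_eq_bot (hq : IsQuasisimple P) {u : X} (huP : u ∈ P) (hu : orderOf u = 2)
    (D : Subgroup X) (hD : Odd (Nat.card D)) (hPD : P ≤ Subgroup.normalizer (D : Set X))
    (hDP : D ≤ Subgroup.normalizer (P : Set X)) : ⁅P, D⁆ = ⊥ := by
  have hle1 : ⁅P, D⁆ ≤ P := Coprime.commutator_le_left_of_le_normalizer hDP
  have hle2 : ⁅P, D⁆ ≤ D := by
    rw [Subgroup.commutator_comm]; exact Coprime.commutator_le_left_of_le_normalizer hPD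
  set N := ⁅P, D⁆
  haveI : (N.subgroupOf P).Normal := Subgroup.normal_subgroupOf_of_le_normalizer
    (Coprime.le_normalizer_commutator Subgroup.le_normalizer hPD)
  rcases Layer.eq_top_or_le_center_of_normal hq (N.subgroupOf P) with h | h
  · exfalso
    have h1 : u ∈ D := hle2 (Subgroup.subgroupOf_eq_top.mp h huP)
    have h2 := Subgroup.orderOf_dvd_natCard D h1
    rw [hu] at h2
    exact (Nat.not_even_iff_odd.mpr hD) (even_iff_two_dvd.mpr h2)
  · refine Layer.commutator_eq_bot_of_perfect (Subgroup.isPerfect_iff.mp hq.1) ?_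
    rw [Subgroup.commutator_eq_bot_iff_le_centralizer]
    intro n hn
    rw [Subgroup.mem_centralizer_iff]
    intro y hy
    exact congrArg Subtype.val (Subgroup.mem_center_iff.mp (h (x := ⟨n, hle1 hn⟩) hn) ⟨y, hy⟩)

theorem commutator_oddCore_eq_bot (hP : IsStandardSubgroup P)
    (hr : PRankLE 2 1 (Subgroup.centralizer (P : Set X)))
    (hZ : Odd (Nat.card (Subgroup.center P)))
    (S : Subgroup X) (hS : IsPGroup 2 S) (hSN : S ≤ Subgroup.normalizer (P : Set X))
    (hSmax : ∀ T : Subgroup X, IsPGroup 2 T → S ≤ T → T ≤ Subgroup.normalizer (P : Set X) → T ≤ S)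
    (t : X) (ht : orderOf t = 2) (htS : t ∈ S) (htP : t ∈ Subgroup.centralizer (P : Set X))
    (g : X) (hgN : ∀ s ∈ S, g * s * g⁻¹ ∈ S) (hgS : g ∉ S) (hg2 : g ^ 2 ∈ S)
    (hgt : g * t * g⁻¹ ∈ P ⊔ Subgroup.centralizer (P : Set X)) :
    ⁅P, oddCore X⁆ = ⊥ := by
  classical
  haveI := Fact.mk Nat.prime_two
  set C := Subgroup.centralizer (P : Set X) with hC
  obtain ⟨htt, ht1⟩ : t * t = 1 ∧ t ≠ 1 :=
    ⟨by rw [← pow_two, ← ht]; exact pow_orderOf_eq_one t, fun h => by simp [h] at ht⟩
  -- `g` does not normalise `P`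
  have hgP : g ∉ Subgroup.normalizer (P : Set X) := by
    intro hg
    refine hgS (hSmax (Subgroup.zpowers g ⊔ S) ?_ le_sup_right
      (sup_le (Subgroup.zpowers_le.mpr hg) hSN) (Subgroup.mem_sup_left (Subgroup.mem_zpowers g)))
    refine IsPGroup.to_sup_of_normal_right' ?_ hS
      (Subgroup.zpowers_le.mpr (Subgroup.mem_normalizer_fintype hgN))
    obtain ⟨k, hk⟩ := hS ⟨g ^ 2, hg2⟩
    have hk' : g ^ (2 ^ (k + 1)) = 1 := by
      rw [pow_succ', pow_mul]
      simpa using congrArg Subtype.val hk
    exact IsPGroup.of_card (n := (Nat.log 2 (orderOf g))) (by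
      obtain ⟨i, -, hi⟩ := (Nat.dvd_prime_pow Nat.prime_two).mp (orderOf_dvd_of_pow_eq_one hk')
      rw [Nat.card_zpowers, hi, Nat.log_pow (by norm_num)])
  -- `t` is central in `S`
  have htc : ∀ s ∈ S, s * t = t * s := by
    set R := S ⊓ C
    have hRS : IsPGroup 2 R := hS.to_le inf_le_left
    haveI : Nontrivial R := ⟨⟨⟨t, htS, htP⟩, 1, fun h => ht1 (congrArg Subtype.val h)⟩⟩
    obtain ⟨n, hn, hnc⟩ := (IsPGroup.iff_card.mp hRS).imp fun n hn => (⟨hn, True.intro⟩ : _ ∧ True)
    haveI := hRS.center_nontrivial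
    obtain ⟨z, hz2⟩ : ∃ z : Subgroup.center R, orderOf z = 2 := by
      refine exists_prime_orderOf_dvd_card' 2 ?_
      obtain ⟨m, hm⟩ := IsPGroup.iff_card.mp (hRS.to_subgroup (Subgroup.center R))
      rcases Nat.eq_zero_or_pos m with rfl | hm0
      · exact absurd (Finite.one_lt_card (α := Subgroup.center R)) (by omega)
      · rw [hm]; exact dvd_pow_self 2 hm0.ne'
    set w : X := ((z : R) : X)
    have hw2 : w * w = 1 := by
      have := congrArg (fun y : Subgroup.center R => ((y : R) : X)) (pow_orderOf_eq_one z)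
      simpa [hz2, pow_two] using this
    have hw1 : w ≠ 1 := fun h => by
      have : z = 1 := Subtype.ext (Subtype.ext h)
      simp [this] at hz2
    have hwc : ∀ r ∈ R, r * w = w * r := fun r hr' =>
      congrArg Subtype.val (Subgroup.mem_center_iff.mp z.2 ⟨r, hr'⟩)
    have hmem : ∀ r ∈ R, r * r = 1 → r ≠ 1 → r = w := fun r hr' h2 h1 =>
      eq_of_rank_one hr hr'.2 (z : R).2.2 h2 hw2 h1 hw1 (hwc r hr')
    intro s hs
    have hs' : s * t * s⁻¹ ∈ R := ⟨S.mul_mem (S.mul_mem hs htS) (inv_mem hs), by
      intro p hp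
      have h1 : s⁻¹ * p * s ∈ P := by
        have := (Subgroup.mem_normalizer_iff.mp (inv_mem (hSN hs)) p).mp hp
        simpa using this
      have h2 := congrArg (fun y => s * y * s⁻¹) (htP _ h1)
      simpa [mul_assoc] using h2⟩
    have e1 : s * t * s⁻¹ = w := hmem _ hs'
      (by rw [show s * t * s⁻¹ * (s * t * s⁻¹) = s * (t * t) * s⁻¹ by group, htt]; group)
      (fun h => ht1 (conj_eq_one_iff.mp h))
    have e2 : t = w := hmem t ⟨htS, htP⟩ htt ht1
    exact mul_inv_eq_iff_eq_mul.mp (e1.trans e2.symm)
  -- split the conjugate of `t`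
  set t' := g * t * g⁻¹ with ht'
  have ht'2 : t' * t' = 1 := by
    rw [ht', show g * t * g⁻¹ * (g * t * g⁻¹) = g * (t * t) * g⁻¹ by group, htt]; group
  have ht'S : t' ∈ S := hgN t htS
  obtain ⟨u₀, hu₀, c₀, hc₀, huc⟩ : ∃ a ∈ P, ∃ b ∈ C, a * b = t' := by
    rw [← SetLike.mem_coe, Subgroup.coe_mul_of_left_le_normalizer_right] at hgt
    · exact hgt
    · intro p hp
      refine Subgroup.mem_normalizer_fintype fun c hc q hq => ?_
      have h1 : p⁻¹ * q * p ∈ P := P.mul_mem (P.mul_mem (inv_mem hp) hq) hp
      have h2 := congrArg (fun y => p * y * p⁻¹) ((show c ∈ C from hc) _ h1)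
      simpa [mul_assoc] using h2
  have hcu : Commute u₀ c₀ := hc₀ u₀ hu₀
  set e := u₀ * u₀ with he
  have hec : e = (c₀ * c₀)⁻¹ := eq_inv_of_mul_eq_one_left (by
    rw [he, ← ht'2, ← huc, hcu.mul_mul_mul_comm])
  have heZ : (⟨e, P.mul_mem hu₀ hu₀⟩ : P) ∈ Subgroup.center P :=
    Subgroup.mem_center_iff.mpr fun q => Subtype.ext (by
      have h0 : e ∈ C := by rw [hec]; exact inv_mem (mul_mem hc₀ hc₀)
      exact h0 q q.2)
  obtain ⟨k, hk⟩ := hZ
  have hek : e ^ (2 * k + 1) = 1 := by
    have := congrArg (fun y : Subgroup.center P => ((y : P) : X))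
      (pow_card_eq_one' (x := (⟨_, heZ⟩ : Subgroup.center P)))
    rw [hk] at this
    simpa using this
  set u := u₀ * e ^ k
  set c := c₀ * (e ^ k)⁻¹
  have huP : u ∈ P := P.mul_mem hu₀ (Subgroup.pow_mem _ (P.mul_mem hu₀ hu₀) k)
  have heC : e ∈ C := by rw [hec]; exact inv_mem (mul_mem hc₀ hc₀)
  have hcC : c ∈ C := mul_mem hc₀ (inv_mem (Subgroup.pow_mem _ heC k))
  have hce : Commute u₀ e := (Commute.refl u₀).mul_right (Commute.refl u₀)
  have hu2 : u * u = 1 := by
    have h1 : u * u = e * (e ^ k * e ^ k) := (hce.pow_right k).symm.mul_mul_mul_comm u₀ (e ^ k)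
    rw [h1, ← pow_add, ← pow_succ', ← two_mul, hek]
  have hucc : u * c = t' := by
    rw [← huc]
    show u₀ * e ^ k * (c₀ * (e ^ k)⁻¹) = u₀ * c₀
    have h1 : Commute (e ^ k) c₀ := (hcu.mul_left hcu).pow_left k
    rw [← mul_assoc, mul_assoc u₀, h1.eq, ← mul_assoc, mul_inv_cancel_right]
  have huc' : Commute u c := hcC u huP
  have hc2 : c * c = 1 := by
    have h1 : (u * c) * (u * c) = (u * u) * (c * c) := huc'.symm.mul_mul_mul_comm u c
    rw [hucc, ht'2, hu2, one_mul] at h1
    exact h1.symm
  have htu : Commute t u := (htP u huP).symm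
  have htt' : Commute t t' := (htc t' ht'S).symm
  have htc' : Commute t c := by
    have h1 : c = u⁻¹ * t' := by rw [← hucc, inv_mul_cancel_left]
    rw [h1]
    exact htu.inv_right.mul_right htt'
  have hc_cases : c = 1 ∨ c = t := or_iff_not_imp_left.mpr fun h =>
    eq_of_rank_one hr hcC htP hc2 htt h ht1 htc'.symm.eq
  have ht'ne : t' ≠ t := fun h => hgP (centralizer_involution_le P hP htP ht
    (mul_inv_eq_iff_eq_mul.mp h))
  have ht'1 : t' ≠ 1 := fun h => ht1 (conj_eq_one_iff.mp h)
  have hu1 : u ≠ 1 := by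
    intro h
    rcases hc_cases with h' | h' <;> rw [h, h', one_mul] at hucc
    · exact ht'1 hucc.symm
    · exact ht'ne hucc.symm
  have huo : orderOf u = 2 := orderOf_eq_prime (by rw [pow_two, hu2]) hu1
  -- the odd core
  set O := oddCore X with hO
  haveI : O.Normal := Transfer.pPrimeCore_normal 2 X
  have hOodd : Odd (Nat.card O) :=
    Nat.coprime_two_right.mp (Transfer.pPrimeCore_coprime (G := X) 2)
  let Cs : X → Subgroup X := fun a => O ⊓ Subgroup.centralizer ({a} : Set X)
  have hCt : Cs t ≤ C := by
    have h := commutator_odd_eq_bot P hP.1 huP huo (Cs t)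
      (Odd.of_dvd_nat hOodd (Subgroup.card_dvd_of_le inf_le_left))
      (fun p hp => Coprime.le_normalizer_inf_of_le Subgroup.le_normalizer_of_normal
        Subgroup.le_normalizer (show p ∈ Subgroup.centralizer ({t} : Set X) from
          Subgroup.mem_centralizer_singleton_iff.mpr (htP p hp)))
      (fun x hx => centralizer_involution_le P hP htP ht
        (Subgroup.mem_centralizer_singleton_iff.mp hx.2))
    rw [Subgroup.commutator_comm] at h
    exact Subgroup.commutator_eq_bot_iff_le_centralizer.mp h
  have hsub : Cs t ≤ Cs t' := fun x hx => ⟨hx.1, Subgroup.mem_centralizer_singleton_iff.mpr (by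
    have h1 : Commute x u := (hCt hx u huP).symm
    have h2 : Commute x c := by
      rcases hc_cases with h | h
      · rw [h]; exact Commute.one_right x
      · rw [h]; exact Subgroup.mem_centralizer_singleton_iff.mp hx.2
    rw [← hucc]
    exact h1.mul_right h2)⟩
  have heq : Cs t = Cs t' := by
    refine Subgroup.eq_of_le_of_card_ge hsub (le_of_eq ?_)
    have : Cs t' = (Cs t).map (MulAut.conj g).toMonoidHom := by
      ext x
      constructor
      · rintro ⟨hx1, hx2⟩
        refine ⟨g⁻¹ * x * g, ⟨by simpa using (inferInstance : O.Normal).conj_mem x hx1 g⁻¹, ?_⟩,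
          by simp [mul_assoc]⟩
        have hx2 : x * t' = t' * x := Subgroup.mem_centralizer_singleton_iff.mp hx2
        refine Subgroup.mem_centralizer_singleton_iff.mpr ?_
        have := congrArg (fun y => g⁻¹ * y * g) hx2
        simpa [ht', mul_assoc] using this
      · rintro ⟨y, ⟨hy1, hy2⟩, rfl⟩
        refine ⟨(inferInstance : O.Normal).conj_mem y hy1 g, ?_⟩
        have hy2 : y * t = t * y := Subgroup.mem_centralizer_singleton_iff.mp hy2
        refine Subgroup.mem_centralizer_singleton_iff.mpr ?_
        have := congrArg (fun z => g * z * g⁻¹) hy2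
        simpa [ht', mul_assoc] using this
    rw [this, Subgroup.card_map_of_injective (MulAut.conj g).injective]
  -- the four group
  set w := t * t' with hw
  have hwO : O ≤ Subgroup.centralizer ({w} : Set X) := by
    let A : Subgroup X := Subgroup.closure ({t, t'} : Set X)
    haveI : IsMulCommutative A := Subgroup.isMulCommutative_closure (by
      rintro x (rfl | rfl) y (rfl | rfl) <;> first | rfl | exact htt'.eq | exact htt'.eq.symm)
    have hA : ∀ a ∈ A, a = 1 ∨ a = t ∨ a = t' ∨ a = w := by
      intro a ha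
      induction ha using Subgroup.closure_induction with
      | mem y hy => rcases hy with rfl | rfl <;> simp
      | one => simp
      | mul y z _ _ hy hz =>
        have e1 : t' * t = w := htt'.eq.symm
        have e2 : t * w = t' := by rw [hw, ← mul_assoc, htt, one_mul]
        have e3 : w * t = t' := by rw [← e1, mul_assoc, htt, mul_one]
        have e4 : t' * w = t := by rw [← e1, ← mul_assoc, ht'2, one_mul]
        have e5 : w * t' = t := by rw [hw, mul_assoc, ht'2, mul_one]
        have e6 : w * w = 1 := by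
          calc w * w = w * t * t' := by simp only [hw, mul_assoc]
            _ = 1 := by rw [e3, ht'2]
        rcases hy with rfl | rfl | rfl | rfl <;> rcases hz with rfl | rfl | rfl | rfl <;>
          simp [htt, ht'2, e1, e2, e3, e4, e5, e6, hw.symm]
      | inv y _ hy =>
        rcases hy with rfl | rfl | rfl | rfl
        · simp
        · rw [inv_eq_of_mul_eq_one_left htt]; simp
        · rw [inv_eq_of_mul_eq_one_left ht'2]; simp
        · rw [hw, mul_inv_rev, inv_eq_of_mul_eq_one_left ht'2, inv_eq_of_mul_eq_one_left htt,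
            ← htt'.eq]; simp
    have hexp : ∀ a ∈ A, a ^ 2 = 1 := by
      intro a ha
      rcases hA a ha with rfl | rfl | rfl | rfl
      · simp
      · rw [pow_two, htt]
      · rw [pow_two, ht'2]
      · rw [hw, htt'.mul_pow, pow_two, pow_two, htt, ht'2, one_mul]
    have hncyc : ¬ IsCyclic A := by
      refine Coprime.not_isCyclic_of_exponent hexp (by norm_num) ?_
      haveI : Fintype A := Fintype.ofFinite _
      have h3 : ({1, ⟨t, Subgroup.subset_closure (Set.mem_insert _ _)⟩,
          ⟨t', Subgroup.subset_closure (Set.mem_insert_of_mem _ rfl)⟩} : Finset A).card = 3 := by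
        refine Finset.card_eq_three.mpr ⟨_, _, _, ?_, ?_, ?_, rfl⟩
        · exact fun h => ht1 (congrArg Subtype.val h).symm
        · exact fun h => ht'1 (congrArg Subtype.val h).symm
        · exact fun h => ht'ne (congrArg Subtype.val h).symm
      have h4 := Finset.card_le_univ ({1, ⟨t, Subgroup.subset_closure (Set.mem_insert _ _)⟩,
          ⟨t', Subgroup.subset_closure (Set.mem_insert_of_mem _ rfl)⟩} : Finset A)
      rw [h3, ← Nat.card_eq_fintype_card] at h4
      omega
    refine Coprime.le_of_centralizer_le hncyc Subgroup.le_normalizer_of_normal ?_ ?_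
    · obtain ⟨n, hn⟩ := IsPGroup.iff_card.mp (show IsPGroup 2 A from fun a => ⟨1, Subtype.ext (by
        simpa using hexp a a.2)⟩)
      rw [hn]
      exact ((Transfer.pPrimeCore_coprime (G := X) 2).symm).pow_left n
    · intro a ha ha1 x hx
      have key : x ∈ Cs t → x ∈ Subgroup.centralizer ({w} : Set X) := fun h => by
        have h1 : Commute x t := Subgroup.mem_centralizer_singleton_iff.mp h.2
        have h2 : Commute x t' := Subgroup.mem_centralizer_singleton_iff.mp (hsub h).2
        exact Subgroup.mem_centralizer_singleton_iff.mpr (h1.mul_right h2)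
      rcases hA a ha with rfl | rfl | rfl | rfl
      · exact absurd rfl ha1
      · exact key hx
      · exact key (heq ▸ hx)
      · exact hx.2
  -- the centraliser of `O` in `P`
  set N := (Subgroup.centralizer (O : Set X)).subgroupOf P with hN
  haveI : (Subgroup.centralizer (O : Set X)).Normal := Subgroup.normal_centralizer
  haveI : N.Normal := Subgroup.Normal.subgroupOf inferInstance P
  have hwC : w ∈ Subgroup.centralizer (O : Set X) := fun o ho =>
    Subgroup.mem_centralizer_singleton_iff.mp (hwO ho)
  rcases Layer.eq_top_or_le_center_of_normal hP.1 N with h | h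
  · exact Subgroup.commutator_eq_bot_iff_le_centralizer.mpr (Subgroup.subgroupOf_eq_top.mp h)
  exfalso
  -- `u` would be central in `P`
  have hstep : ∀ q : P, ⁅q, (⟨u, huP⟩ : P)⁆ ∈ N := by
    intro q
    rw [hN, Subgroup.mem_subgroupOf]
    show ⁅(q : X), u⁆ ∈ Subgroup.centralizer (O : Set X)
    rcases hc_cases with h' | h'
    · rw [h', mul_one] at hucc
      have h1 := (inferInstance : (Subgroup.centralizer (O : Set X)).Normal).conj_mem w hwC (q : X)
      have h2 : (q : X) * w * (q : X)⁻¹ * w⁻¹ = ⁅(q : X), u⁆ := by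
        rw [commutatorElement_def, hw, ← hucc, mul_inv_rev]
        have h3 : (q : X) * (t * u) = t * ((q : X) * u) := by
          rw [← mul_assoc, htP q q.2, mul_assoc]
        have h5 : Commute t ((q : X) * u * (q : X)⁻¹ * u⁻¹) :=
          (htP _ (P.mul_mem (P.mul_mem (P.mul_mem q.2 huP) (inv_mem q.2)) (inv_mem huP))).symm
        rw [h3]
        calc t * ((q : X) * u) * (q : X)⁻¹ * (u⁻¹ * t⁻¹)
            = t * ((q : X) * u * (q : X)⁻¹ * u⁻¹) * t⁻¹ := by group
          _ = _ := by rw [h5.eq, mul_inv_cancel_right]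
      exact h2 ▸ mul_mem h1 (inv_mem hwC)
    · have hwu : w = u := by
        rw [hw, ← hucc, h', ← mul_assoc, htu.eq, mul_assoc, htt, mul_one]
      rw [hwu] at hwC
      rw [commutatorElement_def]
      exact mul_mem ((inferInstance : (Subgroup.centralizer (O : Set X)).Normal).conj_mem u hwC _)
        (inv_mem hwC)
  haveI := hP.1.1
  haveI := hP.1.2
  set π := QuotientGroup.mk' (Subgroup.center P)
  have hcent : π ⟨u, huP⟩ ∈ Subgroup.center (P ⧸ Subgroup.center P) := by
    rw [Subgroup.mem_center_iff]
    intro y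
    obtain ⟨q, rfl⟩ := QuotientGroup.mk'_surjective _ y
    rw [← commutatorElement_eq_one_iff_mul_comm, ← map_commutatorElement]
    exact (QuotientGroup.eq_one_iff _).mpr (h (hstep q))
  have hzbot : Subgroup.center (P ⧸ Subgroup.center P) = ⊥ := by
    rcases (inferInstance : (Subgroup.center (P ⧸ Subgroup.center P)).Normal).eq_bot_or_eq_top with
      h' | h'
    · exact h'
    · exfalso
      haveI : Group.IsPerfect (P ⧸ Subgroup.center P) :=
        Group.IsPerfect.ofSurjective (QuotientGroup.mk'_surjective _)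
      exact Group.IsPerfect.not_isSolvable (P ⧸ Subgroup.center P) (Group.isSolvable_of_comm
        fun a b => Subgroup.mem_center_iff.mp (h' ▸ Subgroup.mem_top b) a)
  rw [hzbot, Subgroup.mem_bot] at hcent
  have huZ : (⟨u, huP⟩ : P) ∈ Subgroup.center P := (QuotientGroup.eq_one_iff _).mp hcent
  have h2 := Subgroup.orderOf_dvd_natCard _ huZ
  rw [← Subgroup.orderOf_coe, huo, hk] at h2
  omega

/-- The part on components. -/
theorem quasisimple_of_commutator (hP : IsStandardSubgroup P) (hO : ⁅P, oddCore X⁆ = ⊥)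
    (L : Subgroup X) (hL : IsPComponent 2 L) (hPL : P ≤ L) : IsQuasisimple L := by
  classical
  obtain ⟨hsn, hcomp, hmin⟩ := hL
  set O := oddCore X with hOdef
  haveI : O.Normal := Transfer.pPrimeCore_normal 2 X
  set π := QuotientGroup.mk' (pPrimeCore 2 X)
  have hOsol : ∀ K : Subgroup X, K.map π = ⊥ → K ≤ O := fun K hK => by
    rwa [Subgroup.map_eq_bot_iff, QuotientGroup.ker_mk'] at hK
  let π' : L →* L.map π := π.subgroupMap L
  have hsurj : Function.Surjective π' := π.subgroupMap_surjective L
  have hker : ∀ x : L, π' x = 1 → (x : X) ∈ O := fun x hx =>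
    (QuotientGroup.eq_one_iff _).mp (congrArg Subtype.val hx)
  -- a normal subgroup of `L` covering it modulo the core is `L`
  have hcover : ∀ N : Subgroup L, N.Normal → N.map π' = ⊤ → N = ⊤ := by
    intro N hN h
    have h1 := hmin (N.map L.subtype) (hN.isSubnormal.trans' hsn) (Subgroup.map_subtype_le _) (by
      refine le_antisymm (Subgroup.map_mono (Subgroup.map_subtype_le _)) ?_
      intro y hy
      have h2 : (⟨y, hy⟩ : L.map π) ∈ N.map π' := by rw [h]; trivial
      obtain ⟨n, hn, hn'⟩ := h2
      exact ⟨n, ⟨n, hn, rfl⟩, congrArg Subtype.val hn'⟩)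
    exact Subgroup.map_injective L.subtype_injective
      (h1.trans (by rw [← MonoidHom.range_eq_map, Subgroup.range_subtype]))
  haveI := hcomp.2.1
  haveI : Nontrivial (L.map π) := Layer.nontrivial_of_isQuasisimple hcomp.2
  haveI hperf : Group.IsPerfect L := Group.isPerfect_def.mpr (hcover _ inferInstance (by
    rw [commutator_def, Subgroup.map_commutator, Subgroup.map_top_of_surjective π' hsurj,
      ← commutator_def]
    exact Group.IsPerfect.commutator_eq_top))
  haveI : Nontrivial L := hsurj.nontrivial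
  -- `L` centralises its intersection with the core
  set OL := O.subgroupOf L
  haveI : OL.Normal := Subgroup.Normal.subgroupOf inferInstance L
  have hOL : OL ≤ Subgroup.center L := by
    set N := Subgroup.centralizer (OL : Set L)
    haveI : N.Normal := Subgroup.normal_centralizer
    have hPN : P.subgroupOf L ≤ N := fun p hp o ho => Subtype.ext
      ((Subgroup.commutator_eq_bot_iff_le_centralizer.mp hO) hp o ho)
    haveI : (N.map π').Normal := (inferInstance : N.Normal).map π' hsurj
    rcases Layer.eq_top_or_le_center_of_normal hcomp.2 (N.map π') with h | h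
    · have h1 := hcover N inferInstance h
      intro o ho
      rw [Subgroup.mem_center_iff]
      intro q
      have hq : q ∈ N := h1 ▸ Subgroup.mem_top q
      exact (hq o ho).symm
    · exfalso
      refine Layer.not_isSolvable_of_isQuasisimple hP.1 ?_
      let f : P →* L.map π := π'.comp (Subgroup.inclusion hPL)
      have hrange : ∀ p : P, f p ∈ Subgroup.center (L.map π) := fun p =>
        h ⟨_, hPN (show Subgroup.inclusion hPL p ∈ P.subgroupOf L from p.2), rfl⟩
      haveI := hP.1.1
      have hf : f = 1 := by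
        have h3 : commutator P ≤ f.ker := by
          rw [commutator_def, Subgroup.commutator_le]
          intro a _ b _
          rw [MonoidHom.mem_ker, map_commutatorElement, commutatorElement_eq_one_iff_mul_comm]
          exact Subgroup.mem_center_iff.mp (hrange b) _
        rw [Group.IsPerfect.commutator_eq_top] at h3
        ext p
        exact congrArg Subtype.val (h3 (Subgroup.mem_top p))
      refine Group.isSolvable_of_comm fun a b => Subtype.ext ?_
      have ha : (a : X) ∈ O := hker _ (show f a = 1 by rw [hf]; rfl)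
      exact ((Subgroup.commutator_eq_bot_iff_le_centralizer.mp hO) b.2 a ha)
  refine Layer.isQuasisimple_of_normal_le_center fun N hN => ?_
  haveI := hN
  haveI : (N.map π').Normal := hN.map π' hsurj
  rcases Layer.eq_top_or_le_center_of_normal hcomp.2 (N.map π') with h | h
  · exact Or.inl (hcover N hN h)
  · refine Or.inr fun n hn => ?_
    rw [Subgroup.mem_center_iff]
    -- the map `q ↦ [q, n]` is a homomorphism into the centre
    have hz : ∀ q : L, ⁅q, n⁆ ∈ Subgroup.center L := fun q => hOL (Subgroup.mem_subgroupOf.mpr (by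
      refine hker _ ?_
      rw [map_commutatorElement, commutatorElement_eq_one_iff_mul_comm]
      exact Subgroup.mem_center_iff.mp (h (Subgroup.mem_map_of_mem π' hn)) _))
    let ψ : L →* Subgroup.center L :=
      { toFun := fun q => ⟨⁅q, n⁆, hz q⟩
        map_one' := Subtype.ext (by simp [commutatorElement_def])
        map_mul' := fun a b => Subtype.ext (by
          show ⁅a * b, n⁆ = ⁅a, n⁆ * ⁅b, n⁆
          have hc := Subgroup.mem_center_iff.mp (hz b) a
          calc ⁅a * b, n⁆ = a * ⁅b, n⁆ * a⁻¹ * ⁅a, n⁆ := by simp only [commutatorElement_def]; group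
            _ = ⁅b, n⁆ * ⁅a, n⁆ := by rw [hc, mul_inv_cancel_right]
            _ = _ := (Subgroup.mem_center_iff.mp (hz b) _).symm) }
    intro q
    have h3 : commutator L ≤ ψ.ker := by
      rw [commutator_def, Subgroup.commutator_le]
      intro a _ b _
      rw [MonoidHom.mem_ker, map_commutatorElement, commutatorElement_eq_one_iff_mul_comm]
      exact Subtype.ext (Subgroup.mem_center_iff.mp (ψ b).2 (ψ a))
    rw [Group.IsPerfect.commutator_eq_top] at h3
    exact commutatorElement_eq_one_iff_mul_comm.mp (congrArg Subtype.val (h3 (Subgroup.mem_top q)))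

end CfsgLib.StandardRankOne
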