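import Mathlib
import Cfsg.Agent.Lib.Layer.PLocal

/-!
The `p`-layer of a `p`-local centralises `O_p(G)` and fixes every component.
-/

set_option autoImplicit false
set_option linter.style.haveILetI false
set_option linter.unusedSectionVars false

open scoped commutatorElement
open Pointwise

namespace CfsgLib.Layer.PLocal

open Cfsg
open CfsgLib.Coprime

variable {G : Type*} [Group G] [Finite G] {p : ℕ} [hp : Fact p.Prime] {P : Subgroup G}

/-- The preimage in `G` of the layer of `N(P)/O_{p'}(N(P))`. -/
def layerPre (p : ℕ) (P : Subgroup G) : Subgroup G :=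
  ((pLayer p ↥(Subgroup.normalizer (P : Set G))) ⊔
    pPrimeCore p ↥(Subgroup.normalizer (P : Set G))).map (Subgroup.normalizer (P : Set G)).subtype

theorem comap_layer_eq (P : Subgroup G) :
    ((layer (↥(Subgroup.normalizer (P : Set G)) ⧸ pPrimeCore p ↥(Subgroup.normalizer (P : Set G)))).comap
      (QuotientGroup.mk' (pPrimeCore p ↥(Subgroup.normalizer (P : Set G))))).map
      (Subgroup.normalizer (P : Set G)).subtype = layerPre p P := by
  haveI := Transfer.pPrimeCore_normal p ↥(Subgroup.normalizer (P : Set G))
  rw [layerPre, ← map_pLayer, Subgroup.comap_map_eq, QuotientGroup.ker_mk']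

theorem core_normalizer_eq (hP : IsPGroup p P) :
    (pPrimeCore p ↥(Subgroup.normalizer (P : Set G))).map (Subgroup.normalizer (P : Set G)).subtype
      = core0 p P := by
  set N := Subgroup.normalizer (P : Set G) with hN
  set R := (pPrimeCore p N).map N.subtype with hR
  have hRn : N ≤ Subgroup.normalizer (R : Set G) :=
    PSolvable.le_normalizer_map_of_characteristic Subgroup.le_normalizer _
  have hRc : (Nat.card R).Coprime p := by
    rw [hR, Subgroup.card_map_of_injective N.subtype_injective]
    exact Transfer.pPrimeCore_coprime p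
  have hRP : R ≤ Subgroup.centralizer (P : Set G) := by
    intro r hr
    refine Subgroup.mem_centralizer_iff.mpr fun π hπ => ?_
    have h1 : π * r * π⁻¹ * r⁻¹ = 1 := by
      refine PSolvable.eq_one_of_mem_of_mem hP hRc ?_ ?_
      · rw [show π * r * π⁻¹ * r⁻¹ = π * (r * π⁻¹ * r⁻¹) by group]
        exact mul_mem hπ ((Subgroup.mem_normalizer_iff.mp (Subgroup.map_subtype_le _ hr) _).mp
          (inv_mem hπ))
      · exact mul_mem ((Subgroup.mem_normalizer_iff.mp (hRn (Subgroup.le_normalizer hπ)) r).mp hr)
          (inv_mem hr)
    calc π * r = π * r * π⁻¹ * r⁻¹ * (r * π) := by group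
      _ = r * π := by rw [h1, one_mul]
  refine le_antisymm (le_core0 hP hRP ((Subgroup.centralizer_le_normalizer _).trans hRn) hRc) ?_
  have hle : core0 p P ≤ N :=
    ((core0_le P).trans (cent_le_centralizer P)).trans (Subgroup.centralizer_le_normalizer _)
  have h1 : (core0 p P).subgroupOf N ≤ pPrimeCore p N := by
    refine Transfer.le_pPrimeCore (Subgroup.normal_subgroupOf_of_le_normalizer
      (le_normalizer_core0 (normalizer_le_normalizer_cent P))) ?_
    rw [Nat.card_congr (Subgroup.subgroupOfEquivOfLe hle).toEquiv]
    exact coprime_core0 P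
  have h2 := Subgroup.map_mono (f := N.subtype) h1
  rwa [Subgroup.map_subgroupOf_eq_of_le hle] at h2

theorem map_commutator_self {K : Subgroup ↥(Subgroup.normalizer (P : Set G))}
    (hK : IsPComponent p K) :
    ⁅K.map (Subgroup.normalizer (P : Set G)).subtype, K.map (Subgroup.normalizer (P : Set G)).subtype⁆
      = K.map (Subgroup.normalizer (P : Set G)).subtype := by
  rw [← Subgroup.map_commutator, commutator_eq_self_of_isPComponent hK]

/-- A `p`-component of `N(P)` centralises the normal `p`-subgroups of `N(P)`. -/
theorem component_le_centralizer {K : Subgroup ↥(Subgroup.normalizer (P : Set G))}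
    (hK : IsPComponent p K) {U : Subgroup G} (hUN : U ≤ Subgroup.normalizer (P : Set G))
    (hNU : Subgroup.normalizer (P : Set G) ≤ Subgroup.normalizer (U : Set G)) (hU : IsPGroup p U) :
    K.map (Subgroup.normalizer (P : Set G)).subtype ≤ Subgroup.centralizer (U : Set G) := by
  haveI := Transfer.pPrimeCore_normal p (Subgroup.normalizer (P : Set G))
  set π := QuotientGroup.mk' (pPrimeCore p (Subgroup.normalizer (P : Set G))) with hπ
  haveI hUn : (U.subgroupOf (Subgroup.normalizer (P : Set G))).Normal := Subgroup.normal_subgroupOf_of_le_normalizer hNU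
  have hUp : IsPGroup p ↥(U.subgroupOf (Subgroup.normalizer (P : Set G))) := hU.comap_of_injective (Subgroup.normalizer (P : Set G)).subtype (Subgroup.normalizer (P : Set G)).subtype_injective
  haveI : ((U.subgroupOf (Subgroup.normalizer (P : Set G))).map π).Normal := hUn.map π (QuotientGroup.mk'_surjective _)
  haveI : Group.IsNilpotent ↥((U.subgroupOf (Subgroup.normalizer (P : Set G))).map π) := (hUp.map π).isNilpotent
  have h1 : ⁅K.map π, (U.subgroupOf (Subgroup.normalizer (P : Set G))).map π⁆ = ⊥ :=
    commutator_eq_bot_of_isSolvable hK.2.1 inferInstance Subgroup.le_normalizer_of_normal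
  rw [← Subgroup.map_commutator, Subgroup.map_eq_bot_iff, QuotientGroup.ker_mk'] at h1
  have h2 : ⁅K, U.subgroupOf (Subgroup.normalizer (P : Set G))⁆ = ⊥ := by
    refine eq_bot_iff.mpr fun z hz => Subgroup.mem_bot.mpr ?_
    exact PSolvable.eq_one_of_mem_of_mem hUp (Transfer.pPrimeCore_coprime p)
      (Subgroup.commutator_le_right K (U.subgroupOf (Subgroup.normalizer (P : Set G))) hz) (h1 hz)
  rw [← Subgroup.commutator_eq_bot_iff_le_centralizer,
    ← Subgroup.map_subgroupOf_eq_of_le hUN, ← Subgroup.map_commutator, h2, Subgroup.map_bot]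

theorem component_le_cent (hP : IsPGroup p P)
    {K : Subgroup ↥(Subgroup.normalizer (P : Set G))} (hK : IsPComponent p K) :
    K.map (Subgroup.normalizer (P : Set G)).subtype ≤ cent p P := by
  have h1 := component_le_centralizer hK (U := P) Subgroup.le_normalizer le_rfl hP
  have h2 := component_le_centralizer hK
    (U := pCore p G ⊓ Subgroup.centralizer (P : Set G))
    (inf_le_right.trans (Subgroup.centralizer_le_normalizer _))
    (le_normalizer_inf_of_le Subgroup.le_normalizer_of_normal (le_normalizer_centralizer le_rfl))
    ((Fitting.pCore_isPGroup p).to_le inf_le_left)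
  refine le_inf h1 (le_of_coprime_elements (p := p) (map_commutator_self hK) fun x hx hxp => ?_)
  exact le_centralizer_pCore (R := Subgroup.zpowers x) hP (by rwa [Nat.card_zpowers])
    (Subgroup.zpowers_le.mpr (h1 hx)) (Subgroup.zpowers_le.mpr (h2 hx)) (Subgroup.mem_zpowers x)

/-- The preimage of the layer of `N(P)/O_{p'}(N(P))` centralises `O_p(G)`. -/
theorem layerPre_le_centralizer (hP : IsPGroup p P) :
    layerPre p P ≤ Subgroup.centralizer (pCore p G : Set G) := by
  rw [layerPre, Subgroup.map_sup]
  refine sup_le ?_ ((core_normalizer_eq hP).le.trans ((core0_le P).trans inf_le_right))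
  rw [pLayer, Subgroup.map_le_iff_le_comap]
  refine sSup_le fun K hK => ?_
  rw [← Subgroup.map_le_iff_le_comap]
  exact (component_le_cent hP hK).trans inf_le_right

theorem component_le_normalizer (hO : pPrimeCore p G = ⊥) (hP : IsPGroup p P)
    {K : Subgroup ↥(Subgroup.normalizer (P : Set G))} (hK : IsPComponent p K) {L : Subgroup G}
    (hL : IsComponent L) :
    K.map (Subgroup.normalizer (P : Set G)).subtype ≤ Subgroup.normalizer (L : Set G) := by
  haveI := Transfer.pPrimeCore_normal p (Subgroup.normalizer (P : Set G))
  set π := QuotientGroup.mk' (pPrimeCore p (Subgroup.normalizer (P : Set G))) with hπ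
  set K' := K.map (Subgroup.normalizer (P : Set G)).subtype
  have hK'c : K' ≤ cent p P := component_le_cent hP hK
  have hK'N : K' ≤ (Subgroup.normalizer (P : Set G)) := Subgroup.map_subtype_le _
  set M1 := mid p P ⊓ cent p P with hM1
  have hM1N : M1 ≤ (Subgroup.normalizer (P : Set G)) :=
    inf_le_right.trans ((cent_le_centralizer P).trans (Subgroup.centralizer_le_normalizer _))
  haveI : (M1.subgroupOf (Subgroup.normalizer (P : Set G))).Normal := Subgroup.normal_subgroupOf_of_le_normalizer
    (le_normalizer_inf_of_le (normalizer_le_normalizer_mid P) (normalizer_le_normalizer_cent P))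
  haveI : ((M1.subgroupOf (Subgroup.normalizer (P : Set G))).map π).Normal :=
    Subgroup.Normal.map inferInstance π (QuotientGroup.mk'_surjective _)
  have hcore := core_normalizer_eq (p := p) hP
  rcases le_or_commutator_eq_bot hK.2.1
      (inferInstance : ((M1.subgroupOf (Subgroup.normalizer (P : Set G))).map π).Normal).isSubnormal with h | h
  · rw [Subgroup.map_le_map_iff, QuotientGroup.ker_mk'] at h
    have h2 := Subgroup.map_mono (f := (Subgroup.normalizer (P : Set G)).subtype) h
    rw [Subgroup.map_sup, Subgroup.map_subgroupOf_eq_of_le hM1N, hcore] at h2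
    exact h2.trans (sup_le (inf_le_left.trans (mid_le_normalizer P hL)) (core0_le_normalizer hO hP hL))
  · rw [← Subgroup.map_commutator, Subgroup.map_eq_bot_iff, QuotientGroup.ker_mk'] at h
    have h1 := Subgroup.map_mono (f := (Subgroup.normalizer (P : Set G)).subtype) h
    rw [Subgroup.map_commutator, Subgroup.map_subgroupOf_eq_of_le hM1N, hcore] at h1
    change ⁅K', M1⁆ ≤ core0 p P at h1
    -- three subgroup lemma modulo `core0`
    set W := (Subgroup.normalizer (P : Set G)) ⊔ mid p P with hW
    have hWn : W ≤ Subgroup.normalizer (core0 p P : Set G) :=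
      sup_le (le_normalizer_core0 (normalizer_le_normalizer_cent P))
        (le_normalizer_core0 (mid_le_normalizer_cent P))
    haveI : ((core0 p P).subgroupOf W).Normal := Subgroup.normal_subgroupOf_of_le_normalizer hWn
    set f := QuotientGroup.mk' ((core0 p P).subgroupOf W)
    have hKM : ⁅K', mid p P⁆ ≤ M1 := by
      refine le_inf ?_ ?_
      · rw [Subgroup.commutator_comm]
        exact commutator_le_left_of_le_normalizer (hK'N.trans (normalizer_le_normalizer_mid P))
      · refine (Subgroup.commutator_mono hK'c le_rfl).trans ?_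
        exact commutator_le_left_of_le_normalizer (mid_le_normalizer_cent P)
    have hM1W : M1 ≤ W := hM1N.trans le_sup_left
    have hKW : K' ≤ W := hK'N.trans le_sup_left
    have hmW : mid p P ≤ W := le_sup_right
    have hperf : ⁅(K'.subgroupOf W).map f, (K'.subgroupOf W).map f⁆ = (K'.subgroupOf W).map f := by
      rw [← Subgroup.map_commutator]
      congr 1
      apply Subgroup.map_injective W.subtype_injective
      rw [Subgroup.map_commutator, Subgroup.map_subgroupOf_eq_of_le hKW]
      exact map_commutator_self hK
    have h3 : ⁅(K'.subgroupOf W).map f, ((mid p P).subgroupOf W).map f⁆ = ⊥ := by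
      refine commutator_eq_bot_of_perfect hperf ?_
      rw [← Subgroup.map_commutator, ← Subgroup.map_commutator, Subgroup.map_eq_bot_iff,
        QuotientGroup.ker_mk', ← Subgroup.map_le_map_iff_of_injective W.subtype_injective,
        Subgroup.map_commutator, Subgroup.map_commutator, Subgroup.map_subgroupOf_eq_of_le hKW,
        Subgroup.map_subgroupOf_eq_of_le hmW, Subgroup.map_subgroupOf_eq_of_le
          ((((core0_le P).trans (cent_le_centralizer P)).trans
            (Subgroup.centralizer_le_normalizer _)).trans le_sup_left)]
      refine (Subgroup.commutator_mono hKM le_rfl).trans ?_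
      rw [Subgroup.commutator_comm]
      exact h1
    rw [← Subgroup.map_commutator, Subgroup.map_eq_bot_iff, QuotientGroup.ker_mk',
      ← Subgroup.map_le_map_iff_of_injective W.subtype_injective, Subgroup.map_commutator,
      Subgroup.map_subgroupOf_eq_of_le hKW, Subgroup.map_subgroupOf_eq_of_le hmW,
      Subgroup.map_subgroupOf_eq_of_le
        ((((core0_le P).trans (cent_le_centralizer P)).trans
          (Subgroup.centralizer_le_normalizer _)).trans le_sup_left)] at h3
    refine le_of_coprime_elements (p := p) (map_commutator_self hK) fun u hu hup => ?_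
    have huP := cent_le_centralizer P (hK'c hu)
    refine mem_normalizer_iff_conj_smul.mpr (smul_eq_of_coprime hP huP hup
      (exists_smul_eq hO hP hL (coprime_core0 P) huP fun y hy => ?_))
    have := h3 (Subgroup.commutator_mem_commutator hu hy)
    rwa [commutatorElement_def] at this

/-- The preimage of the layer of `N(P)/O_{p'}(N(P))` fixes every component. -/
theorem layerPre_le_normalizer (hO : pPrimeCore p G = ⊥) (hP : IsPGroup p P) {L : Subgroup G}
    (hL : IsComponent L) : layerPre p P ≤ Subgroup.normalizer (L : Set G) := by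
  rw [layerPre, Subgroup.map_sup]
  refine sup_le ?_ ((core_normalizer_eq hP).le.trans (core0_le_normalizer hO hP hL))
  rw [pLayer, Subgroup.map_le_iff_le_comap]
  refine sSup_le fun K hK => ?_
  rw [← Subgroup.map_le_iff_le_comap]
  exact component_le_normalizer hO hP hK hL

/-- The layer of `N(P)` for `P ≤ O_p(G)` is the layer of `G`. -/
theorem layer_normalizer_eq (hPQ : P ≤ pCore p G) :
    (layer ↥(Subgroup.normalizer (P : Set G))).map (Subgroup.normalizer (P : Set G)).subtype =
      layer G := by
  set N := Subgroup.normalizer (P : Set G) with hN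
  have hP : IsPGroup p P := (Fitting.pCore_isPGroup p).to_le hPQ
  have hLC : layer G ≤ Subgroup.centralizer (pCore p G : Set G) :=
    Subgroup.le_centralizer_iff.mp pCore_le_centralizer_layer
  haveI hCn : (Subgroup.centralizer (pCore p G : Set G)).Normal := Subgroup.normal_centralizer
  have hCN : Subgroup.centralizer (pCore p G : Set G) ≤ N :=
    (Subgroup.centralizer_le hPQ).trans (Subgroup.centralizer_le_normalizer _)
  refine le_antisymm ?_ (sSup_le fun K hK =>
    le_map_layer hK ((isComponent_le_layer hK).trans (hLC.trans hCN)))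
  rw [layer, Subgroup.map_le_iff_le_comap]
  refine sSup_le fun K hK => ?_
  rw [← Subgroup.map_le_iff_le_comap]
  set K' := K.map N.subtype
  have hperf : ⁅K', K'⁆ = K' := by
    rw [← Subgroup.map_commutator, isPerfect_of_isComponent hK]
  have hcomm : ∀ U : Subgroup G, U ≤ N → N ≤ Subgroup.normalizer (U : Set G) → IsPGroup p U →
      K' ≤ Subgroup.centralizer (U : Set G) := by
    intro U hUN hNU hU
    haveI : (U.subgroupOf N).Normal := Subgroup.normal_subgroupOf_of_le_normalizer hNU
    haveI : Group.IsNilpotent ↥(U.subgroupOf N) :=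
      (hU.comap_of_injective N.subtype N.subtype_injective).isNilpotent
    rw [← Subgroup.commutator_eq_bot_iff_le_centralizer, ← Subgroup.map_subgroupOf_eq_of_le hUN,
      ← Subgroup.map_commutator,
      commutator_eq_bot_of_isSolvable hK inferInstance Subgroup.le_normalizer_of_normal,
      Subgroup.map_bot]
  have h1 := hcomm P Subgroup.le_normalizer le_rfl hP
  have h2 := hcomm (pCore p G ⊓ Subgroup.centralizer (P : Set G))
    (inf_le_right.trans (Subgroup.centralizer_le_normalizer _))
    (le_normalizer_inf_of_le Subgroup.le_normalizer_of_normal (le_normalizer_centralizer le_rfl))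
    ((Fitting.pCore_isPGroup p).to_le inf_le_left)
  have hKC : K' ≤ Subgroup.centralizer (pCore p G : Set G) :=
    le_of_coprime_elements (p := p) hperf fun x hx hxp =>
      le_centralizer_pCore (R := Subgroup.zpowers x) hP (by rwa [Nat.card_zpowers])
        (Subgroup.zpowers_le.mpr (h1 hx)) (Subgroup.zpowers_le.mpr (h2 hx)) (Subgroup.mem_zpowers x)
  refine isComponent_le_layer ⟨?_, (isQuasisimple_congr
    (K.equivMapOfInjective N.subtype N.subtype_injective)).mp hK.2⟩
  have h3 : (K'.subgroupOf (Subgroup.centralizer (pCore p G : Set G))).IsSubnormal := by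
    have h4 := hK.1.comap (Subgroup.inclusion hCN)
    convert h4 using 1
    ext z
    constructor
    · rintro ⟨w, hw, he⟩
      have hwz : w = Subgroup.inclusion hCN z := Subtype.ext he
      show Subgroup.inclusion hCN z ∈ K
      rw [← hwz]; exact hw
    · intro hz
      exact ⟨_, hz, rfl⟩
  have h5 := h3.trans' hCn.isSubnormal
  rwa [Subgroup.map_subgroupOf_eq_of_le hKC] at h5

end CfsgLib.Layer.PLocal
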