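import Mathlib
import Cfsg.Prelude.Def_KGroupFacts
import Cfsg.Agent.Lib.Layer.PLocalLayer
import Cfsg.Agent.Lib.Signalizer.ComponentBalance
import Cfsg.Agent.Lib.ZStar.SylowCentralizerAut

/-!
# `L`-balance

For `p = 2` and arbitrary finite groups (by Glauberman's theorem on automorphisms centralising a
Sylow 2-subgroup), and for every `p` when the components have soluble outer automorphism groups.
-/

set_option autoImplicit false
set_option linter.style.haveILetI false
set_option linter.unusedSectionVars false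

open scoped commutatorElement
open Pointwise

namespace CfsgLib.Layer.LBalance

open Cfsg
open CfsgLib.Coprime

section Transfer

variable {N N' : Type*} [Group N] [Finite N] [Group N'] [Finite N'] {p : ℕ} [hp : Fact p.Prime]

/-- The image of the `p`-layer under a surjection with `p'`-kernel. -/
theorem map_pLayer_le (φ : N →* N') (hφ : Function.Surjective φ)
    (hker : (Nat.card φ.ker).Coprime p) : (pLayer p N).map φ ≤ pLayer p N' := by
  haveI := Transfer.pPrimeCore_normal p N
  haveI := Transfer.pPrimeCore_normal p N'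
  set ψ := (QuotientGroup.mk' (pPrimeCore p N')).comp φ with hψ
  have hψs : Function.Surjective ψ := (QuotientGroup.mk'_surjective _).comp hφ
  have hk : ψ.ker = pPrimeCore p N := by
    refine le_antisymm (Transfer.le_pPrimeCore inferInstance ?_) fun x hx => ?_
    · rw [hψ, ← MonoidHom.comap_ker, QuotientGroup.ker_mk',
        PSolvable.card_comap_of_surjective hφ]
      exact Nat.Coprime.mul_left hker (Transfer.pPrimeCore_coprime p)
    · rw [MonoidHom.mem_ker]
      refine (QuotientGroup.eq_one_iff _).mpr (Transfer.le_pPrimeCore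
        (N := (pPrimeCore p N).map φ) (Subgroup.Normal.map inferInstance φ hφ) ?_ ⟨x, hx, rfl⟩)
      exact (Transfer.pPrimeCore_coprime (G := N) p).coprime_dvd_left (Subgroup.card_map_dvd _ φ)
  rw [pLayer, Subgroup.map_le_iff_le_comap]
  refine sSup_le fun K hK => ?_
  rw [← Subgroup.map_le_iff_le_comap]
  set π := QuotientGroup.mk' (pPrimeCore p N)
  let e : N ⧸ pPrimeCore p N ≃* N' ⧸ pPrimeCore p N' :=
    (QuotientGroup.quotientMulEquivOfEq hk).symm.trans
      (QuotientGroup.quotientKerEquivOfSurjective ψ hψs)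
  have he : e.toMonoidHom.comp π = ψ := by
    ext x; rfl
  have hL' : IsComponent ((K.map π).map e.toMonoidHom) := isComponent_map_equiv e hK.2.1
  rw [Subgroup.map_map, he, hψ, ← Subgroup.map_map] at hL'
  refine le_trans ?_ (le_sSup (isPComponent_pComponentOf hL'))
  conv_lhs => rw [eq_pComponentOf hK, pComponentOf, pGen, MonoidHom.map_closure]
  refine (Subgroup.closure_le _).mpr ?_
  rintro _ ⟨x, ⟨hx, j, hj⟩, rfl⟩
  refine mem_pGen (j := j) ?_ ((orderOf_map_dvd φ x).trans hj)
  obtain ⟨k, hk1, hk2⟩ := (show π x ∈ K.map π from hx)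
  refine ⟨φ k, ⟨k, hk1, rfl⟩, ?_⟩
  have h1 : ψ k = ψ x := by rw [← he]; exact congrArg e hk2
  exact h1

theorem pLayer_normal (p : ℕ) [Fact p.Prime] (N : Type*) [Group N] [Finite N] :
    (pLayer p N).Normal := by
  refine ⟨fun x hx g => map_pLayer_le (MulAut.conj g).toMonoidHom (MulEquiv.surjective _) ?_
    ⟨x, hx, rfl⟩⟩
  rw [(MonoidHom.ker_eq_bot_iff _).mpr (MulEquiv.injective _), Subgroup.card_bot]
  exact Nat.coprime_one_left p

end Transfer

variable {G : Type*} [Group G] [Finite G] {p : ℕ} [hp : Fact p.Prime]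

/-- The `p`-elements of a product with a `p'`-group lie in the normal factor. -/
theorem mem_of_mem_sup {M R : Subgroup G} [M.Normal] (hR : (Nat.card R).Coprime p) {x : G}
    {j : ℕ} (hx : orderOf x ∣ p ^ j) (hxm : x ∈ M ⊔ R) : x ∈ M := by
  have h1 : QuotientGroup.mk' M x ∈ R.map (QuotientGroup.mk' M) := by
    obtain ⟨m, hm, r, hr, rfl⟩ := Subgroup.mem_sup_of_normal_left.mp hxm
    refine ⟨r, hr, ?_⟩
    rw [map_mul, show QuotientGroup.mk' M m = 1 from (QuotientGroup.eq_one_iff m).mpr hm, one_mul]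
  refine (QuotientGroup.eq_one_iff x).mp (PSolvable.eq_one_of_mem_of_mem
    (P := Subgroup.zpowers (QuotientGroup.mk' M x)) ?_
    (hR.coprime_dvd_left (Subgroup.card_map_dvd _ _)) (Subgroup.mem_zpowers _) h1)
  rintro ⟨z, n, rfl⟩
  refine ⟨j, Subtype.ext ?_⟩
  show ((QuotientGroup.mk' M x) ^ n) ^ p ^ j = 1
  rw [← zpow_natCast, ← zpow_mul, mul_comm n, zpow_mul, zpow_natCast,
    orderOf_dvd_iff_pow_eq_one.mp ((orderOf_map_dvd _ x).trans hx), one_zpow]

theorem map_le_of_le_sup {N : Subgroup G} {K : Subgroup N} (hK : IsPComponent p K) {M R : Subgroup G}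
    [M.Normal] (hR : (Nat.card R).Coprime p) (h : K.map N.subtype ≤ M ⊔ R) :
    K.map N.subtype ≤ M := by
  rw [eq_pComponentOf hK, pComponentOf, pGen, MonoidHom.map_closure] at h ⊢
  refine (Subgroup.closure_le _).mpr ?_
  rintro y hy
  obtain ⟨x, ⟨hx, j, hj⟩, rfl⟩ := hy
  exact mem_of_mem_sup hR (j := j) ((orderOf_map_dvd _ x).trans hj)
    (h (Subgroup.subset_closure ⟨x, ⟨hx, j, hj⟩, rfl⟩))

/-- It suffices to prove `L`-balance modulo `O_{p'}`. -/
theorem pLayer_le_of_quotient {N : Subgroup G}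
    (h : (pLayer p ↥(N.map (QuotientGroup.mk' (pPrimeCore p G)))).map
      (N.map (QuotientGroup.mk' (pPrimeCore p G))).subtype ≤ layer (G ⧸ pPrimeCore p G)) :
    (pLayer p ↥N).map N.subtype ≤ pLayer p G := by
  haveI := Transfer.pPrimeCore_normal p G
  haveI := pLayer_normal p G
  set f := QuotientGroup.mk' (pPrimeCore p G) with hf
  have hker : (Nat.card (f.subgroupMap N).ker).Coprime p := by
    rw [Subgroup.ker_subgroupMap, hf, QuotientGroup.ker_mk']
    refine Nat.Coprime.coprime_dvd_left ?_ (Transfer.pPrimeCore_coprime (G := G) p)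
    rw [← Subgroup.card_map_of_injective (f := N.subtype) N.subtype_injective,
      Subgroup.subgroupOf_map_subtype]
    exact Subgroup.card_dvd_of_le inf_le_left
  have h1 := map_pLayer_le (p := p) (f.subgroupMap N) (f.subgroupMap_surjective N) hker
  rw [pLayer, Subgroup.map_le_iff_le_comap]
  refine sSup_le fun K hK => ?_
  rw [← Subgroup.map_le_iff_le_comap]
  refine map_le_of_le_sup hK (R := pPrimeCore p G) (Transfer.pPrimeCore_coprime p) ?_
  have h2 : (K.map N.subtype).map f ≤ (pLayer p G).map f := by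
    rw [map_pLayer]
    refine le_trans ?_ h
    rintro _ ⟨_, ⟨k, hk, rfl⟩, rfl⟩
    exact ⟨f.subgroupMap N k, h1 ⟨k, le_sSup (s := {K | IsPComponent p K}) hK hk, rfl⟩, rfl⟩
  rw [Subgroup.map_le_map_iff, hf, QuotientGroup.ker_mk'] at h2
  exact h2

/-- A perfect subgroup of `E(G) O_p(G)` lies in the layer. -/
theorem le_layer_of_le_sup {K : Subgroup G} (hK : ⁅K, K⁆ = K) (h : K ≤ layer G ⊔ pCore p G) :
    K ≤ layer G := by
  haveI := layer_normal (G := G)
  set f := QuotientGroup.mk' (layer G)
  have h1 : K.map f ≤ (pCore p G).map f := by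
    refine (Subgroup.map_mono h).trans ?_
    rw [Subgroup.map_sup, QuotientGroup.map_mk'_self, bot_sup_eq]
  have h2 : IsPGroup p ↥(K.map f) := ((Fitting.pCore_isPGroup p).map f).to_le h1
  by_contra hne
  have hnt : Nontrivial ↥(K.map f) := by
    rw [Subgroup.nontrivial_iff_ne_bot, Ne, Subgroup.map_eq_bot_iff, QuotientGroup.ker_mk']
    exact hne
  haveI : Group.IsNilpotent ↥(K.map f) := h2.isNilpotent
  haveI : Group.IsPerfect ↥(K.map f) := Subgroup.isPerfect_iff.mpr (by
    rw [← Subgroup.map_commutator, hK])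
  exact Group.IsPerfect.not_isNilpotent ↥(K.map f) inferInstance

/-- Inner on every component and centralising `O_p(G)` implies inside the layer. -/
theorem le_layer_of_inner (hO : pPrimeCore p G = ⊥) {K : Subgroup G} (hK : ⁅K, K⁆ = K)
    (hQ : K ≤ Subgroup.centralizer (pCore p G : Set G))
    (hin : ∀ L : Subgroup G, IsComponent L → ∀ k ∈ K, ∃ l ∈ L,
      l⁻¹ * k ∈ Subgroup.centralizer (L : Set G)) : K ≤ layer G := by
  refine le_layer_of_le_sup (p := p) hK fun k hk => ?_
  classical
  haveI : Finite (Subgroup G) := Finite.of_injective (fun H => (H : Set G)) SetLike.coe_injective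
  have key : ∀ s : Finset (Subgroup G), (∀ L ∈ s, IsComponent L) →
      ∃ e ∈ layer G, (∀ L ∈ s, e⁻¹ * k ∈ Subgroup.centralizer (L : Set G)) ∧
        ∀ L, IsComponent L → L ∉ s → e ∈ Subgroup.centralizer (L : Set G) := by
    intro s
    induction s using Finset.induction with
    | empty => exact fun _ => ⟨1, one_mem _, by simp, fun L _ _ => one_mem _⟩
    | insert L s hLs ih =>
      intro hs
      obtain ⟨e, he, he1, he2⟩ := ih fun L' hL' => hs L' (Finset.mem_insert_of_mem hL')
      have hL := hs L (Finset.mem_insert_self _ _)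
      obtain ⟨l, hl, hlk⟩ := hin L hL k hk
      have heL := he2 L hL hLs
      have hother : ∀ L', IsComponent L' → L' ≠ L → l ∈ Subgroup.centralizer (L' : Set G) :=
        fun L' hL' hne =>
          Subgroup.commutator_eq_bot_iff_le_centralizer.mp (commutator_eq_bot_of_ne hL hL' (Ne.symm hne)) hl
      have hel : e * l = l * e :=
        (Subgroup.mem_centralizer_iff.mp heL l hl).symm
      refine ⟨e * l, mul_mem he (isComponent_le_layer hL hl), fun L' hL' => ?_, fun L' hL' hn => ?_⟩
      · rcases Finset.mem_insert.mp hL' with rfl | hL'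
        · rw [hel, show (l * e)⁻¹ * k = e⁻¹ * (l⁻¹ * k) by group]
          exact mul_mem (inv_mem heL) hlk
        · rw [show (e * l)⁻¹ * k = l⁻¹ * (e⁻¹ * k) by group]
          exact mul_mem (inv_mem (hother L' (hs L' (Finset.mem_insert_of_mem hL'))
            (fun h => hLs (h ▸ hL')))) (he1 L' hL')
      · rw [Finset.mem_insert, not_or] at hn
        exact mul_mem (he2 L' hL' hn.2) (hother L' hL' hn.1)
  haveI := Fintype.ofFinite (Subgroup G)
  obtain ⟨e, he, he1, -⟩ := key (Finset.univ.filter IsComponent)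
    (fun L hL => (Finset.mem_filter.mp hL).2)
  set F := generalizedFittingSubgroup G with hF
  haveI : F.Normal := generalizedFitting_normal
  have hc : e⁻¹ * k ∈ Subgroup.centralizer (F : Set G) := by
    rw [← Subgroup.zpowers_le, hF, generalizedFittingSubgroup, fittingSubgroup_eq_pCore hO,
      Subgroup.le_centralizer_iff]
    refine sup_le (sSup_le fun L hL => ?_) ?_ <;> rw [Subgroup.le_centralizer_iff, Subgroup.zpowers_le]
    · exact he1 L (Finset.mem_filter.mpr ⟨Finset.mem_univ _, hL⟩)
    · exact mul_mem (inv_mem (Subgroup.le_centralizer_iff.mp PLocal.pCore_le_centralizer_layer he)) (hQ hk)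
  have h2 := centralizer_generalizedFitting_le hc
  rw [generalizedFittingSubgroup, fittingSubgroup_eq_pCore hO] at h2
  rw [show k = e * (e⁻¹ * k) by group]
  exact mul_mem (Subgroup.mem_sup_left he) h2

/-- `L`-balance for `p`-locals when the components have soluble outer automorphism groups. -/
theorem pLayer_normalizer_le_layer (hO : pPrimeCore p G = ⊥)
    (hS : ∀ L : Subgroup G, IsComponent L → Group.IsSolvable (Cfsg.Out (↥L ⧸ Subgroup.center ↥L)))
    {P : Subgroup G} (hP : IsPGroup p P) :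
    (pLayer p ↥(Subgroup.normalizer (P : Set G))).map (Subgroup.normalizer (P : Set G)).subtype ≤
      layer G := by
  rw [pLayer, Subgroup.map_le_iff_le_comap]
  refine sSup_le fun K hK => ?_
  rw [← Subgroup.map_le_iff_le_comap]
  have hperf := PLocal.map_commutator_self hK
  refine le_layer_of_inner hO hperf ((PLocal.component_le_cent hP hK).trans inf_le_right)
    fun L hL k hk => ?_
  set K' := K.map (Subgroup.normalizer (P : Set G)).subtype with hK'
  have hKL : K' ≤ Subgroup.normalizer (L : Set G) := PLocal.component_le_normalizer hO hP hK hL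
  haveI : Group.IsPerfect ↥L := hL.2.1
  haveI : Group.IsPerfect ↥K' := Subgroup.isPerfect_iff.mpr hperf
  haveI := hS L hL
  let μ : ↥K' →* MulAut (↥L ⧸ Subgroup.center ↥L) :=
    (Signalizer.ComponentBalance.autQuot ↥L).comp
      (L.normalizerMonoidHom.comp (Subgroup.inclusion hKL))
  let ν : ↥K' →* Cfsg.Out (↥L ⧸ Subgroup.center ↥L) :=
    (QuotientGroup.mk' (Cfsg.Inn (↥L ⧸ Subgroup.center ↥L))).comp μ
  have hν : ∀ u, ν u = 1 := by
    intro u
    by_contra hu
    haveI : Nontrivial ↥ν.range := ⟨⟨⟨ν u, u, rfl⟩, 1, fun h => hu (congrArg Subtype.val h)⟩⟩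
    haveI : Group.IsPerfect ↥ν.range := Group.IsPerfect.ofSurjective ν.rangeRestrict_surjective
    exact Group.IsPerfect.not_isSolvable ↥ν.range inferInstance
  have h1 : μ ⟨k, hk⟩ ∈ Cfsg.Inn (↥L ⧸ Subgroup.center ↥L) :=
    (QuotientGroup.eq_one_iff _).mp (hν ⟨k, hk⟩)
  obtain ⟨φ, ⟨l, rfl⟩, hφ⟩ := Signalizer.ComponentBalance.range_conj_le
    (L := ↥L) (show μ ⟨k, hk⟩ ∈ (MulAut.conj : ↥L ⧸ Subgroup.center ↥L →* MulAut _).range from h1)
  have h2 : L.normalizerMonoidHom (Subgroup.inclusion hKL ⟨k, hk⟩) = MulAut.conj l :=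
    Signalizer.ComponentBalance.autQuot_injective hφ.symm
  refine ⟨l, l.2, Subgroup.mem_centralizer_iff.mpr fun z hz => ?_⟩
  have h3 : k * z * k⁻¹ = (l : G) * z * (l : G)⁻¹ :=
    congrArg (fun φ : MulAut ↥L => ((φ ⟨z, hz⟩ : ↥L) : G)) h2
  calc z * ((l : G)⁻¹ * k) = (l : G)⁻¹ * ((l : G) * z * (l : G)⁻¹) * k := by group
    _ = (l : G)⁻¹ * (k * z * k⁻¹) * k := by rw [h3]
    _ = (l : G)⁻¹ * k * z := by group

/-- `L`-balance for `p`-locals, general form. -/
theorem pLayer_normalizer_le
    (hS : ∀ L : Subgroup (G ⧸ pPrimeCore p G), IsComponent L →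
      Group.IsSolvable (Cfsg.Out (↥L ⧸ Subgroup.center ↥L)))
    {P : Subgroup G} (hP : IsPGroup p P) :
    (pLayer p ↥(Subgroup.normalizer (P : Set G))).map (Subgroup.normalizer (P : Set G)).subtype ≤
      pLayer p G := by
  haveI := Transfer.pPrimeCore_normal p G
  refine pLayer_le_of_quotient ?_
  rw [PSolvable.map_normalizer_eq (QuotientGroup.mk'_surjective _)
    (by rw [QuotientGroup.ker_mk']; exact Transfer.pPrimeCore_coprime p) hP]
  exact pLayer_normalizer_le_layer (pPrimeCore_quotient_eq_bot p) hS (hP.map _)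

/-! ### The prime 2 -/

/-- A perfect group generated by 2-elements, centralising `O_2` and a Sylow 2-subgroup of the
layer, lies in `O_2`. -/
theorem eq_bot_of_centralizes_sylow_layer (hO : pPrimeCore 2 G = ⊥) (P : Sylow 2 G)
    {K : Subgroup G} (hK : ⁅K, K⁆ = K)
    (hgen : Subgroup.closure {k : K | ∃ i, orderOf k ∣ 2 ^ i} = ⊤)
    (hQ : K ≤ Subgroup.centralizer (pCore 2 G : Set G))
    (hS : K ≤ Subgroup.centralizer (((P : Subgroup G) ⊓ layer G : Subgroup G) : Set G)) :
    K = ⊥ := by
  haveI : Fact (Nat.Prime 2) := ⟨Nat.prime_two⟩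
  haveI := layer_normal (G := G)
  set E := layer G with hE
  have hSp : IsPGroup 2 ↥((P : Subgroup G).subgroupOf E) :=
    P.2.comap_of_injective E.subtype E.subtype_injective
  let T : Sylow 2 ↥E := hSp.toSylow
    (CharCore.not_dvd_relIndex_of_isSubnormal (inferInstance : E.Normal).isSubnormal P)
  have hOE : pPrimeCore 2 ↥E = ⊥ := by
    refine (Subgroup.map_eq_bot_iff_of_injective _ E.subtype_injective).mp (eq_bot_iff.mpr ?_)
    exact (PSolvable.map_pPrimeCore_le E).trans hO.le
  have hKE : K ≤ Subgroup.normalizer (E : Set G) := Subgroup.le_normalizer_of_normal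
  have hρ := ZStar.eq_one_of_perfect_fixing hOE T (E.normalizerMonoidHom.comp (Subgroup.inclusion hKE))
    (fun k t ht => Subtype.ext (by
      show (k : G) * t * (k : G)⁻¹ = t
      rw [mul_inv_eq_iff_eq_mul]
      exact (Subgroup.mem_centralizer_iff.mp (hS k.2) t ⟨Subgroup.mem_subgroupOf.mp ht, t.2⟩).symm))
    (Group.isPerfect_def.mp (Subgroup.isPerfect_iff.mpr hK)) hgen
  have hKc : K ≤ Subgroup.centralizer (E : Set G) := fun k hk =>
    Subgroup.mem_centralizer_iff.mpr fun z hz => by
      have h1 : k * z * k⁻¹ = z :=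
        congrArg (fun ψ : ↥K →* MulAut ↥E => ((ψ ⟨k, hk⟩ ⟨z, hz⟩ : ↥E) : G)) hρ
      exact (mul_inv_eq_iff_eq_mul.mp h1).symm
  haveI : (generalizedFittingSubgroup G).Normal := generalizedFitting_normal
  have h2 : K ≤ pCore 2 G := by
    have h3 : K ≤ Subgroup.centralizer (generalizedFittingSubgroup G : Set G) := by
      rw [generalizedFittingSubgroup, fittingSubgroup_eq_pCore hO, Subgroup.le_centralizer_iff]
      exact sup_le (Subgroup.le_centralizer_iff.mp hKc) (Subgroup.le_centralizer_iff.mp hQ)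
    have h4 := centralizer_generalizedFitting_le (G := G)
    have h5 : K ≤ layer G ⊔ pCore 2 G := by
      have := h3.trans h4
      rwa [generalizedFittingSubgroup, fittingSubgroup_eq_pCore hO] at this
    have h6 := le_layer_of_le_sup hK h5
    haveI : IsMulCommutative ↥K := ⟨⟨fun a b => Subtype.ext
      (Subgroup.mem_centralizer_iff.mp (hKc b.2) a (h6 a.2))⟩⟩
    have h7 : ⁅K, K⁆ = ⊥ := Subgroup.commutator_eq_bot_iff_le_centralizer.mpr fun a ha =>
      Subgroup.mem_centralizer_iff.mpr fun b hb => Subgroup.mem_centralizer_iff.mp (hKc ha) b (h6 hb)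
    rw [← hK, h7]
    exact bot_le
  by_contra hne
  haveI : Nontrivial ↥K := (Subgroup.nontrivial_iff_ne_bot K).mpr hne
  haveI : Group.IsNilpotent ↥K := ((Fitting.pCore_isPGroup 2).to_le h2).isNilpotent
  haveI : Group.IsPerfect ↥K := Subgroup.isPerfect_iff.mpr hK
  exact Group.IsPerfect.not_isNilpotent ↥K inferInstance

theorem closure_pElements {N : Subgroup G} {K : Subgroup N} (hK : IsPComponent p K) :
    Subgroup.closure {k : ↥(K.map N.subtype) | ∃ i, orderOf k ∣ p ^ i} = ⊤ := by
  refine Subgroup.map_injective (K.map N.subtype).subtype_injective ?_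
  rw [MonoidHom.map_closure, ← MonoidHom.range_eq_map, Subgroup.range_subtype]
  refine le_antisymm ((Subgroup.closure_le _).mpr ?_) ?_
  · rintro _ ⟨k, -, rfl⟩
    exact k.2
  · rw [Subgroup.map_le_iff_le_comap]
    conv_lhs => rw [eq_pComponentOf hK, pComponentOf, pGen]
    refine (Subgroup.closure_le _).mpr fun x hx => Subgroup.subset_closure ?_
    obtain ⟨j, hj⟩ := hx.2
    have hxK : x ∈ K := by
      rw [eq_pComponentOf hK, pComponentOf, pGen]
      exact Subgroup.subset_closure hx
    exact ⟨⟨x, x, hxK, rfl⟩, ⟨j, by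
      rw [← Subgroup.orderOf_coe]
      exact (orderOf_map_dvd N.subtype x).trans hj⟩, rfl⟩

/-- `L`-balance for the centralizer of a 2-subgroup, modulo `O(G) = 1`. -/
theorem pLayer_centralizer_le_layer (hO : pPrimeCore 2 G = ⊥) {T : Subgroup G}
    (hT : IsPGroup 2 T) :
    (pLayer 2 ↥(Subgroup.centralizer (T : Set G))).map (Subgroup.centralizer (T : Set G)).subtype ≤
      layer G := by
  haveI : Fact (Nat.Prime 2) := ⟨Nat.prime_two⟩
  obtain ⟨m, hm⟩ : ∃ m, Nat.card G - Nat.card T = m := ⟨_, rfl⟩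
  induction m using Nat.strong_induction_on generalizing T with
  | _ m IH =>
  rw [pLayer, Subgroup.map_le_iff_le_comap]
  haveI := layer_normal (G := G)
  obtain ⟨P, hTP⟩ := hT.exists_le_sylow
  set C := Subgroup.centralizer (T : Set G) with hC
  set E := layer G with hE
  refine sSup_le fun K hK => ?_
  rw [← Subgroup.map_le_iff_le_comap]
  haveI := Transfer.pPrimeCore_normal 2 ↥C
  set π := QuotientGroup.mk' (pPrimeCore 2 ↥C) with hπ
  set R := (pPrimeCore 2 ↥C).map C.subtype with hR
  have hRc : (Nat.card R).Coprime 2 := by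
    rw [hR, Subgroup.card_map_of_injective C.subtype_injective]
    exact Transfer.pPrimeCore_coprime 2
  set K' := K.map C.subtype with hK'
  have hK'C : K' ≤ C := Subgroup.map_subtype_le _
  have hperf : ⁅K', K'⁆ = K' := by
    rw [← Subgroup.map_commutator, commutator_eq_self_of_isPComponent hK]
  haveI hEC : ((E ⊓ C).subgroupOf C).Normal := Subgroup.normal_subgroupOf_of_le_normalizer
    (le_normalizer_inf_of_le Subgroup.le_normalizer_of_normal Subgroup.le_normalizer)
  haveI : (((E ⊓ C).subgroupOf C).map π).Normal :=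
    Subgroup.Normal.map inferInstance π (QuotientGroup.mk'_surjective _)
  rcases le_or_commutator_eq_bot hK.2.1
      (inferInstance : (((E ⊓ C).subgroupOf C).map π).Normal).isSubnormal with h | h
  · rw [Subgroup.map_le_map_iff, QuotientGroup.ker_mk'] at h
    have h2 := Subgroup.map_mono (f := C.subtype) h
    rw [Subgroup.map_sup, Subgroup.map_subgroupOf_eq_of_le inf_le_right] at h2
    exact map_le_of_le_sup hK (R := R) hRc (h2.trans (sup_le_sup_right inf_le_left _))
  exfalso
  rw [← Subgroup.map_commutator, Subgroup.map_eq_bot_iff, QuotientGroup.ker_mk'] at h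
  have h1 := Subgroup.map_mono (f := C.subtype) h
  rw [Subgroup.map_commutator, Subgroup.map_subgroupOf_eq_of_le inf_le_right] at h1
  set U := (P : Subgroup G) ⊓ E ⊓ Subgroup.normalizer (T : Set G) with hU
  have hUC : U ≤ Subgroup.normalizer (C : Set G) := inf_le_right.trans (le_normalizer_centralizer le_rfl)
  set W := C ⊔ U with hW
  have hWC : W ≤ Subgroup.normalizer (C : Set G) := sup_le Subgroup.le_normalizer hUC
  have hWR : W ≤ Subgroup.normalizer (R : Set G) :=
    PSolvable.le_normalizer_map_of_characteristic hWC _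
  haveI : (R.subgroupOf W).Normal := Subgroup.normal_subgroupOf_of_le_normalizer hWR
  set f := QuotientGroup.mk' (R.subgroupOf W) with hf
  have hCW : C ≤ W := le_sup_left
  have hUW : U ≤ W := le_sup_right
  have hRC : R ≤ C := Subgroup.map_subtype_le _
  have hUE : U ≤ E := inf_le_left.trans inf_le_right
  -- three subgroup lemma modulo `R`
  have hKU : ⁅K', U⁆ ≤ R := by
    have hsub : ⁅K', U⁆ ≤ E ⊓ C := by
      refine le_inf ((Subgroup.commutator_mono le_rfl hUE).trans ?_)
        ((Subgroup.commutator_mono hK'C le_rfl).trans (commutator_le_left_of_le_normalizer hUC))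
      exact Subgroup.commutator_le_right K' E
    have hp' : ⁅(K'.subgroupOf W).map f, (K'.subgroupOf W).map f⁆ = (K'.subgroupOf W).map f := by
      rw [← Subgroup.map_commutator]
      congr 1
      apply Subgroup.map_injective W.subtype_injective
      rw [Subgroup.map_commutator, Subgroup.map_subgroupOf_eq_of_le (hK'C.trans hCW)]
      exact hperf
    have h3 : ⁅(K'.subgroupOf W).map f, (U.subgroupOf W).map f⁆ = ⊥ := by
      refine commutator_eq_bot_of_perfect hp' ?_
      rw [← Subgroup.map_commutator, ← Subgroup.map_commutator, Subgroup.map_eq_bot_iff, hf,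
        QuotientGroup.ker_mk', ← Subgroup.map_le_map_iff_of_injective W.subtype_injective,
        Subgroup.map_commutator, Subgroup.map_commutator,
        Subgroup.map_subgroupOf_eq_of_le (hK'C.trans hCW), Subgroup.map_subgroupOf_eq_of_le hUW,
        Subgroup.map_subgroupOf_eq_of_le (hRC.trans hCW)]
      refine (Subgroup.commutator_mono hsub le_rfl).trans ?_
      rw [Subgroup.commutator_comm]
      exact h1
    rwa [← Subgroup.map_commutator, Subgroup.map_eq_bot_iff, hf, QuotientGroup.ker_mk',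
      ← Subgroup.map_le_map_iff_of_injective W.subtype_injective, Subgroup.map_commutator,
      Subgroup.map_subgroupOf_eq_of_le (hK'C.trans hCW), Subgroup.map_subgroupOf_eq_of_le hUW,
      Subgroup.map_subgroupOf_eq_of_le (hRC.trans hCW)] at h3
  by_cases hUT : U ≤ T
  · -- `T` contains a Sylow 2-subgroup of the layer
    have hST : (P : Subgroup G) ⊓ E ≤ T := by
      by_contra hST
      have hlt : T < T ⊔ (P : Subgroup G) ⊓ E := left_lt_sup.mpr hST
      have hleP : T ⊔ (P : Subgroup G) ⊓ E ≤ P := sup_le hTP inf_le_left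
      haveI : Group.IsNilpotent ↥(T ⊔ (P : Subgroup G) ⊓ E) := (P.2.to_le hleP).isNilpotent
      have hne : T.subgroupOf (T ⊔ (P : Subgroup G) ⊓ E) < ⊤ := lt_top_iff_ne_top.mpr fun he =>
        hlt.not_ge (Subgroup.subgroupOf_eq_top.mp he)
      obtain ⟨⟨z, hz⟩, hzN, hzT⟩ :=
        SetLike.exists_of_lt (Group.normalizerCondition_of_isNilpotent (T.subgroupOf (T ⊔ (P : Subgroup G) ⊓ E)) hne)
      have hzN' : z ∈ Subgroup.normalizer (T : Set G) := by
        refine Subgroup.mem_normalizer_fintype fun t ht => ?_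
        exact (Subgroup.mem_normalizer_iff.mp hzN ⟨t, Subgroup.mem_sup_left ht⟩).mp ht
      have hTn : T ≤ Subgroup.normalizer (((P : Subgroup G) ⊓ E : Subgroup G) : Set G) :=
        hTP.trans (le_normalizer_inf_of_le Subgroup.le_normalizer Subgroup.le_normalizer_of_normal)
      rw [← SetLike.mem_coe, Subgroup.coe_mul_of_left_le_normalizer_right T _ hTn, Set.mem_mul] at hz
      obtain ⟨t, ht, s, hs, rfl⟩ := hz
      have hsN : s ∈ Subgroup.normalizer (T : Set G) := by
        rw [show s = t⁻¹ * (t * s) by rw [inv_mul_cancel_left]]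
        exact mul_mem (inv_mem (Subgroup.le_normalizer ht)) hzN'
      exact hzT (mul_mem ht (hUT ⟨hs, hsN⟩))
    have hKS : K' ≤ Subgroup.centralizer (((P : Subgroup G) ⊓ E : Subgroup G) : Set G) :=
      hK'C.trans (Subgroup.centralizer_le hST)
    have hKQ : K' ≤ Subgroup.centralizer (pCore 2 G : Set G) := by
      haveI hQn : ((pCore 2 G ⊓ C).subgroupOf C).Normal := Subgroup.normal_subgroupOf_of_le_normalizer
        (le_normalizer_inf_of_le Subgroup.le_normalizer_of_normal Subgroup.le_normalizer)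
      have hQp : IsPGroup 2 ↥((pCore 2 G ⊓ C).subgroupOf C) :=
        ((Fitting.pCore_isPGroup 2).to_le inf_le_left).comap_of_injective C.subtype C.subtype_injective
      haveI : (((pCore 2 G ⊓ C).subgroupOf C).map π).Normal :=
        hQn.map π (QuotientGroup.mk'_surjective _)
      haveI : Group.IsNilpotent ↥(((pCore 2 G ⊓ C).subgroupOf C).map π) := (hQp.map π).isNilpotent
      have h2 := commutator_eq_bot_of_isSolvable hK.2.1
        (H := ((pCore 2 G ⊓ C).subgroupOf C).map π) inferInstance Subgroup.le_normalizer_of_normal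
      rw [← Subgroup.map_commutator, Subgroup.map_eq_bot_iff, QuotientGroup.ker_mk'] at h2
      have h3 : ⁅K', pCore 2 G ⊓ C⁆ = ⊥ := by
        rw [hK', ← Subgroup.map_subgroupOf_eq_of_le (inf_le_right : pCore 2 G ⊓ C ≤ C),
          ← Subgroup.map_commutator]
        refine (Subgroup.map_eq_bot_iff_of_injective _ C.subtype_injective).mpr (eq_bot_iff.mpr ?_)
        intro z hz
        exact Subgroup.mem_bot.mpr (PSolvable.eq_one_of_mem_of_mem hQp (Transfer.pPrimeCore_coprime 2)
          (Subgroup.commutator_le_right K _ hz) (h2 hz))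
      rw [Subgroup.commutator_eq_bot_iff_le_centralizer] at h3
      refine PLocal.le_of_coprime_elements (p := 2) hperf fun x hx hxp => ?_
      exact PLocal.le_centralizer_pCore (R := Subgroup.zpowers x) hT (by rwa [Nat.card_zpowers])
        (Subgroup.zpowers_le.mpr (hK'C hx)) (Subgroup.zpowers_le.mpr (h3 hx)) (Subgroup.mem_zpowers x)
    refine ne_bot_of_isComponent hK.2.1 ?_
    have h4 := eq_bot_of_centralizes_sylow_layer hO P hperf (closure_pElements hK) hKQ hKS
    rw [hK', Subgroup.map_eq_bot_iff_of_injective _ C.subtype_injective] at h4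
    rw [h4, Subgroup.map_bot]
  -- pass to `T₁ = T U`
  set T₁ := T ⊔ U with hT₁
  have hUp : IsPGroup 2 U := P.2.to_le (inf_le_left.trans inf_le_left)
  have hT₁p : IsPGroup 2 T₁ := P.2.to_le (sup_le hTP (inf_le_left.trans inf_le_left))
  have hcard : Nat.card G - Nat.card T₁ < m := by
    have hlt : Nat.card T < Nat.card T₁ := lt_of_not_ge fun hle =>
      hUT (le_sup_right.trans (Subgroup.eq_of_le_of_card_ge le_sup_left hle).ge)
    have := Subgroup.card_le_card_group T₁
    omega
  have ih := IH _ hcard hT₁p rfl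
  set C₁ := Subgroup.centralizer (T₁ : Set G) with hC₁
  have hC₁C : C₁ ≤ C := Subgroup.centralizer_le (le_sup_left : T ≤ T ⊔ U)
  haveI := Transfer.pPrimeCore_normal 2 ↥C₁
  set π₁ := QuotientGroup.mk' (pPrimeCore 2 ↥C₁) with hπ₁
  set Y : Subgroup ↥C₁ := ((K.map π).comap π).comap (Subgroup.inclusion hC₁C) with hY
  -- every element of `K` is congruent to one centralising `U`
  have hlift : ∀ k ∈ K, ∃ y ∈ Y, π (Subgroup.inclusion hC₁C y) = π k := by
    intro k hk
    have hkW : (k : G) ∈ W := hCW k.2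
    have hfk : f ⟨k, hkW⟩ ∈ Subgroup.centralizer
        (((U.subgroupOf W).map f : Subgroup _) : Set (↥W ⧸ R.subgroupOf W)) := by
      refine Subgroup.mem_centralizer_iff.mpr ?_
      rintro _ ⟨u, hu, rfl⟩
      rw [← map_mul, ← map_mul, hf, QuotientGroup.mk'_apply, QuotientGroup.mk'_apply, QuotientGroup.eq]
      refine Subgroup.mem_subgroupOf.mpr ?_
      show ((u : G) * (k : G))⁻¹ * ((k : G) * u) ∈ R
      have h4 := hKU (Subgroup.commutator_mem_commutator (inv_mem (Subgroup.mem_map_of_mem C.subtype hk))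
        (inv_mem (Subgroup.mem_subgroupOf.mp hu)))
      rw [commutatorElement_def] at h4
      simpa [mul_assoc] using h4
    obtain ⟨n, hn, hne⟩ := PSolvable.exists_mem_centralizer_of_map (f := f)
      (by
        rw [hf, QuotientGroup.ker_mk', Nat.card_congr (Subgroup.subgroupOfEquivOfLe (hRC.trans hCW)).toEquiv]
        exact hRc)
      (hUp.comap_of_injective W.subtype W.subtype_injective : IsPGroup 2 ↥(U.subgroupOf W)) hfk
    have hnk : (n : G)⁻¹ * k ∈ R := Subgroup.mem_subgroupOf.mp (QuotientGroup.eq.mp hne)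
    have hnC : (n : G) ∈ C := by
      rw [show (n : G) = k * ((n : G)⁻¹ * k)⁻¹ by group]
      exact mul_mem k.2 (inv_mem (hRC hnk))
    have hnC₁ : (n : G) ∈ C₁ := by
      refine (Subgroup.le_centralizer_iff (H := Subgroup.zpowers (n : G))).mpr (sup_le ?_ ?_)
        (Subgroup.mem_zpowers _)
      · rw [Subgroup.le_centralizer_iff, Subgroup.zpowers_le]; exact hnC
      · rw [Subgroup.le_centralizer_iff, Subgroup.zpowers_le]
        exact Subgroup.mem_centralizer_iff.mpr fun u hu => congrArg Subtype.val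
          (Subgroup.mem_centralizer_iff.mp hn ⟨u, hUW hu⟩ hu)
    have he : π (Subgroup.inclusion hC₁C ⟨n, hnC₁⟩) = π k := by
      rw [hπ, QuotientGroup.mk'_apply, QuotientGroup.mk'_apply, QuotientGroup.eq]
      obtain ⟨r, hr, hre⟩ := hnk
      have : r = (Subgroup.inclusion hC₁C ⟨n, hnC₁⟩)⁻¹ * k := Subtype.ext hre
      exact this ▸ hr
    refine ⟨⟨n, hnC₁⟩, ?_, he⟩
    show π (Subgroup.inclusion hC₁C ⟨n, hnC₁⟩) ∈ K.map π
    rw [he]
    exact ⟨k, hk, rfl⟩
  let η : ↥Y →* ↥(K.map π) :=
    ((π.comp (Subgroup.inclusion hC₁C)).comp Y.subtype).codRestrict _ fun y => y.2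
  have hη : Function.Surjective η := by
    rintro ⟨_, k, hk, rfl⟩
    obtain ⟨y, hy, he⟩ := hlift k hk
    exact ⟨⟨y, hy⟩, Subtype.ext he⟩
  have hηker : ∀ y : ↥Y, η y = 1 → π₁ (y : ↥C₁) = 1 := by
    intro y hy
    refine (QuotientGroup.eq_one_iff _).mpr (Transfer.le_pPrimeCore
      (N := (pPrimeCore 2 ↥C).comap (Subgroup.inclusion hC₁C)) inferInstance ?_
      ((QuotientGroup.eq_one_iff (Subgroup.inclusion hC₁C (y : ↥C₁))).mp (congrArg Subtype.val hy)))
    refine (Transfer.pPrimeCore_coprime (G := ↥C) 2).coprime_dvd_left ?_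
    rw [← Subgroup.card_map_of_injective (f := Subgroup.inclusion hC₁C)
      (Subgroup.inclusion_injective hC₁C)]
    exact Subgroup.card_dvd_of_le (Subgroup.map_comap_le _ _)
  have hker : η.ker ≤ (π₁.subgroupMap Y).ker := fun y hy =>
    Subtype.ext (hηker y hy)
  let ξ : ↥(K.map π) →* ↥(Y.map π₁) := η.liftOfSurjective hη ⟨π₁.subgroupMap Y, hker⟩
  have hξ : ∀ y, ξ (η y) = π₁.subgroupMap Y y := fun y =>
    η.liftOfRightInverse_comp_apply _ (Function.rightInverse_surjInv hη) ⟨π₁.subgroupMap Y, hker⟩ y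
  have hξs : Function.Surjective ξ := fun z => by
    obtain ⟨y, rfl⟩ := π₁.subgroupMap_surjective Y z
    exact ⟨η y, hξ y⟩
  have hYne : Y.map π₁ ≠ ⊥ := by
    intro h0
    rw [Subgroup.map_eq_bot_iff, QuotientGroup.ker_mk'] at h0
    have hYc : (Nat.card ↥Y).Coprime 2 :=
      (Transfer.pPrimeCore_coprime (G := ↥C₁) 2).coprime_dvd_left (Subgroup.card_dvd_of_le h0)
    exact absurd (hYc.coprime_dvd_left (Subgroup.card_dvd_of_surjective η hη))
      (fun hc => (Nat.Prime.coprime_iff_not_dvd Nat.prime_two).mp hc.symm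
        (dvd_card_of_isComponent (pPrimeCore_quotient_eq_bot 2) hK.2.1))
  have hYsub : Y.IsSubnormal := ((hK.2.1.1.comap π).comap _)
  have hcomp : IsComponent (Y.map π₁) := by
    haveI : Nontrivial ↥(Y.map π₁) := (Subgroup.nontrivial_iff_ne_bot _).mpr hYne
    exact ⟨hYsub.map (QuotientGroup.mk'_surjective _), isQuasisimple_of_surjective hξs hK.2.1.2⟩
  set K₁ := pComponentOf 2 (Y.map π₁) with hK₁
  have hK₁c : IsPComponent 2 K₁ := isPComponent_pComponentOf hcomp
  have hK₁Y : K₁ ≤ Y := pComponentOf_le hYsub rfl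
  have hK₁E : K₁.map C₁.subtype ≤ E :=
    (Subgroup.map_mono (le_sSup (s := {K | IsPComponent 2 K}) hK₁c)).trans ih
  set Z := K₁.map (π.comp (Subgroup.inclusion hC₁C)) with hZ
  have hZK : Z ≤ K.map π := by
    rintro _ ⟨y, hy, rfl⟩
    exact hK₁Y hy
  have hZE : Z ≤ ((E ⊓ C).subgroupOf C).map π := by
    rintro _ ⟨y, hy, rfl⟩
    exact ⟨Subgroup.inclusion hC₁C y,
      Subgroup.mem_subgroupOf.mpr ⟨hK₁E ⟨y, hy, rfl⟩, hC₁C y.2⟩, rfl⟩
  have hcb : ⁅K.map π, ((E ⊓ C).subgroupOf C).map π⁆ = ⊥ := by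
    rw [← Subgroup.map_commutator, Subgroup.map_eq_bot_iff, QuotientGroup.ker_mk']
    exact h
  have hZ1 : Z = ⊥ := by
    have h5 : ⁅Z, Z⁆ = Z := by
      rw [hZ, ← Subgroup.map_commutator, commutator_eq_self_of_isPComponent hK₁c]
    rw [← h5]
    exact le_bot_iff.mp ((Subgroup.commutator_mono hZK hZE).trans hcb.le)
  refine ne_bot_of_isComponent hcomp ?_
  rw [← map_pComponentOf hcomp]
  refine eq_bot_iff.mpr ?_
  rintro _ ⟨y, hy, rfl⟩
  refine Subgroup.mem_bot.mpr (hηker ⟨y, hK₁Y hy⟩ (Subtype.ext ?_))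
  have h6 : π (Subgroup.inclusion hC₁C y) ∈ Z := ⟨y, hy, rfl⟩
  rw [hZ1, Subgroup.mem_bot] at h6
  exact h6

/-- `L`-balance for `p = 2`. -/
theorem pLayer_centralizer_le {T : Subgroup G} (hT : IsPGroup 2 T) :
    (pLayer 2 ↥(Subgroup.centralizer (T : Set G))).map (Subgroup.centralizer (T : Set G)).subtype ≤
      pLayer 2 G := by
  haveI : Fact (Nat.Prime 2) := ⟨Nat.prime_two⟩
  haveI := Transfer.pPrimeCore_normal 2 G
  refine pLayer_le_of_quotient ?_
  rw [PSolvable.map_centralizer_eq (QuotientGroup.mk'_surjective _)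
    (by rw [QuotientGroup.ker_mk']; exact Transfer.pPrimeCore_coprime 2) hT]
  exact pLayer_centralizer_le_layer (pPrimeCore_quotient_eq_bot 2) (hT.map _)

end CfsgLib.Layer.LBalance
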