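import Mathlib
import Cfsg.Prelude.Def_ClassificationStages
import Cfsg.Agent.Lib.Layer.LBalance

/-!
# Lifting `p`-components to subgroups of centralizers

For an element `a`, a component `W` of `C(a) / O_{p'}(C(a))` and a subgroup `H ≤ C(a)` whose image
contains `W`, the subgroup generated by the `p`-elements of `H` lying over `W` is a `p`-component
of `H` mapping onto `W`.
-/

set_option autoImplicit false
set_option linter.style.haveILetI false
set_option linter.unusedSectionVars false

namespace CfsgLib.Layer.Lift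

open Cfsg
open CfsgLib.Coprime

variable {G : Type*} [Group G] {p : ℕ}

/-- The reduction map of the centralizer of `a` modulo its `p'`-core. -/
abbrev proj (p : ℕ) (a : G) :
    ↥(Subgroup.centralizer ({a} : Set G)) →*
      ↥(Subgroup.centralizer ({a} : Set G)) ⧸ pPrimeCore p ↥(Subgroup.centralizer ({a} : Set G)) :=
  QuotientGroup.mk' _

/-- The image of `A ∩ C(a)` modulo the `p'`-core of `C(a)`. -/
def img (p : ℕ) (a : G) (A : Subgroup G) :
    Subgroup (↥(Subgroup.centralizer ({a} : Set G)) ⧸
      pPrimeCore p ↥(Subgroup.centralizer ({a} : Set G))) :=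
  (A.subgroupOf (Subgroup.centralizer ({a} : Set G))).map (proj p a)

/-- The full preimage in `G`. -/
def pre (p : ℕ) (a : G) (W : Subgroup (↥(Subgroup.centralizer ({a} : Set G)) ⧸
    pPrimeCore p ↥(Subgroup.centralizer ({a} : Set G)))) : Subgroup G :=
  (W.comap (proj p a)).map (Subgroup.centralizer ({a} : Set G)).subtype

/-- The lift of `W` to `H`. -/
def lift (p : ℕ) (a : G) (W : Subgroup (↥(Subgroup.centralizer ({a} : Set G)) ⧸
    pPrimeCore p ↥(Subgroup.centralizer ({a} : Set G)))) (H : Subgroup G) : Subgroup G :=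
  pGen p (pre p a W ⊓ H)

theorem map_pGen {H : Type*} [Group H] {f : G →* H} (hf : Function.Injective f) (Y : Subgroup G) :
    (pGen p Y).map f = pGen p (Y.map f) := by
  rw [pGen, pGen, MonoidHom.map_closure]
  congr 1
  ext z
  constructor
  · rintro ⟨x, ⟨hx, j, hj⟩, rfl⟩
    exact ⟨⟨x, hx, rfl⟩, j, by rwa [orderOf_injective f hf]⟩
  · rintro ⟨⟨x, hx, rfl⟩, j, hj⟩
    exact ⟨x, ⟨hx, j, by rwa [orderOf_injective f hf] at hj⟩, rfl⟩

theorem pGen_mono {Y Z : Subgroup G} (h : Y ≤ Z) : pGen p Y ≤ pGen p Z :=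
  Subgroup.closure_mono fun _ hx => ⟨h hx.1, hx.2⟩

variable {a : G} {W : Subgroup (↥(Subgroup.centralizer ({a} : Set G)) ⧸
    pPrimeCore p ↥(Subgroup.centralizer ({a} : Set G)))}

theorem mem_img_iff {A : Subgroup G} {z} :
    z ∈ img p a A ↔ ∃ (g : G) (hg : g ∈ Subgroup.centralizer ({a} : Set G)), g ∈ A ∧
      proj p a ⟨g, hg⟩ = z := by
  constructor
  · rintro ⟨g, hg, rfl⟩
    exact ⟨g, g.2, Subgroup.mem_subgroupOf.mp hg, rfl⟩
  · rintro ⟨g, hg, hA, rfl⟩
    exact ⟨⟨g, hg⟩, Subgroup.mem_subgroupOf.mpr hA, rfl⟩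

theorem proj_mem_img {A : Subgroup G} {g : G} (hg : g ∈ Subgroup.centralizer ({a} : Set G))
    (hA : g ∈ A) : proj p a ⟨g, hg⟩ ∈ img p a A :=
  mem_img_iff.mpr ⟨g, hg, hA, rfl⟩

theorem img_mono {A B : Subgroup G} (h : A ≤ B) : img p a A ≤ img p a B :=
  Subgroup.map_mono (Subgroup.comap_mono h)

theorem mem_pre_iff {g : G} :
    g ∈ pre p a W ↔ ∃ hg : g ∈ Subgroup.centralizer ({a} : Set G), proj p a ⟨g, hg⟩ ∈ W := by
  constructor
  · rintro ⟨g, hg, rfl⟩
    exact ⟨g.2, hg⟩
  · rintro ⟨hg, h⟩
    exact ⟨⟨g, hg⟩, h, rfl⟩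

theorem pre_le : pre p a W ≤ Subgroup.centralizer ({a} : Set G) := Subgroup.map_subtype_le _

theorem lift_le_pre {H : Subgroup G} : lift p a W H ≤ pre p a W :=
  (pGen_le _).trans inf_le_left

theorem lift_le {H : Subgroup G} : lift p a W H ≤ H :=
  (pGen_le _).trans inf_le_right

theorem lift_mono {H H' : Subgroup G} (h : H ≤ H') : lift p a W H ≤ lift p a W H' :=
  pGen_mono (inf_le_inf_left _ h)

theorem mem_lift {H : Subgroup G} {g : G} {j : ℕ} (hp : g ∈ pre p a W) (hH : g ∈ H)
    (hj : orderOf g ∣ p ^ j) : g ∈ lift p a W H :=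
  mem_pGen ⟨hp, hH⟩ hj

/-- A subgroup generated by `p`-elements lying over `W` is inside the lift. -/
theorem le_lift {H Y : Subgroup G} (hY : pGen p Y = Y) (h1 : Y ≤ pre p a W) (h2 : Y ≤ H) :
    Y ≤ lift p a W H := by
  rw [← hY]
  exact pGen_mono (le_inf h1 h2)

theorem pGen_pGen (Y : Subgroup G) : pGen p (pGen p Y) = pGen p Y :=
  le_antisymm (pGen_le _) ((Subgroup.closure_le _).mpr fun _ ⟨hx, j, hj⟩ =>
    mem_pGen (mem_pGen hx hj) hj)

theorem pGen_lift {H : Subgroup G} : pGen p (lift p a W H) = lift p a W H := pGen_pGen _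

variable [Finite G] [hp : Fact p.Prime]

theorem img_pre : img p a (pre p a W) = W := by
  refine le_antisymm ?_ ?_
  · intro z hz
    obtain ⟨g, hg, hA, rfl⟩ := mem_img_iff.mp hz
    obtain ⟨_, h⟩ := mem_pre_iff.mp hA
    exact h
  · intro z hz
    obtain ⟨⟨g, hg⟩, rfl⟩ := QuotientGroup.mk'_surjective _ z
    exact proj_mem_img hg (mem_pre_iff.mpr ⟨hg, hz⟩)

theorem pPrimeCore_component_eq_bot {X : Type*} [Group X] [Finite X] (hO : pPrimeCore p X = ⊥)
    {K : Subgroup X} (hK : K.IsSubnormal) : pPrimeCore p ↥K = ⊥ := by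
  refine (Subgroup.map_eq_bot_iff_of_injective _ K.subtype_injective).mp ?_
  rw [map_pPrimeCore_of_isSubnormal hK, hO, bot_inf_eq]

/-- The lift maps onto `W`. -/
theorem img_lift (hW : IsComponent W) {H : Subgroup G} (hHW : W ≤ img p a H) :
    img p a (lift p a W H) = W := by
  refine le_antisymm ((img_mono lift_le_pre).trans img_pre.le) ?_
  set Y := (pre p a W ⊓ H).subgroupOf (Subgroup.centralizer ({a} : Set G)) with hY
  have hYW : Y.map (proj p a) = W := by
    refine le_antisymm ((img_mono inf_le_left).trans img_pre.le) fun z hz => ?_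
    obtain ⟨g, hg, hA, rfl⟩ := mem_img_iff.mp (hHW hz)
    exact proj_mem_img hg ⟨mem_pre_iff.mpr ⟨hg, hz⟩, hA⟩
  have hL : img p a (lift p a W H) = (pGen p Y).map (proj p a) := by
    rw [img, lift]
    congr 1
    apply Subgroup.map_injective (Subgroup.subtype_injective _)
    rw [map_pGen (Subgroup.subtype_injective _), hY,
      Subgroup.map_subgroupOf_eq_of_le (inf_le_left.trans pre_le),
      Subgroup.map_subgroupOf_eq_of_le ((pGen_le _).trans (inf_le_left.trans pre_le))]
  rw [hL]
  have hle : (pGen p Y).map (proj p a) ≤ W := (Subgroup.map_mono (pGen_le Y)).trans hYW.le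
  haveI hN : (((pGen p Y).map (proj p a)).subgroupOf W).Normal := by
    refine (Subgroup.normal_subgroupOf_iff_le_normalizer hle).mpr ?_
    conv_lhs => rw [← hYW]
    exact (Subgroup.map_mono (Subgroup.le_normalizer.trans (normalizer_le_normalizer_pGen Y))).trans
      (Subgroup.le_normalizer_map _)
  refine Subgroup.subgroupOf_eq_top.mp
    (eq_top_of_coprime_index (p := p) (pPrimeCore_quotient_eq_bot p) hW _ ?_)
  refine (coprime_relIndex_pGen (p := p) Y).coprime_dvd_left ?_
  have h2 : ((pGen p Y).map (proj p a)).relIndex W ∣ (pGen p Y).relIndex Y := by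
    conv_lhs => rw [← hYW]
    refine dvd_trans (Subgroup.index_dvd_of_le (H := ((pGen p Y).subgroupOf Y).map
      ((proj p a).subgroupMap Y)) ?_)
      (Subgroup.index_map_dvd _ ((proj p a).subgroupMap_surjective Y))
    rintro _ ⟨y, hy, rfl⟩
    exact ⟨y, hy, rfl⟩
  exact h2

/-- The lift is a `p`-component. -/
theorem isPComponentOf_lift (hW : IsComponent W) {H : Subgroup G}
    (hH : H ≤ Subgroup.centralizer ({a} : Set G)) (hHW : W ≤ img p a H) :
    IsPComponentOf p (lift p a W H) H := by
  refine ⟨lift_le, ?_⟩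
  let ι : ↥H →* ↥(Subgroup.centralizer ({a} : Set G)) := Subgroup.inclusion hH
  set f := (proj p a).comp ι with hf
  set Y := W.comap f with hY
  set q := QuotientGroup.mk' (pPrimeCore p ↥H) with hq
  have hYs : Y.IsSubnormal := hW.1.comap f
  have hcop : (Nat.card f.ker).Coprime p := by
    refine (Transfer.pPrimeCore_coprime (G := ↥(Subgroup.centralizer ({a} : Set G))) p).coprime_dvd_left ?_
    rw [hf, ← MonoidHom.comap_ker, QuotientGroup.ker_mk',
      ← Subgroup.card_map_of_injective (f := ι) (Subgroup.inclusion_injective hH)]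
    exact Subgroup.card_dvd_of_le (Subgroup.map_comap_le _ _)
  have hkO : f.ker ≤ pPrimeCore p ↥H := Transfer.le_pPrimeCore inferInstance hcop
  have hmap : Y.map f = W := by
    refine le_antisymm (Subgroup.map_comap_le _ _) fun z hz => ?_
    obtain ⟨g, hg, hA, rfl⟩ := mem_img_iff.mp (hHW hz)
    exact ⟨⟨g, hA⟩, hz, rfl⟩
  have hOY : pPrimeCore p ↥H ⊓ Y ≤ f.ker := by
    intro y hy
    have h1 : (pPrimeCore p ↥H ⊓ Y).map f ≤ pPrimeCore p
        (↥(Subgroup.centralizer ({a} : Set G)) ⧸ pPrimeCore p ↥(Subgroup.centralizer ({a} : Set G))) := by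
      refine le_pPrimeCore_of_isSubnormal ?_
        ((Transfer.pPrimeCore_coprime (G := ↥H) p).coprime_dvd_left
          ((Subgroup.card_map_dvd _ f).trans (Subgroup.card_dvd_of_le inf_le_left)))
      have h2 : ((pPrimeCore p ↥H ⊓ Y).map f).subgroupOf W |>.Normal := by
        refine (Subgroup.normal_subgroupOf_iff_le_normalizer
          ((Subgroup.map_mono inf_le_right).trans hmap.le)).mpr ?_
        conv_lhs => rw [← hmap]
        exact (Subgroup.map_mono (le_normalizer_inf_of_le Subgroup.le_normalizer_of_normal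
          Subgroup.le_normalizer)).trans (Subgroup.le_normalizer_map f)
      exact Subgroup.IsSubnormal.step _ W ((Subgroup.map_mono inf_le_right).trans hmap.le) hW.1 h2
    rw [pPrimeCore_quotient_eq_bot, le_bot_iff, Subgroup.map_eq_bot_iff] at h1
    exact h1 hy
  have hcompY : IsComponent (Y.map q) := by
    refine ⟨hYs.map (QuotientGroup.mk'_surjective _), ?_⟩
    have hk : (q.subgroupMap Y).ker = (f.subgroupMap Y).ker := by
      rw [Subgroup.ker_subgroupMap, Subgroup.ker_subgroupMap, hq, QuotientGroup.ker_mk']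
      ext y
      exact ⟨fun hy => hOY ⟨hy, y.2⟩, fun hy => hkO hy⟩
    refine (isQuasisimple_congr
      ((QuotientGroup.quotientKerEquivOfSurjective _ (q.subgroupMap_surjective Y)).symm.trans
        ((QuotientGroup.quotientMulEquivOfEq hk).trans
          (QuotientGroup.quotientKerEquivOfSurjective _ (f.subgroupMap_surjective Y))))).mpr ?_
    exact hmap ▸ hW.2
  have hgen : pGen p ((Y.map q).comap q) = pGen p Y := by
    refine le_antisymm ?_ (pGen_mono (Subgroup.le_comap_map q Y))
    have h1 : pGen p ((Y.map q).comap q) ≤ Y := by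
      refine pGen_le_of_isSubnormal hYs (Subgroup.le_comap_map q Y) ?_
      rw [Subgroup.comap_map_eq, hq, QuotientGroup.ker_mk']
      refine (Transfer.pPrimeCore_coprime (G := ↥H) p).coprime_dvd_left (Dvd.intro
        (Nat.card ↥(pPrimeCore p ↥H ⊓ Y)) (Nat.eq_of_mul_eq_mul_right (Nat.card_pos (α := ↥Y)) ?_))
      have e1 := Coprime.card_sup_mul_card_inf (K := pPrimeCore p ↥H) (S := Y)
        Subgroup.le_normalizer_of_normal
      have e2 := Coprime.relIndex_mul_card_inf Y (Y ⊔ pPrimeCore p ↥H)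
      rw [inf_eq_left.mpr (le_sup_left : Y ≤ Y ⊔ pPrimeCore p ↥H)] at e2
      rw [sup_comm (pPrimeCore p ↥H), ← e2] at e1
      rw [mul_right_comm]
      exact e1
    exact (pGen_pGen _).ge.trans (pGen_mono h1)
  have hpre : (pre p a W ⊓ H).subgroupOf H = Y := by
    ext y
    rw [Subgroup.mem_subgroupOf, Subgroup.mem_inf, and_iff_left y.2, mem_pre_iff, hY, Subgroup.mem_comap]
    exact ⟨fun ⟨_, h⟩ => h, fun h => ⟨hH y.2, h⟩⟩
  have heq : (lift p a W H).subgroupOf H = pComponentOf p (Y.map q) := by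
    refine Eq.trans ?_ (hgen.symm.trans ?_)
    · apply Subgroup.map_injective H.subtype_injective
      rw [map_pGen H.subtype_injective, ← hpre,
        Subgroup.map_subgroupOf_eq_of_le inf_le_right, Subgroup.map_subgroupOf_eq_of_le lift_le, lift]
    · rfl
  rw [heq]
  exact isPComponent_pComponentOf hcompY

/-- The `p`-component over `W`. -/
theorem map_pComponentOf_eq :
    (pComponentOf p W).map (Subgroup.centralizer ({a} : Set G)).subtype = pGen p (pre p a W) := by
  rw [pComponentOf, map_pGen (Subgroup.subtype_injective _)]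
  rfl

theorem isPComponentOf_pGen_pre (hW : IsComponent W) :
    IsPComponentOf p (pGen p (pre p a W)) (Subgroup.centralizer ({a} : Set G)) := by
  refine ⟨(pGen_le _).trans pre_le, ?_⟩
  rw [← map_pComponentOf_eq, Subgroup.subgroupOf,
    Subgroup.comap_map_eq_self_of_injective (Subgroup.subtype_injective _)]
  exact isPComponent_pComponentOf hW

theorem exists_eq_pGen_pre {K : Subgroup G}
    (hK : IsPComponentOf p K (Subgroup.centralizer ({a} : Set G))) :
    IsComponent (img p a K) ∧ K = pGen p (pre p a (img p a K)) := by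
  refine ⟨hK.2.2.1, ?_⟩
  rw [← map_pComponentOf_eq]
  have h := congrArg (Subgroup.map (Subgroup.centralizer ({a} : Set G)).subtype) (eq_pComponentOf hK.2)
  rwa [Subgroup.map_subgroupOf_eq_of_le hK.1] at h

/-- The `p`-layer of a subgroup over `W` is the lift. -/
theorem pLayerOf_eq (hW : IsComponent W) {Z : Subgroup G} (hZ : Z ≤ pre p a W)
    (hZW : W ≤ img p a Z) : pLayerOf p Z = lift p a W Z := by
  have hL := isPComponentOf_lift hW (hZ.trans pre_le) hZW
  refine le_antisymm ?_ ?_
  · rw [pLayerOf, pLayer, Subgroup.map_le_iff_le_comap]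
    refine sSup_le fun K hK => ?_
    rw [← Subgroup.map_le_iff_le_comap]
    refine le_lift ?_ ((Subgroup.map_subtype_le K).trans hZ) (Subgroup.map_subtype_le K)
    conv_rhs => rw [eq_pComponentOf hK, pComponentOf, map_pGen Z.subtype_injective]
    conv_lhs => rw [eq_pComponentOf hK, pComponentOf, map_pGen Z.subtype_injective]
    exact pGen_pGen _
  · conv_lhs => rw [← Subgroup.map_subgroupOf_eq_of_le hL.1]
    exact Subgroup.map_mono (le_sSup hL.2)

/-- Centralizers of `p`-groups centralising `W` map onto a subgroup containing `W`. -/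
theorem le_img_centralizer {P : Subgroup G} (hP : IsPGroup p P)
    (hPa : P ≤ Subgroup.centralizer ({a} : Set G))
    (hPW : img p a P ≤ Subgroup.centralizer (W : Set _)) :
    W ≤ img p a (Subgroup.centralizer ({a} : Set G) ⊓ Subgroup.centralizer (P : Set G)) := by
  intro z hz
  obtain ⟨g, rfl⟩ := QuotientGroup.mk'_surjective _ z
  obtain ⟨n, hn, he⟩ := PSolvable.exists_mem_centralizer_of_map (f := proj p a)
    (by rw [QuotientGroup.ker_mk']; exact Transfer.pPrimeCore_coprime p)
    (hP.comap_of_injective _ (Subgroup.subtype_injective _) :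
      IsPGroup p ↥(P.subgroupOf (Subgroup.centralizer ({a} : Set G))))
    (x := g) (Subgroup.mem_centralizer_iff.mpr fun u hu =>
      (Subgroup.mem_centralizer_iff.mp (hPW hu) _ hz).symm)
  refine mem_img_iff.mpr ⟨n, n.2, ⟨n.2, Subgroup.mem_centralizer_iff.mpr fun u hu => ?_⟩, he⟩
  exact congrArg Subtype.val (Subgroup.mem_centralizer_iff.mp hn ⟨u, hPa hu⟩ hu)

theorem centralizer_zpowers (y : G) :
    Subgroup.centralizer ((Subgroup.zpowers y : Subgroup G) : Set G)
      = Subgroup.centralizer ({y} : Set G) := by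
  rw [Subgroup.zpowers_eq_closure, Subgroup.centralizer_closure]

theorem img_zpowers_le {y : G} (hy : y ∈ Subgroup.centralizer ({a} : Set G))
    {S : Subgroup (↥(Subgroup.centralizer ({a} : Set G)) ⧸
      pPrimeCore p ↥(Subgroup.centralizer ({a} : Set G)))} (h : proj p a ⟨y, hy⟩ ∈ S) :
    img p a (Subgroup.zpowers y) ≤ S := by
  intro z hz
  obtain ⟨g, hg, hA, rfl⟩ := mem_img_iff.mp hz
  obtain ⟨n, rfl⟩ := hA
  exact (map_zpow (proj p a) (⟨y, hy⟩ : ↥(Subgroup.centralizer ({a} : Set G))) n) ▸ zpow_mem h n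

/-- Distinct `p`-components commute modulo the `p'`-core. -/
theorem commutator_le_core {X : Type*} [Group X] [Finite X] {K L : Subgroup X}
    (hK : IsPComponent p K) (hL : IsPComponent p L) (h : K ≠ L) :
    ⁅K, L⁆ ≤ pPrimeCore p X := by
  rw [← QuotientGroup.ker_mk' (pPrimeCore p X), ← Subgroup.map_eq_bot_iff, Subgroup.map_commutator]
  refine commutator_eq_bot_of_ne hK.2.1 hL.2.1 fun he => h ?_
  rw [eq_pComponentOf hK, he, ← eq_pComponentOf hL]

/-- `p`-components of a subnormal subgroup. -/
theorem isPComponent_map {N X : Type*} [Group N] [Finite N] [Group X] [Finite X] (f : N →* X)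
    (hf : Function.Injective f) (hs : f.range.IsSubnormal) {K : Subgroup N}
    (hK : IsPComponent p K) : IsPComponent p (K.map f) := by
  set e := MonoidHom.ofInjective hf
  have hsub : (K.map f).IsSubnormal := by
    have h1 : ((K.map f).subgroupOf f.range).IsSubnormal := by
      have h2 : (K.map f).subgroupOf f.range = K.map e.toMonoidHom := by
        ext z
        constructor
        · rintro ⟨k, hk, hz⟩
          exact ⟨k, hk, Subtype.ext hz⟩
        · rintro ⟨k, hk, rfl⟩
          exact ⟨k, hk, rfl⟩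
      rw [h2]
      exact hK.1.map e.surjective
    have h3 := h1.trans' hs
    rwa [Subgroup.map_subgroupOf_eq_of_le (Subgroup.map_le_range f K)] at h3
  have hcore : ∀ n, f n ∈ pPrimeCore p X ↔ n ∈ pPrimeCore p N := by
    intro n
    refine ⟨fun hn => Transfer.le_pPrimeCore (N := (pPrimeCore p X).comap f) inferInstance ?_ hn,
      fun hn => le_pPrimeCore_of_isSubnormal (S := (pPrimeCore p N).map f) ?_ ?_ ⟨n, hn, rfl⟩⟩
    · refine (Transfer.pPrimeCore_coprime (G := X) p).coprime_dvd_left ?_
      rw [← Subgroup.card_map_of_injective (f := f) hf]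
      exact Subgroup.card_dvd_of_le (Subgroup.map_comap_le _ _)
    · have h1 : ((pPrimeCore p N).map e.toMonoidHom).IsSubnormal :=
        (inferInstance : (pPrimeCore p N).Normal).isSubnormal.map e.surjective
      have h3 := h1.trans' hs
      rw [Subgroup.map_map] at h3
      exact h3
    · rw [Subgroup.card_map_of_injective hf]
      exact Transfer.pPrimeCore_coprime p
  set g := (QuotientGroup.mk' (pPrimeCore p X)).comp f with hg
  have hker : g.ker = pPrimeCore p N := by
    ext n
    rw [hg, MonoidHom.mem_ker, MonoidHom.comp_apply, QuotientGroup.mk'_apply,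
      QuotientGroup.eq_one_iff, hcore]
  refine ⟨hsub, ⟨hsub.map (QuotientGroup.mk'_surjective _), ?_⟩, fun H hH hle he => ?_⟩
  · rw [Subgroup.map_map]
    refine (isQuasisimple_congr ?_).mp hK.2.1.2
    exact (QuotientGroup.quotientKerEquivOfSurjective _
      ((QuotientGroup.mk' (pPrimeCore p N)).subgroupMap_surjective K)).symm.trans
      ((QuotientGroup.quotientMulEquivOfEq (by
        rw [Subgroup.ker_subgroupMap, Subgroup.ker_subgroupMap, QuotientGroup.ker_mk', hker])).trans
        (QuotientGroup.quotientKerEquivOfSurjective _ (g.subgroupMap_surjective K)))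
  · have hHr : H ≤ f.range := hle.trans (Subgroup.map_le_range f K)
    have h1 := hK.2.2 (H.comap f) (hH.comap f)
      ((Subgroup.comap_mono hle).trans (Subgroup.comap_map_eq_self_of_injective hf K).le) ?_
    · rw [← h1, Subgroup.map_comap_eq, inf_eq_right.mpr hHr]
    · refine le_antisymm (Subgroup.map_mono
        ((Subgroup.comap_mono hle).trans (Subgroup.comap_map_eq_self_of_injective hf K).le)) ?_
      rw [Subgroup.map_le_map_iff, QuotientGroup.ker_mk']
      intro k hk
      obtain ⟨h, hh, hhk⟩ : QuotientGroup.mk' (pPrimeCore p X) (f k) ∈ H.map (QuotientGroup.mk' _) :=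
        he ▸ ⟨f k, ⟨k, hk, rfl⟩, rfl⟩
      obtain ⟨n, rfl⟩ := hHr hh
      rw [show k = n * (n⁻¹ * k) by group]
      refine Subgroup.mul_mem_sup hh ((hcore _).mp ?_)
      rw [map_mul, map_inv]
      exact QuotientGroup.eq.mp hhk

end CfsgLib.Layer.Lift
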