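import Mathlib
import Cfsg.Prelude.Def_ClassificationStages
import Cfsg.Agent.Lib.Layer.Lift

/-!
# Pumping up a component

A quasisimple section of maximal size centralised by an element `x` of order `p` and lying in the
layer is either a component or the diagonal of an `x`-orbit of components.
-/

set_option autoImplicit false
set_option linter.style.haveILetI false
set_option linter.unusedSectionVars false

open scoped commutatorElement

namespace CfsgLib.Layer.PumpUp

open Cfsg
open CfsgLib.Coprime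

variable {p : ℕ} [hp : Fact p.Prime]

/-- The powers of an element of exponent `p`, indexed by `ZMod p`. -/
theorem pow_val_add {M : Type*} [Monoid M] {x : M} (hx : x ^ p = 1) (i j : ZMod p) :
    x ^ i.val * x ^ j.val = x ^ (i + j).val := by
  haveI := NeZero.of_pos hp.out.pos
  rw [ZMod.val_add, ← pow_add]
  exact pow_eq_pow_mod _ hx

theorem pow_val_one {M : Type*} [Monoid M] (x : M) : x ^ (1 : ZMod p).val = x := by
  rw [ZMod.val_one, pow_one]

theorem eq_top_of_coprime_index' {L : Type*} [Group L] [Finite L]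
    (hgen : Subgroup.closure {l : L | ∃ j, orderOf l ∣ p ^ j} = ⊤) (N : Subgroup L) [N.Normal]
    (hN : N.index.Coprime p) : N = ⊤ := by
  rw [eq_top_iff, ← hgen, Subgroup.closure_le]
  exact fun l ⟨j, hj⟩ =>
    mem_of_isSubnormal_of_coprime_index (inferInstance : N.Normal).isSubnormal hN hj

theorem card_quotient_center {J : Type*} [Group J] :
    Nat.card (J ⧸ Subgroup.center J) = Nat.card ↥(MulAut.conj : J →* MulAut J).range := by
  have hk : (MulAut.conj : J →* MulAut J).ker = Subgroup.center J := by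
    ext z
    rw [MonoidHom.mem_ker, Subgroup.mem_center_iff]
    constructor
    · intro h g
      have h1 : z * g * z⁻¹ = g := congrArg (fun e : MulAut J => e g) h
      exact (mul_inv_eq_iff_eq_mul.mp h1).symm
    · intro h
      refine MulEquiv.ext fun g => ?_
      show z * g * z⁻¹ = g
      rw [← h g, mul_inv_cancel_right]
  rw [← hk]
  exact Nat.card_congr (QuotientGroup.quotientKerEquivRange _).toEquiv

theorem mem_center_of_commutators {J : Type*} [Group J] [Group.IsPerfect J] {j : J}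
    (h : ∀ k, k * j * k⁻¹ * j⁻¹ ∈ Subgroup.center J) : j ∈ Subgroup.center J := by
  have h1 : Signalizer.ComponentBalance.autQuot J (MulAut.conj j) = 1 := by
    refine MulEquiv.ext fun q => ?_
    obtain ⟨k, rfl⟩ := QuotientGroup.mk'_surjective (Subgroup.center J) q
    show (QuotientGroup.mk (j * k * j⁻¹) : J ⧸ Subgroup.center J) = QuotientGroup.mk k
    rw [QuotientGroup.eq]
    have h2 : (j * k * j⁻¹)⁻¹ * k = j * (k⁻¹ * j⁻¹ * (k⁻¹)⁻¹ * (j⁻¹)⁻¹) * j⁻¹ * 1 := by group
    have h3 : k⁻¹ * j⁻¹ * (k⁻¹)⁻¹ * (j⁻¹)⁻¹ ∈ Subgroup.center J := by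
      have h4 := (Subgroup.center J).inv_mem (h k⁻¹)
      have h5 := (inferInstance : (Subgroup.center J).Normal).conj_mem _ h4 j⁻¹
      simpa [mul_assoc] using h5
    rw [h2, mul_one]
    exact (inferInstance : (Subgroup.center J).Normal).conj_mem _ h3 j
  have h2 : MulAut.conj j = 1 :=
    Signalizer.ComponentBalance.autQuot_injective (h1.trans (map_one _).symm)
  refine Subgroup.mem_center_iff.mpr fun k => ?_
  have h3 : j * k * j⁻¹ = k := congrArg (fun e : MulAut J => e k) h2
  exact (mul_inv_eq_iff_eq_mul.mp h3).symm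

variable {H : Type*} [Group H] [Finite H]

/-- The centre of a component of a group with trivial `p'`-core is a `p`-group. -/
theorem isPGroup_center (hO : pPrimeCore p H = ⊥) {J : Subgroup H} (hJ : IsComponent J) :
    IsPGroup p ↥(Subgroup.center ↥J) := by
  intro z
  obtain ⟨e, m, hm, he⟩ :=
    Nat.exists_eq_pow_mul_and_not_dvd (orderOf_pos z).ne' p hp.out.ne_one
  refine ⟨e, ?_⟩
  set w := z ^ p ^ e with hw
  have hwo : orderOf w = m := by
    rw [hw, orderOf_pow, he, Nat.gcd_eq_right (dvd_mul_right _ _),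
      Nat.mul_div_cancel_left _ (pow_pos hp.out.pos e)]
  set A := (Subgroup.zpowers (w : ↥J)).map J.subtype with hA
  haveI : (Subgroup.zpowers (w : ↥J)).Normal := by
    refine ⟨fun a ha g => ?_⟩
    have hac : a ∈ Subgroup.center ↥J := Subgroup.zpowers_le.mpr w.2 ha
    rw [Subgroup.mem_center_iff.mp hac g, mul_inv_cancel_right]
    exact ha
  have hAs : A.IsSubnormal := (inferInstance : (Subgroup.zpowers (w : ↥J)).Normal).isSubnormal.trans' hJ.1
  have h1 : A ≤ pPrimeCore p H := by
    refine le_pPrimeCore_of_isSubnormal hAs ?_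
    rw [hA, Subgroup.card_map_of_injective J.subtype_injective, Nat.card_zpowers,
      Subgroup.orderOf_coe, hwo]
    exact ((Nat.Prime.coprime_iff_not_dvd hp.out).mpr hm).symm
  rw [hO, le_bot_iff, hA, Subgroup.map_eq_bot_iff_of_injective _ J.subtype_injective,
    Subgroup.zpowers_eq_bot] at h1
  exact Subtype.ext h1

theorem exists_mul_of_mem_layer {J : Subgroup H} (hJ : IsComponent J) {e : H} (he : e ∈ layer H) :
    ∃ j ∈ J, j⁻¹ * e ∈ Subgroup.centralizer (J : Set H) := by
  have hn : Subgroup.centralizer (J : Set H) ≤ Subgroup.normalizer (J : Set H) :=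
    Subgroup.centralizer_le_normalizer _
  have h1 : layer H ≤ J ⊔ Subgroup.centralizer (J : Set H) := sSup_le fun L hL => by
    rcases eq_or_ne L J with rfl | hne
    · exact le_sup_left
    · exact le_sup_of_le_right
        (Subgroup.commutator_eq_bot_iff_le_centralizer.mp (commutator_eq_bot_of_ne hL hJ hne))
  have h2 := h1 he
  rw [← SetLike.mem_coe, Subgroup.coe_mul_of_right_le_normalizer_left J _ hn, Set.mem_mul] at h2
  obtain ⟨j, hj, c, hc, rfl⟩ := h2
  exact ⟨j, hj, by rwa [inv_mul_cancel_left]⟩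

theorem mem_normalizer_of_pow {x : H} (hx : x ^ p = 1) {J : Subgroup H} {d : ZMod p} (hd : d ≠ 0)
    (h : x ^ d.val ∈ Subgroup.normalizer (J : Set H)) : x ∈ Subgroup.normalizer (J : Set H) := by
  haveI := NeZero.of_pos hp.out.pos
  rcases (Nat.dvd_prime hp.out).mp (orderOf_dvd_of_pow_eq_one hx) with h1 | h1
  · rw [orderOf_eq_one_iff.mp h1]; exact one_mem _
  have hcop : (d.val).Coprime (orderOf x) := by
    rw [h1]
    exact ((Nat.Prime.coprime_iff_not_dvd hp.out).mpr fun hdvd =>
      hd ((ZMod.val_eq_zero d).mp (Nat.eq_zero_of_dvd_of_lt hdvd d.val_lt))).symm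
  obtain ⟨m, hm⟩ := exists_pow_eq_self_of_coprime hcop
  rw [← hm]
  exact pow_mem h m

/-- `W'` is the diagonal of the orbit of the component `J` under `x`. -/
structure Bad (p : ℕ) [Fact p.Prime] (x : H) (J W' : Subgroup H) : Prop where
  comp : IsComponent J
  notfix : x ∉ Subgroup.normalizer (J : Set H)
  pow_eq_one : x ^ p = 1
  exists_hom : ∃ Φ : (ZMod p → ↥J) →* H,
    (∀ i j, Φ (Pi.mulSingle i j) = x ^ i.val * j * (x ^ i.val)⁻¹) ∧
      Function.Injective (fun j : ↥J => Φ (Function.const _ j)) ∧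
      ∀ w, w ∈ W' ↔ ∃ j : ↥J, Φ (Function.const _ j) = w

section Orbit

variable {x : H} {J : Subgroup H} {Φ : (ZMod p → ↥J) →* H}
  (hΦ : ∀ i j, Φ (Pi.mulSingle i j) = x ^ i.val * j * (x ^ i.val)⁻¹)

include hΦ

/-- Conjugation by `x` shifts the orbit. -/
theorem conj_x (hx : x ^ p = 1) (f : ZMod p → ↥J) :
    x * Φ f * x⁻¹ = Φ (fun i => f (i - 1)) := by
  haveI := NeZero.of_pos hp.out.pos
  let σ : (ZMod p → ↥J) →* (ZMod p → ↥J) :=
    { toFun := fun f i => f (i - 1), map_one' := rfl, map_mul' := fun _ _ => rfl }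
  have h : ((MulAut.conj x).toMonoidHom.comp Φ) = Φ.comp σ := by
    refine MonoidHom.pi_ext fun i j => ?_
    have hσ : σ (Pi.mulSingle i j) = Pi.mulSingle (i + 1) j := by
      funext k
      show (Pi.mulSingle i j : ZMod p → ↥J) (k - 1) = _
      by_cases hk : k = i + 1
      · rw [hk, add_sub_cancel_right, Pi.mulSingle_eq_same, Pi.mulSingle_eq_same]
      · rw [Pi.mulSingle_eq_of_ne hk, Pi.mulSingle_eq_of_ne fun he => hk (by rw [← he, sub_add_cancel])]
    show x * Φ (Pi.mulSingle i j) * x⁻¹ = Φ (σ (Pi.mulSingle i j))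
    rw [hσ, hΦ, hΦ, ← pow_val_add hx i 1, pow_val_one]
    have hc : x ^ i.val * x = x * x ^ i.val := (Commute.pow_self x _).eq
    rw [hc]
    group
  exact DFunLike.congr_fun h f

theorem const_mem_centralizer (hx : x ^ p = 1) (j : ↥J) :
    Φ (Function.const _ j) ∈ Subgroup.centralizer ({x} : Set H) :=
  Subgroup.mem_centralizer_singleton_iff.mpr
    (mul_inv_eq_iff_eq_mul.mp (conj_x hΦ hx (Function.const _ j))).symm

/-- An element centralising all members of the orbit centralises the image of `Φ`. -/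
theorem commute_of_forall {c : H}
    (h : ∀ (i : ZMod p) (j : ↥J), Commute c (x ^ i.val * j * (x ^ i.val)⁻¹)) (f : ZMod p → ↥J) :
    Commute c (Φ f) := by
  haveI := NeZero.of_pos hp.out.pos
  have h1 : ((MulAut.conj c).toMonoidHom.comp Φ) = Φ := by
    refine MonoidHom.pi_ext fun i j => ?_
    show c * Φ (Pi.mulSingle i j) * c⁻¹ = Φ (Pi.mulSingle i j)
    rw [hΦ, (h i j).eq, mul_inv_cancel_right]
  exact mul_inv_eq_iff_eq_mul.mp (DFunLike.congr_fun h1 f)

/-- The action of `Φ f` on a member of the orbit. -/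
theorem apply_conj (f : ZMod p → ↥J) (i : ZMod p) (j : ↥J) :
    Φ f * (x ^ i.val * j * (x ^ i.val)⁻¹) * (Φ f)⁻¹
      = x ^ i.val * ((f i * j * (f i)⁻¹ : ↥J) : H) * (x ^ i.val)⁻¹ := by
  rw [← hΦ, ← hΦ, ← map_inv, ← map_mul, ← map_mul]
  congr 1
  funext k
  by_cases hk : k = i
  · subst hk
    simp
  · simp [Pi.mulSingle_eq_of_ne hk]

theorem apply_conj_zero (f : ZMod p → ↥J) (j : ↥J) :
    Φ f * (j : H) * (Φ f)⁻¹ = ((f 0 * j * (f 0)⁻¹ : ↥J) : H) := by
  have h := apply_conj hΦ f 0 j
  simpa [ZMod.val_zero] using h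

/-- Equivariance for elements commuting with `x` and normalising `J`. -/
theorem conj_const {c : H} (hcx : c ∈ Subgroup.centralizer ({x} : Set H))
    (hcJ : c ∈ Subgroup.normalizer (J : Set H)) {j j' : ↥J} (hj : c * j * c⁻¹ = (j' : H)) :
    c * Φ (Function.const _ j) * c⁻¹ = Φ (Function.const _ j') := by
  haveI := NeZero.of_pos hp.out.pos
  let α : ↥J →* ↥J := (J.normalizerMonoidHom ⟨c, hcJ⟩).toMonoidHom
  let σ : (ZMod p → ↥J) →* (ZMod p → ↥J) :=
    { toFun := fun f i => α (f i)
      map_one' := funext fun _ => map_one α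
      map_mul' := fun _ _ => funext fun _ => map_mul α _ _ }
  have h : ((MulAut.conj c).toMonoidHom.comp Φ) = Φ.comp σ := by
    refine MonoidHom.pi_ext fun i k => ?_
    have hσ : σ (Pi.mulSingle i k) = Pi.mulSingle i (α k) := by
      funext l
      show α ((Pi.mulSingle i k : ZMod p → ↥J) l) = _
      by_cases hl : l = i
      · rw [hl, Pi.mulSingle_eq_same, Pi.mulSingle_eq_same]
      · rw [Pi.mulSingle_eq_of_ne hl, Pi.mulSingle_eq_of_ne hl, map_one]
    show c * Φ (Pi.mulSingle i k) * c⁻¹ = Φ (σ (Pi.mulSingle i k))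
    rw [hσ, hΦ, hΦ]
    show c * (x ^ i.val * k * (x ^ i.val)⁻¹) * c⁻¹ = x ^ i.val * (c * k * c⁻¹) * (x ^ i.val)⁻¹
    have hc : c * x ^ i.val = x ^ i.val * c :=
      (Commute.pow_right (Subgroup.mem_centralizer_singleton_iff.mp hcx) _).eq
    have hc' : (x ^ i.val)⁻¹ * c⁻¹ = c⁻¹ * (x ^ i.val)⁻¹ := by rw [← mul_inv_rev, ← mul_inv_rev, hc]
    calc c * (x ^ i.val * k * (x ^ i.val)⁻¹) * c⁻¹
        = (c * x ^ i.val) * k * ((x ^ i.val)⁻¹ * c⁻¹) := by group
      _ = x ^ i.val * (c * k * c⁻¹) * (x ^ i.val)⁻¹ := by rw [hc, hc']; group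
  have h2 : σ (Function.const _ j) = Function.const _ j' := funext fun _ => Subtype.ext hj
  have h3 := DFunLike.congr_fun h (Function.const _ j)
  rw [MonoidHom.comp_apply, MonoidHom.comp_apply, h2] at h3
  exact h3

end Orbit

/-- The diagonal map of the orbit of a component. -/
theorem exists_orbitHom {x : H} (hx : x ^ p = 1) {J : Subgroup H} (hJ : IsComponent J)
    (hfix : x ∉ Subgroup.normalizer (J : Set H)) :
    ∃ Φ : (ZMod p → ↥J) →* H, (∀ i j, Φ (Pi.mulSingle i j) = x ^ i.val * j * (x ^ i.val)⁻¹) ∧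
      ∀ f, Φ f ∈ layer H := by
  haveI := NeZero.of_pos hp.out.pos
  let ϕ : ZMod p → (↥J →* H) := fun i => (MulAut.conj (x ^ i.val)).toMonoidHom.comp J.subtype
  have hrange : ∀ i, (ϕ i).range = J.map (MulAut.conj (x ^ i.val)).toMonoidHom := fun i => by
    rw [MonoidHom.range_comp, Subgroup.range_subtype]
  have hcomm : Pairwise fun i k => ∀ (a b : ↥J), Commute (ϕ i a) (ϕ k b) := by
    intro i k hik a b
    have hne : J.map (MulAut.conj (x ^ i.val)).toMonoidHom ≠
        J.map (MulAut.conj (x ^ k.val)).toMonoidHom := by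
      intro he
      refine hfix (mem_normalizer_of_pow hx (sub_ne_zero.mpr hik) ?_)
      refine Subgroup.mem_normalizer_fintype fun n hn => ?_
      obtain ⟨m, hm, hme⟩ := he.le ⟨n, hn, rfl⟩
      have hme' : x ^ k.val * m * (x ^ k.val)⁻¹ = x ^ i.val * n * (x ^ i.val)⁻¹ := hme
      have hik' : x ^ k.val * x ^ (i - k).val = x ^ i.val := by
        rw [pow_val_add hx, add_sub_cancel]
      rw [← hik'] at hme'
      have : m = x ^ (i - k).val * n * (x ^ (i - k).val)⁻¹ := by
        have h2 := congrArg (fun z => (x ^ k.val)⁻¹ * z * x ^ k.val) hme'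
        simpa [mul_assoc] using h2
      exact this ▸ hm
    have h1 := commutator_eq_bot_of_ne
      (isComponent_map_equiv (MulAut.conj (x ^ i.val)) hJ)
      (isComponent_map_equiv (MulAut.conj (x ^ k.val)) hJ) hne
    exact (Subgroup.mem_centralizer_iff.mp
      (Subgroup.commutator_eq_bot_iff_le_centralizer.mp h1 ⟨a, a.2, rfl⟩) _ ⟨b, b.2, rfl⟩).symm
  refine ⟨MonoidHom.noncommPiCoprod ϕ hcomm, fun i j => MonoidHom.noncommPiCoprod_mulSingle ϕ i j,
    fun f => ?_⟩
  have h2 : (MonoidHom.noncommPiCoprod ϕ hcomm).range ≤ layer H := by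
    rw [MonoidHom.noncommPiCoprod_range]
    exact iSup_le fun i => (hrange i).le.trans
      (isComponent_le_layer (isComponent_map_equiv _ hJ))
  exact h2 ⟨f, rfl⟩

namespace Bad

variable {x : H} {J W' : Subgroup H}

theorem fix_centralizes (hb : Bad p x J W') {c : H}
    (hcx : c ∈ Subgroup.centralizer ({x} : Set H)) (hcJ : c ∈ Subgroup.normalizer (J : Set H))
    (hcW : c ∈ Subgroup.centralizer (W' : Set H)) (i : ZMod p) (j : ↥J) :
    Commute c (x ^ i.val * j * (x ^ i.val)⁻¹) := by
  obtain ⟨Φ, hΦ, hinj, hW⟩ := hb.exists_hom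
  have hj : c * (j : H) * c⁻¹ ∈ J := (Subgroup.mem_normalizer_iff.mp hcJ j).mp j.2
  have h1 := conj_const hΦ hcx hcJ (j := j) (j' := ⟨_, hj⟩) rfl
  rw [← Subgroup.mem_centralizer_iff.mp hcW _ ((hW _).mpr ⟨j, rfl⟩), mul_inv_cancel_right] at h1
  have h2 : c * (j : H) = j * c := mul_inv_eq_iff_eq_mul.mp (congrArg Subtype.val (hinj h1)).symm
  have h3 : Commute c (x ^ i.val) :=
    Commute.pow_right (Subgroup.mem_centralizer_singleton_iff.mp hcx) _
  exact (h3.mul_right h2).mul_right h3.inv_right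

/-- Elements centralising the diagonal permute the orbit. -/
theorem exists_pow (hb : Bad p x J W') {c : H} (hcW : c ∈ Subgroup.centralizer (W' : Set H)) :
    ∃ i : ZMod p, (x ^ i.val)⁻¹ * c ∈ Subgroup.normalizer (J : Set H) := by
  obtain ⟨Φ, hΦ, hinj, hW⟩ := hb.exists_hom
  have hJ' : IsComponent (J.map (MulAut.conj c).toMonoidHom) :=
    isComponent_map_equiv (MulAut.conj c) hb.comp
  by_contra hcon
  push Not at hcon
  have hcomm : ∀ (j : ↥J) (i : ZMod p) (k : ↥J),
      Commute (c * j * c⁻¹) (x ^ i.val * k * (x ^ i.val)⁻¹) := by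
    intro j i k
    have hne : J.map (MulAut.conj c).toMonoidHom ≠ J.map (MulAut.conj (x ^ i.val)).toMonoidHom := by
      intro he
      refine hcon i (Subgroup.mem_normalizer_fintype fun n hn => ?_)
      obtain ⟨m, hm, hme⟩ := he.le ⟨n, hn, rfl⟩
      have hme' : x ^ i.val * m * (x ^ i.val)⁻¹ = c * n * c⁻¹ := hme
      have : (x ^ i.val)⁻¹ * c * n * ((x ^ i.val)⁻¹ * c)⁻¹ = m := by
        have h2 := congrArg (fun z => (x ^ i.val)⁻¹ * z * x ^ i.val) hme'
        simpa [mul_assoc] using h2.symm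
      exact this.symm ▸ hm
    exact (Subgroup.mem_centralizer_iff.mp (Subgroup.commutator_eq_bot_iff_le_centralizer.mp
      (commutator_eq_bot_of_ne hJ' (isComponent_map_equiv _ hb.comp) hne) ⟨j, j.2, rfl⟩) _
      ⟨k, k.2, rfl⟩).symm
  -- `c J c⁻¹` centralises the diagonal, hence so does `J`
  haveI := hb.comp.2.1
  refine center_ne_top_of_isQuasisimple hb.comp.2 (eq_top_iff.mpr fun j _ =>
    Subgroup.mem_center_iff.mpr fun k => ?_)
  have h1 := commute_of_forall hΦ (hcomm j) (Function.const _ k)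
  have h2 : Commute c (Φ (Function.const _ k)) :=
    (Subgroup.mem_centralizer_iff.mp hcW _ ((hW _).mpr ⟨k, rfl⟩)).symm
  have h3 : Commute ((j : H)) (Φ (Function.const _ k)) := by
    have h4 := (h2.inv_left.mul_left h1).mul_left h2
    simpa [mul_assoc] using h4
  have h5 := apply_conj_zero hΦ (Function.const _ k) j
  rw [← h3.eq, mul_inv_cancel_right] at h5
  have h6 : j = k * j * k⁻¹ := Subtype.ext h5
  exact (eq_mul_inv_iff_mul_eq.mp h6).symm

end Bad

variable {W : Type*} [Group W] [Finite W] {L : Type*} [Group L] [Finite L]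

/-- A hom with `p'`-kernel onto a group without `p'`-core has kernel the `p'`-core. -/
theorem ker_eq_pPrimeCore {φ : L →* W} (hφ : Function.Surjective φ)
    (hk : (Nat.card φ.ker).Coprime p) (hO : pPrimeCore p W = ⊥) : φ.ker = pPrimeCore p L := by
  refine le_antisymm (Transfer.le_pPrimeCore inferInstance hk) ?_
  rw [← Subgroup.map_eq_bot_iff, eq_bot_iff, ← hO]
  exact Transfer.le_pPrimeCore (Subgroup.Normal.map inferInstance φ hφ)
    ((Transfer.pPrimeCore_coprime (G := L) p).coprime_dvd_left (Subgroup.card_map_dvd _ φ))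

/-- Pumping up. -/
theorem pumpUp (hO : pPrimeCore p H = ⊥) {x : H} (hx : x ^ p = 1) (hW : IsQuasisimple W)
    (hOW : pPrimeCore p W = ⊥) {φ : L →* W} (hφ : Function.Surjective φ)
    (hφk : (Nat.card φ.ker).Coprime p)
    (hgen : Subgroup.closure {l : L | ∃ j, orderOf l ∣ p ^ j} = ⊤)
    {ψ : L →* H} (hψk : (Nat.card ψ.ker).Coprime p) (hlayer : ψ.range ≤ layer H)
    (hcent : ψ.range ≤ Subgroup.centralizer ({x} : Set H))
    (hsub : (ψ.range.subgroupOf (Subgroup.centralizer ({x} : Set H))).IsSubnormal)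
    (hmax1 : ∀ J : Subgroup H, IsComponent J →
      Nat.card (↥J ⧸ Subgroup.center ↥J) ≤ Nat.card (W ⧸ Subgroup.center W))
    (hmax2 : ∀ J : Subgroup H, IsComponent J →
      Nat.card (↥J ⧸ Subgroup.center ↥J) = Nat.card (W ⧸ Subgroup.center W) →
        Nat.card ↥J ≤ Nat.card W) :
    ψ.ker = φ.ker ∧ (IsComponent ψ.range ∨ ∃ J, Bad p x J ψ.range) := by
  haveI := hW.1
  haveI : Nontrivial W := nontrivial_of_isQuasisimple hW
  have hker : φ.ker = pPrimeCore p L := ker_eq_pPrimeCore hφ hφk hOW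
  have hψle : ψ.ker ≤ φ.ker := hker ▸ Transfer.le_pPrimeCore inferInstance hψk
  haveI : ((Subgroup.center W).comap φ).Normal := Subgroup.Normal.comap inferInstance φ
  have hcases : ∀ N : Subgroup L, N.Normal → N = ⊤ ∨ N ≤ (Subgroup.center W).comap φ := by
    intro N hN
    haveI := hN
    haveI : (N.map φ).Normal := Subgroup.Normal.map hN φ hφ
    rcases eq_top_or_le_center_of_normal hW (N.map φ) with h | h
    · refine Or.inl (eq_top_of_coprime_index' hgen N ?_)
      refine hφk.coprime_dvd_left ?_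
      have h1 : N ⊔ φ.ker = ⊤ := by
        rw [← Subgroup.comap_map_eq, h, Subgroup.comap_top]
      rw [← Subgroup.relIndex_top_right, ← h1, sup_comm, Subgroup.relIndex_sup_right]
      exact Subgroup.relIndex_dvd_card _ _
    · exact Or.inr (Subgroup.map_le_iff_le_comap.mp h)
  have hperf : Group.IsPerfect L := by
    rcases hcases (commutator L) inferInstance with h | h
    · exact ⟨h⟩
    · refine absurd (eq_top_iff.mpr fun w _ => ?_) (center_ne_top_of_isQuasisimple hW)
      have h2 : (commutator L).map φ = commutator W := by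
        rw [commutator_def, commutator_def, Subgroup.map_commutator,
          Subgroup.map_top_of_surjective φ hφ]
      have h3 := Subgroup.map_le_iff_le_comap.mpr h
      rw [h2, Group.IsPerfect.commutator_eq_top] at h3
      exact h3 (Subgroup.mem_top w)
  have hψne : ψ.range ≠ ⊥ := fun h => by
    have h1 : ψ.ker = ⊤ := MonoidHom.range_eq_bot_iff.mp h ▸ MonoidHom.ker_one
    obtain ⟨w, hw⟩ := exists_ne (1 : W)
    obtain ⟨l, rfl⟩ := hφ w
    exact hw (hψle (h1 ▸ Subgroup.mem_top l))
  -- a component moved by the range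
  obtain ⟨J, hJ, hJne⟩ : ∃ J : Subgroup H, IsComponent J ∧ ¬ ψ.range ≤ Subgroup.centralizer (J : Set H) := by
    by_contra hcon
    push Not at hcon
    have h1 : layer H ≤ Subgroup.centralizer (ψ.range : Set H) := sSup_le fun J hJ =>
      (Subgroup.le_centralizer_iff (H := ψ.range) (K := J)).mp (hcon J hJ)
    haveI : IsMulCommutative ↥ψ.range := ⟨⟨fun a b => Subtype.ext
      (Subgroup.mem_centralizer_iff.mp (h1 (hlayer a.2)) b b.2).symm⟩⟩
    haveI : Group.IsPerfect ↥ψ.range := Group.IsPerfect.ofSurjective ψ.rangeRestrict_surjective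
    haveI : Nontrivial ↥ψ.range := (Subgroup.nontrivial_iff_ne_bot _).mpr hψne
    exact Group.IsPerfect.not_isSolvable ↥ψ.range
      (Group.isSolvable_of_comm fun a b => mul_comm' a b)
  have hrN : ψ.range ≤ Subgroup.normalizer (J : Set H) :=
    hlayer.trans (component_normal_in_layer hJ)
  let μ : L →* MulAut ↥J :=
    J.normalizerMonoidHom.comp (ψ.codRestrict _ fun l => hrN ⟨l, rfl⟩)
  have hμapp : ∀ l (j : ↥J), ((μ l j : ↥J) : H) = ψ l * j * (ψ l)⁻¹ := fun _ _ => rfl
  have hμker : μ.ker ≤ (Subgroup.center W).comap φ := by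
    refine (hcases μ.ker inferInstance).resolve_left fun h => hJne ?_
    rintro _ ⟨l, rfl⟩
    refine Subgroup.mem_centralizer_iff.mpr fun j hj => ?_
    have h1 : μ l = 1 := (MonoidHom.mem_ker).mp (h ▸ Subgroup.mem_top l)
    have h2 := hμapp l ⟨j, hj⟩
    rw [h1, MulAut.one_apply] at h2
    exact eq_mul_inv_iff_mul_eq.mp h2
  have hμrange : μ.range ≤ (MulAut.conj : ↥J →* MulAut ↥J).range := by
    rintro _ ⟨l, rfl⟩
    obtain ⟨j, hj, hjc⟩ := exists_mul_of_mem_layer hJ (hlayer ⟨l, rfl⟩)
    refine ⟨⟨j, hj⟩, MulEquiv.ext fun k => Subtype.ext ?_⟩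
    rw [hμapp]
    show j * (k : H) * j⁻¹ = _
    have h1 := Subgroup.mem_centralizer_iff.mp hjc k k.2
    calc j * (k : H) * j⁻¹ = j * ((k : H) * (j⁻¹ * ψ l)) * (j⁻¹ * ψ l)⁻¹ * j⁻¹ := by group
      _ = ψ l * k * (ψ l)⁻¹ := by rw [h1]; group
  have hcard : Nat.card (W ⧸ Subgroup.center W) ≤ Nat.card ↥μ.range := by
    rw [← Nat.card_congr (QuotientGroup.quotientKerEquivRange μ).toEquiv]
    refine le_of_eq_of_le ?_ (Nat.le_of_dvd Nat.card_pos (Subgroup.index_dvd_of_le hμker))
    rw [Subgroup.index_comap_of_surjective _ hφ]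
    rfl
  have hμeq : μ.range = (MulAut.conj : ↥J →* MulAut ↥J).range :=
    Subgroup.eq_of_le_of_card_ge hμrange
      ((card_quotient_center (J := ↥J)).symm.le.trans ((hmax1 J hJ).trans hcard))
  have hμkereq : μ.ker = (Subgroup.center W).comap φ := by
    refine le_antisymm hμker (Subgroup.relIndex_eq_one.mp ?_)
    have e1 := Subgroup.relIndex_mul_index hμker
    have e2 : μ.ker.index = Nat.card ↥μ.range :=
      Nat.card_congr (QuotientGroup.quotientKerEquivRange μ).toEquiv
    have e3 : ((Subgroup.center W).comap φ).index = Nat.card (W ⧸ Subgroup.center W) := by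
      rw [Subgroup.index_comap_of_surjective _ hφ]; rfl
    have e4 : μ.ker.index = ((Subgroup.center W).comap φ).index := by
      rw [e2, e3]
      refine le_antisymm ?_ hcard
      rw [hμeq, ← card_quotient_center]
      exact hmax1 J hJ
    rw [e4] at e1
    exact Nat.eq_of_mul_eq_mul_right (Nat.pos_of_ne_zero Subgroup.index_ne_zero_of_finite)
      (e1.trans (one_mul _).symm)
  have hJW : Nat.card ↥J ≤ Nat.card W := by
    refine hmax2 J hJ (le_antisymm (hmax1 J hJ) ?_)
    rw [card_quotient_center (J := ↥J), ← hμeq]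
    exact hcard
  haveI := hJ.2.1
  haveI : Nontrivial ↥J := nontrivial_of_isQuasisimple hJ.2
  have hact : ∀ j : ↥J, ∃ l, μ l = MulAut.conj j := fun j => hμeq.ge ⟨j, rfl⟩
  -- the common argument
  have common : ∀ θ : ↥J →* H, (∀ j, θ j ∈ Subgroup.centralizer ({x} : Set H)) →
      (∀ j, θ j ∈ layer H) → (∀ j k : ↥J, θ j * k * (θ j)⁻¹ = ((j * k * j⁻¹ : ↥J) : H)) →
      (∀ c ∈ Subgroup.centralizer ({x} : Set H), c ∈ Subgroup.normalizer (J : Set H) →
        ∀ j j' : ↥J, c * j * c⁻¹ = (j' : H) → c * θ j * c⁻¹ = θ j') →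
      ψ.range = θ.range ∧ ψ.ker = φ.ker ∧ Function.Injective θ := by
    intro θ hθx hθE hθact hθeq
    set C := Subgroup.centralizer ({x} : Set H) with hC
    set Δ := θ.range with hΔ
    have hθker : θ.ker ≤ Subgroup.center ↥J := fun j hj => Subgroup.mem_center_iff.mpr fun k => by
      have h1 := hθact j k
      rw [MonoidHom.mem_ker.mp hj, one_mul, inv_one, mul_one] at h1
      exact eq_mul_inv_iff_mul_eq.mp (Subtype.ext h1 : k = j * k * j⁻¹)
    haveI : Nontrivial ↥Δ := by
      rw [Subgroup.nontrivial_iff_ne_bot, hΔ, Ne, MonoidHom.range_eq_bot_iff]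
      intro h
      exact center_ne_top_of_isQuasisimple hJ.2 (top_le_iff.mp (le_of_eq_of_le
        (by rw [h, MonoidHom.ker_one]) hθker))
    have hΔq : IsQuasisimple ↥Δ := isQuasisimple_of_surjective θ.rangeRestrict_surjective hJ.2
    have hΔC : Δ ≤ C := by rintro _ ⟨j, rfl⟩; exact hθx j
    have hΔE : Δ ≤ layer H := by rintro _ ⟨j, rfl⟩; exact hθE j
    have hΔn : layer H ⊓ C ≤ Subgroup.normalizer (Δ : Set H) := by
      intro e he
      refine Subgroup.mem_normalizer_fintype ?_
      rintro _ ⟨j, rfl⟩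
      have heJ := component_normal_in_layer hJ he.1
      exact ⟨⟨_, (Subgroup.mem_normalizer_iff.mp heJ j).mp j.2⟩, (hθeq e he.2 heJ j _ rfl).symm⟩
    haveI := layer_normal (G := H)
    haveI : ((layer H ⊓ C).subgroupOf C).Normal := Subgroup.normal_subgroupOf_of_le_normalizer
      (le_normalizer_inf_of_le Subgroup.le_normalizer_of_normal Subgroup.le_normalizer)
    have hΔs : (Δ.subgroupOf C).IsSubnormal := by
      refine Subgroup.IsSubnormal.step _ ((layer H ⊓ C).subgroupOf C)
        (Subgroup.comap_mono (le_inf hΔE hΔC))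
        (inferInstance : ((layer H ⊓ C).subgroupOf C).Normal).isSubnormal ?_
      refine (Subgroup.normal_subgroupOf_iff_le_normalizer (Subgroup.comap_mono (le_inf hΔE hΔC))).mpr ?_
      intro e he
      exact Subgroup.le_normalizer_comap C.subtype (hΔn (Subgroup.mem_subgroupOf.mp he))
    have hΔcomp : IsComponent (Δ.subgroupOf C) :=
      ⟨hΔs, (isQuasisimple_congr (Subgroup.subgroupOfEquivOfLe hΔC).symm).mp hΔq⟩
    have hψrN : ψ.range ≤ Subgroup.normalizer (Δ : Set H) := (le_inf hlayer hcent).trans hΔn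
    have hle : Δ ≤ ψ.range := by
      rcases le_or_commutator_eq_bot hΔcomp hsub with h | h
      · have h1 := Subgroup.map_mono (f := C.subtype) h
        rwa [Subgroup.map_subgroupOf_eq_of_le hΔC, Subgroup.map_subgroupOf_eq_of_le hcent] at h1
      exfalso
      rw [commutator_subgroupOf_eq_bot hΔC hcent,
        Subgroup.commutator_eq_bot_iff_le_centralizer] at h
      refine center_ne_top_of_isQuasisimple hJ.2 (eq_top_iff.mpr ?_)
      rw [← Group.IsPerfect.commutator_eq_top (G := ↥J), commutator_def, Subgroup.commutator_le]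
      intro a _ b _
      obtain ⟨l, hl⟩ := hact a
      have h1 : ψ l * b * (ψ l)⁻¹ = ((a * b * a⁻¹ : ↥J) : H) := by
        rw [← hμapp, hl]; rfl
      have h2 := hθeq (ψ l) (hcent ⟨l, rfl⟩) (hrN ⟨l, rfl⟩) b _ h1
      rw [Subgroup.mem_centralizer_iff.mp (h ⟨b, rfl⟩) _ ⟨l, rfl⟩, mul_inv_cancel_right] at h2
      refine hθker ?_
      rw [MonoidHom.mem_ker, commutatorElement_def, map_mul, ← h2, map_inv, mul_inv_cancel]
    haveI : (Δ.comap ψ).Normal := ⟨fun l hl g => by
      show ψ (g * l * g⁻¹) ∈ Δ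
      rw [map_mul, map_mul, map_inv]
      exact (Subgroup.mem_normalizer_iff.mp (hψrN ⟨g, rfl⟩) _).mp hl⟩
    have htop : Δ.comap ψ = ⊤ := by
      refine (hcases _ inferInstance).resolve_right fun h => ?_
      refine center_ne_top_of_isQuasisimple hJ.2 (eq_top_iff.mpr fun j _ => ?_)
      obtain ⟨l, hl⟩ := hle (⟨j, rfl⟩ : θ j ∈ Δ)
      have h1 : l ∈ μ.ker := hμkereq.ge (h (show ψ l ∈ Δ from hl ▸ ⟨j, rfl⟩))
      refine Subgroup.mem_center_iff.mpr fun k => ?_
      have h2 := hμapp l k
      rw [MonoidHom.mem_ker.mp h1, MulAut.one_apply, hl, hθact] at h2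
      exact eq_mul_inv_iff_mul_eq.mp (Subtype.ext h2 : k = j * k * j⁻¹)
    have hrange : ψ.range = Δ := le_antisymm
      (by rintro _ ⟨l, rfl⟩; exact (htop.ge (Subgroup.mem_top l) : _)) hle
    have hOΔ : pPrimeCore p ↥Δ = ⊥ := by
      rcases eq_top_or_le_center_of_normal hΔq (pPrimeCore p ↥Δ) with h | h
      · exfalso
        have hcop : (Nat.card ↥ψ.range).Coprime p := by
          rw [hrange, ← Subgroup.card_top, ← h]
          exact Transfer.pPrimeCore_coprime p
        have hLcop : (Nat.card L).Coprime p := by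
          rw [Subgroup.card_eq_card_quotient_mul_card_subgroup ψ.ker,
            Nat.card_congr (QuotientGroup.quotientKerEquivRange ψ).toEquiv]
          exact Nat.Coprime.mul_left hcop hψk
        obtain ⟨w, hw⟩ := exists_ne (1 : W)
        refine hw ?_
        have h1 : pPrimeCore p W = ⊤ := top_le_iff.mp (Transfer.le_pPrimeCore inferInstance (by
          rw [Subgroup.card_top]; exact hLcop.coprime_dvd_left (Subgroup.card_dvd_of_surjective φ hφ)))
        rw [hOW] at h1
        exact Subgroup.mem_bot.mp (h1 ▸ Subgroup.mem_top w)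
      · rw [eq_bot_iff]
        intro z hz
        have hzc := h hz
        obtain ⟨_, ⟨j, rfl⟩⟩ := z
        have hjc : j ∈ Subgroup.center ↥J := by
          refine mem_center_of_commutators fun k => hθker ?_
          have h1 : θ k * θ j = θ j * θ k :=
            congrArg Subtype.val (Subgroup.mem_center_iff.mp hzc ⟨θ k, ⟨k, rfl⟩⟩)
          rw [MonoidHom.mem_ker, map_mul, map_mul, map_mul, map_inv, map_inv, h1]
          group
        obtain ⟨e, he⟩ := isPGroup_center hO hJ ⟨j, hjc⟩
        have he' : j ^ p ^ e = 1 := congrArg Subtype.val he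
        refine Subgroup.mem_bot.mpr (PSolvable.eq_one_of_mem_of_mem (P := Subgroup.zpowers _) ?_
          (Transfer.pPrimeCore_coprime p) (Subgroup.mem_zpowers _) hz)
        rintro ⟨y, n, rfl⟩
        refine ⟨e, Subtype.ext ?_⟩
        show ((⟨θ j, _⟩ : ↥Δ) ^ n) ^ p ^ e = 1
        rw [← zpow_natCast, ← zpow_mul, mul_comm n, zpow_mul, zpow_natCast]
        have : (⟨θ j, ⟨j, rfl⟩⟩ : ↥Δ) ^ p ^ e = 1 := Subtype.ext (by
          rw [SubmonoidClass.coe_pow]; show θ j ^ p ^ e = 1; rw [← map_pow, he', map_one])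
        rw [this, one_zpow]
    have hψker : ψ.ker = φ.ker := by
      rw [hker, ← ker_eq_pPrimeCore (φ := ψ.rangeRestrict) ψ.rangeRestrict_surjective
        (by rwa [MonoidHom.ker_rangeRestrict]) (by rw [hrange]; exact hOΔ), MonoidHom.ker_rangeRestrict]
    refine ⟨hrange, hψker, ?_⟩
    rw [← MonoidHom.ker_eq_bot_iff]
    apply Subgroup.eq_bot_of_card_eq
    have e1 : Nat.card ↥Δ = Nat.card W := by
      rw [← hrange, ← Nat.card_congr (QuotientGroup.quotientKerEquivRange ψ).toEquiv,
        Nat.card_congr (QuotientGroup.quotientMulEquivOfEq hψker).toEquiv]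
      exact Nat.card_congr (QuotientGroup.quotientKerEquivOfSurjective φ hφ).toEquiv
    have e2 : Nat.card ↥J = Nat.card ↥Δ * Nat.card θ.ker := by
      rw [Subgroup.card_eq_card_quotient_mul_card_subgroup θ.ker,
        Nat.card_congr (QuotientGroup.quotientKerEquivRange θ).toEquiv]
    rw [e1] at e2
    have hpos : 0 < Nat.card W := Nat.card_pos
    have hpos' : 0 < Nat.card θ.ker := Nat.card_pos
    nlinarith
  by_cases hfix : x ∈ Subgroup.normalizer (J : Set H)
  · -- `x` centralises `J`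
    have hxJ : J ≤ Subgroup.centralizer ({x} : Set H) := by
      let e : MulAut ↥J := J.normalizerMonoidHom ⟨x, hfix⟩
      have he : Signalizer.ComponentBalance.autQuot ↥J e = 1 := by
        refine MulEquiv.ext fun q => ?_
        obtain ⟨j, rfl⟩ := QuotientGroup.mk'_surjective (Subgroup.center ↥J) q
        show QuotientGroup.mk (e j) = QuotientGroup.mk j
        rw [QuotientGroup.eq, Subgroup.mem_center_iff]
        obtain ⟨l, hl⟩ := hact j
        intro k
        have hxl : x * ψ l = ψ l * x :=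
          (Subgroup.mem_centralizer_singleton_iff.mp (hcent ⟨l, rfl⟩)).symm
        have h1 : ∀ k : ↥J, e j * k * (e j)⁻¹ = j * k * j⁻¹ := by
          intro k
          obtain ⟨k', rfl⟩ := e.surjective k
          apply Subtype.ext
          have h2 : ψ l * k' * (ψ l)⁻¹ = ((j * k' * j⁻¹ : ↥J) : H) := by rw [← hμapp, hl]; rfl
          have h3 : ψ l * (e k' : H) * (ψ l)⁻¹ = ((j * e k' * j⁻¹ : ↥J) : H) := by
            rw [← hμapp, hl]; rfl
          rw [← h3, ← map_inv, ← map_mul, ← map_mul]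
          show x * ((j * k' * j⁻¹ : ↥J) : H) * x⁻¹ = ψ l * (x * k' * x⁻¹) * (ψ l)⁻¹
          rw [← h2]
          calc x * (ψ l * k' * (ψ l)⁻¹) * x⁻¹ = (x * ψ l) * k' * (x * ψ l)⁻¹ := by group
            _ = (ψ l * x) * k' * (ψ l * x)⁻¹ := by rw [hxl]
            _ = _ := by group
        have h4 := h1 k
        have h5 : k * ((e j)⁻¹ * j) = ((e j)⁻¹ * j) * k := by
          have := congrArg (fun z => (e j)⁻¹ * z * j) h4
          simpa [mul_assoc] using this
        exact h5
      have h6 : e = 1 :=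
        Signalizer.ComponentBalance.autQuot_injective (he.trans (map_one _).symm)
      intro j hj
      have h7 : x * j * x⁻¹ = j := congrArg (fun f : MulAut ↥J => ((f ⟨j, hj⟩ : ↥J) : H)) h6
      exact Subgroup.mem_centralizer_singleton_iff.mpr (mul_inv_eq_iff_eq_mul.mp h7).symm
    obtain ⟨h1, h2, -⟩ := common J.subtype (fun j => hxJ j.2) (fun j => isComponent_le_layer hJ j.2)
      (fun _ _ => rfl) (fun c _ _ j j' h => h)
    refine ⟨h2, Or.inl ?_⟩
    rw [h1, Subgroup.range_subtype]
    exact hJ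
  · obtain ⟨Φ, hΦ, hΦE⟩ := exists_orbitHom hx hJ hfix
    let θ : ↥J →* H := Φ.comp
      { toFun := fun j => Function.const _ j, map_one' := rfl, map_mul' := fun _ _ => rfl }
    obtain ⟨h1, h2, h3⟩ := common θ (fun j => const_mem_centralizer hΦ hx j) (fun j => hΦE _)
      (fun j k => apply_conj_zero hΦ (Function.const _ j) k)
      (fun c hc hcn j j' h => conj_const hΦ hc hcn h)
    exact ⟨h2, Or.inr ⟨J, hJ, hfix, hx, Φ, hΦ, h3, fun w => by rw [h1]; rfl⟩⟩

end CfsgLib.Layer.PumpUp
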