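import Mathlib
import Cfsg.Prelude.Def_Balance
import Cfsg.Agent.Lib.Layer.Lift
import Cfsg.Agent.Lib.Layer.CharPSubnormal

/-!
# The extended 2-layer
-/

set_option autoImplicit false
set_option linter.style.haveILetI false

namespace CfsgLib.Layer.ExtendedTwoLayer

open Cfsg
open CfsgLib.Coprime
open Pointwise

variable {X : Type*} [Group X] [Finite X]

/-- The layer times `O_{2',2}`. -/
abbrev base (X : Type*) [Group X] : Subgroup X := pLayer 2 X ⊔ pPrimePCore 2 X

/-- The odd core of the centralizer of a subgroup. -/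
def coreCent (T : Subgroup X) : Subgroup X :=
  (oddCore ↥(Subgroup.centralizer (T : Set X))).map (Subgroup.centralizer (T : Set X)).subtype

theorem extendedTwoLayer_eq_iSup :
    extendedTwoLayer X = pLayer 2 X ⊔ oddCore X ⊔
      ⨆ T : Sylow 2 ↥(base X), coreCent ((T : Subgroup ↥(base X)).map (base X).subtype) := rfl

theorem base_normal : (base X).Normal := by
  haveI : Fact (Nat.Prime 2) := ⟨Nat.prime_two⟩
  haveI := LBalance.pLayer_normal 2 X
  haveI : (pPrimePCore 2 X).Normal := Subgroup.Normal.comap inferInstance _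
  exact Subgroup.sup_normal _ _

theorem coreCent_le_centralizer (T : Subgroup X) :
    coreCent T ≤ Subgroup.centralizer (T : Set X) := Subgroup.map_subtype_le _

theorem normalizer_le_normalizer_coreCent (T : Subgroup X) :
    Subgroup.normalizer (T : Set X) ≤ Subgroup.normalizer (coreCent T : Set X) :=
  PSolvable.le_normalizer_map_of_characteristic (Coprime.le_normalizer_centralizer le_rfl) _

theorem coreCent_odd (T : Subgroup X) : (Nat.card (coreCent T)).Coprime 2 := by
  haveI : Fact (Nat.Prime 2) := ⟨Nat.prime_two⟩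
  rw [coreCent, Subgroup.card_map_of_injective (Subgroup.subtype_injective _)]
  exact Transfer.pPrimeCore_coprime 2

/-- Modulo the layer and the odd core the base is a 2-group. -/
theorem base_le_sup (T : Sylow 2 ↥(base X)) :
    base X ≤ pLayer 2 X ⊔ oddCore X ⊔ (T : Subgroup ↥(base X)).map (base X).subtype := by
  haveI : Fact (Nat.Prime 2) := ⟨Nat.prime_two⟩
  haveI := LBalance.pLayer_normal 2 X
  haveI := Transfer.pPrimeCore_normal 2 X
  set M := pLayer 2 X ⊔ oddCore X with hM
  haveI : M.Normal := Subgroup.sup_normal _ _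
  set A := M ⊔ (T : Subgroup ↥(base X)).map (base X).subtype with hA
  have hOP : oddCore X ≤ pPrimePCore 2 X := by
    intro z hz
    have h1 : QuotientGroup.mk' (pPrimeCore 2 X) z = 1 := (QuotientGroup.eq_one_iff z).mpr hz
    exact Subgroup.mem_comap.mpr (h1 ▸ one_mem _)
  have hMN : M ≤ (base X) := sup_le le_sup_left (hOP.trans le_sup_right)
  have hTN : (T : Subgroup ↥(base X)).map (base X).subtype ≤ (base X) := Subgroup.map_subtype_le _
  have hAN : A ≤ (base X) := sup_le hMN hTN
  have h2 : ¬ 2 ∣ A.relIndex (base X) := fun h => T.not_dvd_index (h.trans (by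
    refine Subgroup.index_dvd_of_le fun t ht => ?_
    exact Subgroup.mem_subgroupOf.mpr (Subgroup.mem_sup_right ⟨t, ht, rfl⟩)))
  set f := QuotientGroup.mk' M with hf
  have hNf : IsPGroup 2 ↥((base X).map f) := by
    have h3 : (base X).map f = (pPrimePCore 2 X).map f := by
      refine le_antisymm ?_ (Subgroup.map_mono le_sup_right)
      rw [Subgroup.map_le_iff_le_comap]
      refine sup_le ?_ (Subgroup.le_comap_map _ _)
      intro z hz
      have h1 : f z = 1 := (QuotientGroup.eq_one_iff z).mpr (Subgroup.mem_sup_left (T := oddCore X) hz)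
      exact Subgroup.mem_comap.mpr (h1 ▸ one_mem _)
    rw [h3]
    let q : X ⧸ pPrimeCore 2 X →* X ⧸ M := QuotientGroup.map _ M (MonoidHom.id X)
      (fun z hz => Subgroup.mem_sup_right hz)
    have h4 : (pPrimePCore 2 X).map f = (pCore 2 (X ⧸ pPrimeCore 2 X)).map q := by
      conv_rhs => rw [← Subgroup.map_comap_eq_self_of_surjective
        (QuotientGroup.mk'_surjective (pPrimeCore 2 X)) (pCore 2 (X ⧸ pPrimeCore 2 X))]
      rw [Subgroup.map_map]
      rfl
    rw [h4]
    exact (Fitting.pCore_isPGroup 2).map q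
  obtain ⟨n, hn⟩ := IsPGroup.iff_card.mp hNf
  have h5 : A.relIndex (base X) ∣ 2 ^ n := by
    rw [← hn, ← Subgroup.relIndex_ker, hf, QuotientGroup.ker_mk']
    exact Subgroup.relIndex_dvd_of_le_left (base X) le_sup_left
  obtain ⟨k, -, hk⟩ := (Nat.dvd_prime_pow Nat.prime_two).mp h5
  rcases k with _ | k
  · exact Subgroup.relIndex_eq_one.mp (by rw [hk, pow_zero])
  · exact absurd (hk ▸ dvd_pow_self 2 k.succ_ne_zero) h2

theorem extendedTwoLayer_eq (T : Sylow 2 ↥(base X)) :
    extendedTwoLayer X =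
      pLayer 2 X ⊔ oddCore X ⊔ coreCent ((T : Subgroup ↥(base X)).map (base X).subtype) := by
  haveI : Fact (Nat.Prime 2) := ⟨Nat.prime_two⟩
  rw [extendedTwoLayer_eq_iSup]
  refine le_antisymm (sup_le le_sup_left (iSup_le fun T' => ?_))
    (sup_le le_sup_left (le_sup_of_le_right
      (le_iSup (fun T : Sylow 2 ↥(base X) =>
        coreCent ((T : Subgroup ↥(base X)).map (base X).subtype)) T)))
  obtain ⟨n, hn⟩ := MulAction.exists_smul_eq ↥(base X) T T'
  set M := pLayer 2 X ⊔ oddCore X with hM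
  set T₀ := (T : Subgroup ↥(base X)).map (base X).subtype with hT₀
  haveI := LBalance.pLayer_normal 2 X
  haveI := Transfer.pPrimeCore_normal 2 X
  haveI : M.Normal := Subgroup.sup_normal _ _
  have hT' : (T' : Subgroup ↥(base X)).map (base X).subtype =
      T₀.map (MulAut.conj (n : X)).toMonoidHom := by
    rw [← hn, hT₀, Subgroup.map_map]
    ext z
    constructor
    · rintro ⟨_, ⟨u, hu, rfl⟩, rfl⟩
      exact ⟨u, hu, rfl⟩
    · rintro ⟨u, hu, rfl⟩
      exact ⟨_, ⟨u, hu, rfl⟩, rfl⟩
  have hmem : (n : X) ∈ M ⊔ T₀ := base_le_sup T n.2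
  have hTn : T₀ ≤ Subgroup.normalizer (coreCent T₀ : Set X) :=
    Subgroup.le_normalizer.trans (normalizer_le_normalizer_coreCent T₀)
  obtain ⟨m, hm, t, ht, hmt⟩ := Subgroup.mem_sup_of_normal_left.mp hmem
  intro z hz
  have hz2 : (n : X)⁻¹ * z * n ∈ coreCent T₀ := by
    obtain ⟨⟨c, hc⟩, hcO, rfl⟩ := hz
    have hc' : (n : X)⁻¹ * c * n ∈ Subgroup.centralizer (T₀ : Set X) := by
      refine Subgroup.mem_centralizer_iff.mpr fun u hu => ?_
      have h1 : (n : X) * u * (n : X)⁻¹ * c = c * ((n : X) * u * (n : X)⁻¹) :=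
        Subgroup.mem_centralizer_iff.mp hc _ (hT'.ge ⟨u, hu, rfl⟩)
      calc u * ((n : X)⁻¹ * c * n) = (n : X)⁻¹ * ((n : X) * u * (n : X)⁻¹ * c) * n := by group
        _ = (n : X)⁻¹ * c * n * u := by rw [h1]; group
    let φ : ↥(Subgroup.centralizer ((T' : Subgroup ↥(base X)).map (base X).subtype : Set X)) →*
        ↥(Subgroup.centralizer (T₀ : Set X)) :=
      ((MulAut.conj (n : X)⁻¹).toMonoidHom.comp (Subgroup.subtype _)).codRestrict _ fun d => by
        refine Subgroup.mem_centralizer_iff.mpr fun u hu => ?_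
        have h1 : (n : X) * u * (n : X)⁻¹ * d = d * ((n : X) * u * (n : X)⁻¹) :=
          Subgroup.mem_centralizer_iff.mp d.2 _ (hT'.ge ⟨u, hu, rfl⟩)
        show u * ((n : X)⁻¹ * d * ((n : X)⁻¹)⁻¹) = (n : X)⁻¹ * d * ((n : X)⁻¹)⁻¹ * u
        calc u * ((n : X)⁻¹ * d * ((n : X)⁻¹)⁻¹)
            = (n : X)⁻¹ * ((n : X) * u * (n : X)⁻¹ * d) * n := by group
          _ = _ := by rw [h1]; group
    have hφ : Function.Surjective φ := by
      rintro ⟨d, hd⟩
      refine ⟨⟨(n : X) * d * (n : X)⁻¹, ?_⟩, Subtype.ext ?_⟩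
      · refine Subgroup.mem_centralizer_iff.mpr fun u hu => ?_
        obtain ⟨v, hv, rfl⟩ := hT'.le hu
        show (n : X) * v * (n : X)⁻¹ * ((n : X) * d * (n : X)⁻¹) = _
        calc (n : X) * v * (n : X)⁻¹ * ((n : X) * d * (n : X)⁻¹) = (n : X) * (v * d) * (n : X)⁻¹ := by group
          _ = (n : X) * (d * v) * (n : X)⁻¹ := by rw [Subgroup.mem_centralizer_iff.mp hd v hv]
          _ = (n : X) * d * (n : X)⁻¹ * ((n : X) * v * (n : X)⁻¹) := by group
      · show (n : X)⁻¹ * ((n : X) * d * (n : X)⁻¹) * ((n : X)⁻¹)⁻¹ = d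
        group
    have hle : (oddCore ↥(Subgroup.centralizer
        ((T' : Subgroup ↥(base X)).map (base X).subtype : Set X))).map φ ≤
        oddCore ↥(Subgroup.centralizer (T₀ : Set X)) :=
      Transfer.le_pPrimeCore (Subgroup.Normal.map inferInstance φ hφ)
        ((Transfer.pPrimeCore_coprime 2).coprime_dvd_left (Subgroup.card_map_dvd _ φ))
    refine ⟨φ ⟨c, hc⟩, hle ⟨_, hcO, rfl⟩, ?_⟩
    show (n : X)⁻¹ * c * ((n : X)⁻¹)⁻¹ = _
    rw [inv_inv]
    rfl
  -- undo the conjugation
  have hz3 : t * ((n : X)⁻¹ * z * n) * t⁻¹ ∈ coreCent T₀ :=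
    (Subgroup.mem_normalizer_iff.mp (hTn ht) _).mp hz2
  have hz4 : z = m * (t * ((n : X)⁻¹ * z * n) * t⁻¹) * m⁻¹ := by rw [← hmt]; group
  rw [hz4]
  exact mul_mem (mul_mem (Subgroup.mem_sup_left hm) (Subgroup.mem_sup_right hz3))
    (inv_mem (Subgroup.mem_sup_left hm))

theorem extendedTwoLayer_normal : (extendedTwoLayer X).Normal := by
  haveI : Fact (Nat.Prime 2) := ⟨Nat.prime_two⟩
  haveI := LBalance.pLayer_normal 2 X
  haveI := Transfer.pPrimeCore_normal 2 X
  haveI := base_normal (X := X)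
  obtain ⟨T⟩ : Nonempty (Sylow 2 ↥(base X)) := inferInstance
  have h : ∀ g : X, ∀ z ∈ extendedTwoLayer X, g * z * g⁻¹ ∈ extendedTwoLayer X := by
    intro g
    -- Frattini: `g = m * s` with `s` normalising the Sylow subgroup
    have hg : g ∈ Subgroup.normalizer ((T : Subgroup ↥(base X)).map (base X).subtype : Set X) ⊔ base X := by
      rw [Sylow.normalizer_sup_eq_top T]
      exact Subgroup.mem_top g
    obtain ⟨s, hs, m, hm, rfl⟩ := Subgroup.mem_sup_of_normal_right.mp hg
    obtain ⟨m₁, hm₁, t, ht, rfl⟩ := Subgroup.mem_sup_of_normal_left.mp (base_le_sup T hm)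
    intro z hz
    rw [extendedTwoLayer_eq T] at hz ⊢
    set T₀ := (T : Subgroup ↥(base X)).map (base X).subtype with hT₀
    set E := pLayer 2 X ⊔ oddCore X ⊔ coreCent T₀ with hE
    have hM : pLayer 2 X ⊔ oddCore X ≤ E := le_sup_left
    have hN : Subgroup.normalizer (T₀ : Set X) ≤ Subgroup.normalizer (E : Set X) := by
      intro a ha
      refine Subgroup.mem_normalizer_fintype fun n hn => ?_
      have hle : E ≤ E.comap (MulAut.conj a).toMonoidHom := by
        refine sup_le (fun w hw => Subgroup.mem_sup_left ?_) fun w hw => Subgroup.mem_sup_right ?_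
        · exact (inferInstance : (pLayer 2 X ⊔ oddCore X).Normal).conj_mem w hw a
        · exact (Subgroup.mem_normalizer_iff.mp (normalizer_le_normalizer_coreCent T₀ ha) w).mp hw
      exact hle hn
    have hgN : s * (m₁ * t) ∈ Subgroup.normalizer (E : Set X) :=
      mul_mem (hN hs) (mul_mem (Subgroup.le_normalizer (hM hm₁)) (hN (Subgroup.le_normalizer ht)))
    exact (Subgroup.mem_normalizer_iff.mp hgN z).mp hz
  exact ⟨fun z hz g => h g z hz⟩

theorem odd_complement : ∃ F : Subgroup X, Odd (Nat.card ↥F) ∧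
    (∃ S : Sylow 2 X, (S : Subgroup X) ≤ Subgroup.normalizer (F : Set X)) ∧
    extendedTwoLayer X = pLayer 2 X ⊔ F := by
  haveI : Fact (Nat.Prime 2) := ⟨Nat.prime_two⟩
  haveI := Transfer.pPrimeCore_normal 2 X
  haveI := base_normal (X := X)
  obtain ⟨T⟩ : Nonempty (Sylow 2 ↥(base X)) := inferInstance
  set T₀ := (T : Subgroup ↥(base X)).map (base X).subtype with hT₀
  obtain ⟨S, hS⟩ := (T.2.map (base X).subtype : IsPGroup 2 ↥T₀).exists_le_sylow
  refine ⟨oddCore X ⊔ coreCent T₀, ?_, ⟨S, ?_⟩, ?_⟩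
  · rw [← Nat.not_even_iff_odd, even_iff_two_dvd]
    intro h2
    refine (Nat.Prime.coprime_iff_not_dvd Nat.prime_two).mp ?_ h2
    refine Nat.Coprime.symm (Nat.Coprime.coprime_dvd_left ?_
      (Nat.Coprime.mul_left (Transfer.pPrimeCore_coprime (G := X) 2) (coreCent_odd T₀)))
    exact Dvd.intro _ (Coprime.card_sup_mul_card_inf (K := oddCore X) (S := coreCent T₀)
      Subgroup.le_normalizer_of_normal)
  · have hST : (S : Subgroup X) ⊓ base X = T₀ := by
      refine le_antisymm ?_ (le_inf hS (Subgroup.map_subtype_le _))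
      have h1 : (S : Subgroup X).subgroupOf (base X) = T :=
        T.3 (S.2.comap_of_injective _ (Subgroup.subtype_injective _))
          fun t ht => Subgroup.mem_subgroupOf.mpr (hS ⟨t, ht, rfl⟩)
      rw [hT₀, ← h1, Subgroup.subgroupOf_map_subtype]
    have hSn : (S : Subgroup X) ≤ Subgroup.normalizer (T₀ : Set X) := by
      rw [← hST]
      exact le_normalizer_inf_of_le Subgroup.le_normalizer Subgroup.le_normalizer_of_normal
    refine fun s hs => Subgroup.mem_normalizer_fintype fun n hn => ?_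
    have hle : oddCore X ⊔ coreCent T₀ ≤
        (oddCore X ⊔ coreCent T₀).comap (MulAut.conj s).toMonoidHom := by
      refine sup_le (fun w hw => Subgroup.mem_sup_left ?_) fun w hw => Subgroup.mem_sup_right ?_
      · exact (inferInstance : (oddCore X).Normal).conj_mem w hw s
      · exact (Subgroup.mem_normalizer_iff.mp (normalizer_le_normalizer_coreCent T₀ (hSn hs)) w).mp hw
    exact hle hn
  · rw [extendedTwoLayer_eq T, ← hT₀, sup_assoc]

theorem component_normal {K : Subgroup X} (hK : IsPComponent 2 K) :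
    K ≤ extendedTwoLayer X ∧ (K.subgroupOf (extendedTwoLayer X)).Normal := by
  haveI : Fact (Nat.Prime 2) := ⟨Nat.prime_two⟩
  haveI := Transfer.pPrimeCore_normal 2 X
  have hKL : K ≤ pLayer 2 X := le_sSup (s := {K | IsPComponent 2 K}) hK
  obtain ⟨T⟩ : Nonempty (Sylow 2 ↥(base X)) := inferInstance
  set T₀ := (T : Subgroup ↥(base X)).map (base X).subtype with hT₀
  have hKE : K ≤ extendedTwoLayer X := hKL.trans (le_sup_left.trans le_sup_left)
  refine ⟨hKE, (Subgroup.normal_subgroupOf_iff_le_normalizer hKE).mpr ?_⟩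
  rw [extendedTwoLayer_eq T]
  set π := QuotientGroup.mk' (pPrimeCore 2 X) with hπ
  have hnorm : ∀ g : X, π g ∈ Subgroup.normalizer (K.map π : Set _) →
      g ∈ Subgroup.normalizer (K : Set X) := by
    intro g hg
    rw [eq_pComponentOf hK, pComponentOf]
    exact normalizer_le_normalizer_pGen _ (Subgroup.le_normalizer_comap π hg)
  refine sup_le (sup_le (pLayer_le_normalizer hK) fun g hg => hnorm g ?_) fun g hg => hnorm g ?_
  · rw [show π g = 1 from (QuotientGroup.eq_one_iff g).mpr hg]
    exact one_mem _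
  · have hW := hK.2.1
    -- `T₀ ∩ K` covers a Sylow 2-subgroup of the component
    have hd : ¬ 2 ∣ T₀.relIndex K := by
      obtain ⟨S, hS⟩ := (T.2.map (base X).subtype : IsPGroup 2 ↥T₀).exists_le_sylow
      have h1 : (S : Subgroup X).subgroupOf (base X) = T :=
        T.3 (S.2.comap_of_injective _ (Subgroup.subtype_injective _))
          fun t ht => Subgroup.mem_subgroupOf.mpr (hS ⟨t, ht, rfl⟩)
      have hKB : K ≤ base X := hKL.trans le_sup_left
      have h2 : T₀.relIndex K = (S : Subgroup X).relIndex K := by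
        rw [hT₀, ← h1, Subgroup.subgroupOf_map_subtype, ← Subgroup.inf_relIndex_right,
          inf_assoc, inf_eq_right.mpr hKB, Subgroup.inf_relIndex_right]
      rw [h2]
      exact CharCore.not_dvd_relIndex_of_isSubnormal hK.1 S
    have hex : ∃ t ∈ T₀ ⊓ K, ¬ π t ∈ Subgroup.centralizer (K.map π : Set _) := by
      by_contra hcon
      push Not at hcon
      refine center_ne_top_of_isQuasisimple hW.2
        (eq_top_of_coprime_index (p := 2) (pPrimeCore_quotient_eq_bot 2) hW _ ?_)
      have h3 : ((T₀ ⊓ K).subgroupOf K).map (π.subgroupMap K) ≤ Subgroup.center ↥(K.map π) := by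
        rintro _ ⟨u, hu, rfl⟩
        exact Subgroup.mem_center_iff.mpr fun w => Subtype.ext
          (Subgroup.mem_centralizer_iff.mp (hcon u (Subgroup.mem_subgroupOf.mp hu)) w w.2)
      refine Nat.Coprime.coprime_dvd_left ((Subgroup.index_dvd_of_le h3).trans
        (Subgroup.index_map_dvd _ (π.subgroupMap_surjective K))) ?_
      show ((T₀ ⊓ K).relIndex K).Coprime 2
      rw [Subgroup.inf_relIndex_right]
      exact ((Nat.Prime.coprime_iff_not_dvd Nat.prime_two).mpr hd).symm
    obtain ⟨t, ⟨htT, htK⟩, htnc⟩ := hex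
    have hgt : g * t * g⁻¹ = t := by
      rw [← Subgroup.mem_centralizer_iff.mp (coreCent_le_centralizer T₀ hg) t htT,
        mul_inv_cancel_right]
    have hsame : (K.map π).map (MulAut.conj (π g)).toMonoidHom = K.map π := by
      by_contra hne
      refine htnc (Subgroup.commutator_eq_bot_iff_le_centralizer.mp (commutator_eq_bot_of_ne
        (isComponent_map_equiv (MulAut.conj (π g)) hW) hW hne) ⟨π t, ⟨t, htK, rfl⟩, ?_⟩)
      show π g * π t * (π g)⁻¹ = π t
      rw [← map_inv, ← map_mul, ← map_mul, hgt]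
    exact Subgroup.mem_normalizer_fintype fun n hn => hsame.le ⟨n, hn, rfl⟩

end CfsgLib.Layer.ExtendedTwoLayer
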