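import Mathlib
import Cfsg.Prelude.Def_Balance
import Cfsg.Agent.Lib.Layer.ExtendedTwoLayer
import Cfsg.Agent.Lib.Layer.LBalance
import Cfsg.Agent.Lib.Layer.Characteristic
import Cfsg.Agent.Lib.Layer.PComponentTop
import Cfsg.Agent.Lib.Layer.Lift

/-!
# Core balance

`O(C_X(R)) ≤ L*_{2'}(X)` for every 2-subgroup `R` of a finite group `X`. By downward induction on
`R`: either a larger 2-group inside `R (P ∩ base)` carries the fixed points, or `R` contains a Sylow
2-subgroup `T` of the base; and `C_X(T)` has a normal 2-complement by Glauberman's theorem on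
automorphisms centralising a Sylow 2-subgroup.
-/

set_option autoImplicit false
set_option linter.style.haveILetI false
set_option linter.unusedSectionVars false

open scoped commutatorElement

namespace CfsgLib.Layer.CoreBalance

open Cfsg
open CfsgLib.Layer
open CfsgLib.Layer.ExtendedTwoLayer

variable {X : Type*} [Group X] [Finite X]

theorem eq_one_of_coprime {g : X} {n : ℕ} (h1 : g ^ n = 1) (h2 : n.Coprime (orderOf g)) : g = 1 :=
  orderOf_eq_one_iff.mp (Nat.dvd_one.mp (h2.gcd_eq_one ▸ Nat.dvd_gcd (orderOf_dvd_of_pow_eq_one h1) dvd_rfl))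

/-- With trivial core, the centralizer of a 2-group holding `O_2` and a Sylow 2-subgroup of the
layer has only `p`-automizers. -/
theorem pAutomizers_centralizer (hO : pPrimeCore 2 X = ⊥) (P : Sylow 2 X) {S : Subgroup X}
    (hES : (P : Subgroup X) ⊓ layer X ≤ S) (hQS : pCore 2 X ≤ S) :
    Transfer.PAutomizers 2 ↥(Subgroup.centralizer (S : Set X)) := by
  haveI : Fact (Nat.Prime 2) := ⟨Nat.prime_two⟩
  haveI := layer_normal (G := X)
  set E := layer X with hE
  set C := Subgroup.centralizer (S : Set X) with hC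
  have hSp : IsPGroup 2 ↥((P : Subgroup X).subgroupOf E) :=
    P.2.comap_of_injective E.subtype E.subtype_injective
  let T : Sylow 2 ↥E := hSp.toSylow
    (CharCore.not_dvd_relIndex_of_isSubnormal (inferInstance : E.Normal).isSubnormal P)
  have hOE : pPrimeCore 2 ↥E = ⊥ := by
    refine (Subgroup.map_eq_bot_iff_of_injective _ E.subtype_injective).mp (eq_bot_iff.mpr ?_)
    exact (PSolvable.map_pPrimeCore_le E).trans hO.le
  have hCE : C ≤ Subgroup.normalizer (E : Set X) := Subgroup.le_normalizer_of_normal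
  let ρ : ↥C →* ↥(ZStar.fixingAut (T : Subgroup ↥E)) :=
    (E.normalizerMonoidHom.comp (Subgroup.inclusion hCE)).codRestrict _ fun c t ht => Subtype.ext (by
      show (c : X) * t * (c : X)⁻¹ = t
      rw [mul_inv_eq_iff_eq_mul]
      exact (Subgroup.mem_centralizer_iff.mp c.2 t (hES ⟨Subgroup.mem_subgroupOf.mp ht, t.2⟩)).symm)
  have hker : ∀ w : ↥C, ρ w = 1 → (w : X) ∈ S := by
    intro w hw
    have hwE : (w : X) ∈ Subgroup.centralizer (E : Set X) :=
      Subgroup.mem_centralizer_iff.mpr fun z hz => by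
        have h1 : (w : X) * z * (w : X)⁻¹ = z :=
          congrArg (fun ψ : ↥(ZStar.fixingAut (T : Subgroup ↥E)) =>
            ((((ψ : MulAut ↥E)) ⟨z, hz⟩ : ↥E) : X)) hw
        exact (mul_inv_eq_iff_eq_mul.mp h1).symm
    haveI : (generalizedFittingSubgroup X).Normal := generalizedFitting_normal
    set F := generalizedFittingSubgroup X with hF
    have hwF : (w : X) ∈ Subgroup.centralizer (F : Set X) := by
      rw [← Subgroup.zpowers_le, hF, generalizedFittingSubgroup, fittingSubgroup_eq_pCore hO,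
        Subgroup.le_centralizer_iff]
      refine sup_le ?_ ?_ <;> rw [Subgroup.le_centralizer_iff, Subgroup.zpowers_le]
      · exact hwE
      · exact Subgroup.centralizer_le hQS w.2
    set Z := F ⊓ Subgroup.centralizer (F : Set X) with hZ
    have hZab : IsMulCommutative ↥Z := ⟨⟨fun a b => Subtype.ext
      (Subgroup.mem_centralizer_iff.mp b.2.2 a a.2.1)⟩⟩
    have hZn : Group.IsNilpotent ↥Z := by
      haveI := hZab
      letI : CommGroup ↥Z := { (inferInstance : Group ↥Z) with mul_comm := mul_comm' }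
      exact CommGroup.isNilpotent
    have h := Fitting.le_fittingSubgroup (G := X) (N := Z) inferInstance hZn
      ⟨centralizer_generalizedFitting_le hwF, hwF⟩
    rw [fittingSubgroup_eq_pCore hO] at h
    exact hQS h
  intro Q hQ x hx hxc
  refine Subgroup.mem_centralizer_iff.mpr fun q hq => ?_
  have hρ := ZStar.pAutomizers_fixingAut hOE T (Q.map ρ) (hQ.map ρ) (ρ x)
    (Subgroup.le_normalizer_map ρ ⟨x, hx, rfl⟩) (hxc.coprime_dvd_left (orderOf_map_dvd ρ x))
  have h1 : ρ q * ρ x = ρ x * ρ q := Subgroup.mem_centralizer_iff.mp hρ _ ⟨q, hq, rfl⟩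
  set c := x * q * x⁻¹ * q⁻¹ with hc
  have hcQ : c ∈ Q := mul_mem ((Subgroup.mem_normalizer_iff.mp hx q).mp hq) (inv_mem hq)
  have hcS : (c : X) ∈ S := hker c (by
    rw [hc, map_mul, map_mul, map_mul, map_inv, map_inv, ← h1]
    group)
  have hcen : ∀ d : ↥C, Commute c d := fun d => Subtype.ext
    (Subgroup.mem_centralizer_iff.mp d.2 (c : X) hcS)
  have hn : ∀ n : ℕ, x ^ n * q * (x ^ n)⁻¹ = c ^ n * q := by
    intro n
    induction n with
    | zero => group
    | succ n ih =>
      calc x ^ (n + 1) * q * (x ^ (n + 1))⁻¹ = x * (x ^ n * q * (x ^ n)⁻¹) * x⁻¹ := by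
            rw [pow_succ']; group
        _ = (x * c ^ n) * q * x⁻¹ := by rw [ih]; group
        _ = c ^ n * (x * q * x⁻¹) := by rw [← ((hcen x).pow_left n).eq]; group
        _ = c ^ n * (c * q) := by rw [show c * q = x * q * x⁻¹ from inv_mul_cancel_right _ _]
        _ = c ^ (n + 1) * q := by rw [pow_succ]; exact (mul_assoc _ c q).symm
  have hcn : c ^ orderOf x = 1 := by
    have h := hn (orderOf x)
    rw [pow_orderOf_eq_one, inv_one, one_mul, mul_one] at h
    exact (mul_eq_right.mp h.symm)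
  obtain ⟨k, hk⟩ := IsPGroup.iff_orderOf.mp hQ ⟨c, hcQ⟩
  rw [← Subgroup.orderOf_coe] at hk
  have hc1 : c = 1 := eq_one_of_coprime hcn (by
    show (orderOf x).Coprime (orderOf c)
    rw [show orderOf c = 2 ^ k from hk]
    exact hxc.pow_right k)
  have h2 : x * q * x⁻¹ * q⁻¹ = 1 := hc1
  rw [mul_inv_eq_one, mul_inv_eq_iff_eq_mul] at h2
  exact h2.symm

/-- Elements of odd order centralising the base's Sylow 2-subgroup lie in the core of that
centralizer. -/
theorem mem_coreCent (P : Sylow 2 X) {g : X}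
    (hg : g ∈ Subgroup.centralizer (((P : Subgroup X) ⊓ base X : Subgroup X) : Set X))
    (hodd : (orderOf g).Coprime 2) : g ∈ coreCent ((P : Subgroup X) ⊓ base X) := by
  haveI : Fact (Nat.Prime 2) := ⟨Nat.prime_two⟩
  haveI := Transfer.pPrimeCore_normal 2 X
  haveI hBn := base_normal (X := X)
  set T := (P : Subgroup X) ⊓ base X with hT
  set π := QuotientGroup.mk' (pPrimeCore 2 X) with hπ
  have hπs : Function.Surjective π := QuotientGroup.mk'_surjective _
  set Pb : Sylow 2 (X ⧸ pPrimeCore 2 X) := P.mapSurjective hπs with hPb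
  have hPbc : (Pb : Subgroup (X ⧸ pPrimeCore 2 X)) = (P : Subgroup X).map π := rfl
  set Bb := (base X).map π with hBb
  have hQB : pCore 2 (X ⧸ pPrimeCore 2 X) ≤ Bb := by
    refine le_trans (le_of_eq ?_) (Subgroup.map_mono (le_sup_right : pPrimePCore 2 X ≤ base X))
    exact (Subgroup.map_comap_eq_self_of_surjective hπs _).symm
  have hEB : layer (X ⧸ pPrimeCore 2 X) ≤ Bb := by
    refine sSup_le fun L hL => ?_
    have hL' : IsComponent L := hL
    rw [← map_pComponentOf hL']
    exact Subgroup.map_mono ((le_sSup (s := {K | IsPComponent 2 K})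
      (isPComponent_pComponentOf hL')).trans le_sup_left)
  have hTp : IsPGroup 2 ↥T := P.2.to_le inf_le_left
  have hle : T.map π ≤ (Pb : Subgroup (X ⧸ pPrimeCore 2 X)) ⊓ Bb :=
    le_inf (Subgroup.map_mono inf_le_left) (Subgroup.map_mono inf_le_right)
  have hTeq : (Pb : Subgroup (X ⧸ pPrimeCore 2 X)) ⊓ Bb ≤ T.map π := by
    have hd : ¬ 2 ∣ T.relIndex (base X) := by
      rw [hT, Subgroup.inf_relIndex_right]
      exact CharCore.not_dvd_relIndex_of_isSubnormal hBn.isSubnormal P
    have h1 : (T.map π).relIndex Bb ∣ T.relIndex (base X) := by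
      have hker : π.ker ≤ base X := by
        rw [hπ, QuotientGroup.ker_mk']
        refine le_trans (fun z hz => ?_) (le_sup_right : pPrimePCore 2 X ≤ base X)
        have h1 : QuotientGroup.mk' (pPrimeCore 2 X) z = 1 := (QuotientGroup.eq_one_iff z).mpr hz
        exact Subgroup.mem_comap.mpr (h1 ▸ one_mem _)
      rw [Subgroup.relIndex_map_map, sup_eq_left.mpr hker]
      exact Subgroup.relIndex_dvd_of_le_left _ le_sup_left
    have h2 := Subgroup.relIndex_mul_relIndex _ _ _ hle (inf_le_right)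
    obtain ⟨k, hk⟩ := IsPGroup.iff_card.mp (Pb.2.to_le (inf_le_left (b := Bb)))
    have h3 : (T.map π).relIndex ((Pb : Subgroup (X ⧸ pPrimeCore 2 X)) ⊓ Bb) ∣ 2 ^ k :=
      hk ▸ Subgroup.relIndex_dvd_card _ _
    obtain ⟨j, -, hj⟩ := (Nat.dvd_prime_pow Nat.prime_two).mp h3
    rcases j with _ | j
    · exact Subgroup.relIndex_eq_one.mp (by rw [hj, pow_zero])
    · exact absurd ((dvd_pow_self 2 j.succ_ne_zero).trans (hj ▸ (Dvd.intro _ h2).trans h1)) hd
  set C := Subgroup.centralizer (T : Set X) with hC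
  set Cb := Subgroup.centralizer ((T.map π : Subgroup _) : Set (X ⧸ pPrimeCore 2 X)) with hCb
  have hauto := pAutomizers_centralizer (pPrimeCore_quotient_eq_bot 2) Pb
    ((inf_le_inf_left _ hEB).trans hTeq)
    ((le_inf (fun x hx => Fitting.mem_pCore_iff_forall_sylow.mp hx Pb) hQB).trans hTeq)
  obtain ⟨P', M, hM, hcompl⟩ := Transfer.hasNormalPComplement_of_pAutomizers hauto
  haveI := hM
  let ψ : ↥C →* ↥Cb := (π.comp C.subtype).codRestrict Cb fun c => by
    refine Subgroup.mem_centralizer_iff.mpr ?_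
    rintro _ ⟨t, ht, rfl⟩
    show π t * π c = π c * π t
    rw [← map_mul, ← map_mul, Subgroup.mem_centralizer_iff.mp c.2 t ht]
  have hNc : (Nat.card ↥(M.comap ψ)).Coprime 2 := by
    refine ((Nat.Prime.coprime_iff_not_dvd Nat.prime_two).mpr fun h2 => ?_).symm
    obtain ⟨⟨c, hcM⟩, hc2⟩ := exists_prime_orderOf_dvd_card' 2 h2
    rw [← Subgroup.orderOf_coe] at hc2
    have hc2' : orderOf c = 2 := hc2
    have hψ1 : ψ c = 1 := by
      refine eq_one_of_coprime (n := 2) ?_ ?_
      · have h4 : c ^ 2 = 1 := orderOf_dvd_iff_pow_eq_one.mp (dvd_of_eq hc2')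
        rw [← map_pow, h4, map_one]
      · exact ((Transfer.coprime_card_of_isComplement' hcompl).coprime_dvd_left
          (Subgroup.orderOf_dvd_natCard M hcM)).symm
    have hcO : (c : X) ∈ pPrimeCore 2 X :=
      (QuotientGroup.eq_one_iff _).mp (congrArg Subtype.val hψ1)
    have h3 := (Transfer.pPrimeCore_coprime (G := X) 2).coprime_dvd_left
      (Subgroup.orderOf_dvd_natCard _ hcO)
    rw [Subgroup.orderOf_coe, hc2'] at h3
    exact absurd h3 (by norm_num)
  have hgM : (⟨g, hg⟩ : ↥C) ∈ M.comap ψ := by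
    rw [Subgroup.mem_comap, ← QuotientGroup.eq_one_iff]
    set u : ↥Cb ⧸ M := QuotientGroup.mk' M (ψ ⟨g, hg⟩) with hu
    obtain ⟨k, hk⟩ := IsPGroup.iff_orderOf.mp (Transfer.isPGroup_quotient_of_isComplement' hcompl) u
    refine eq_one_of_coprime (g := u) (n := orderOf g) ?_ ?_
    · rw [hu, ← map_pow, ← map_pow]
      have : (⟨g, hg⟩ : ↥C) ^ orderOf g = 1 := Subtype.ext (pow_orderOf_eq_one g)
      rw [this, map_one, map_one]
    · rw [hk]; exact hodd.pow_right k
  exact ⟨⟨g, hg⟩, Transfer.le_pPrimeCore inferInstance hNc hgM, rfl⟩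

/-- Odd order elements of the base lie in the layer times the core. -/
theorem mem_sup_of_odd {g : X} (hg : g ∈ base X) (hodd : (orderOf g).Coprime 2) :
    g ∈ pLayer 2 X ⊔ oddCore X := by
  haveI : Fact (Nat.Prime 2) := ⟨Nat.prime_two⟩
  haveI := LBalance.pLayer_normal 2 X
  haveI := Transfer.pPrimeCore_normal 2 X
  haveI : (pLayer 2 X ⊔ oddCore X).Normal := Subgroup.sup_normal _ _
  obtain ⟨T⟩ : Nonempty (Sylow 2 ↥(base X)) := inferInstance
  set f := QuotientGroup.mk' (pLayer 2 X ⊔ oddCore X) with hf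
  have h1 := Subgroup.mem_map_of_mem f (base_le_sup T hg)
  rw [Subgroup.map_sup, (Subgroup.map_eq_bot_iff _).mpr (by rw [hf, QuotientGroup.ker_mk']),
    bot_sup_eq] at h1
  obtain ⟨k, hk⟩ := IsPGroup.iff_orderOf.mp ((T.2.map _).map f) ⟨f g, h1⟩
  rw [← Subgroup.orderOf_coe] at hk
  refine (QuotientGroup.eq_one_iff g).mp (eq_one_of_coprime (g := f g) (n := orderOf g) ?_ ?_)
  · rw [← map_pow, pow_orderOf_eq_one, map_one]
  · rw [show orderOf (f g) = 2 ^ k from hk]; exact hodd.pow_right k

/-- **Core balance.** -/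
theorem coreCent_le {R : Subgroup X} (hR : IsPGroup 2 R) : coreCent R ≤ extendedTwoLayer X := by
  haveI : Fact (Nat.Prime 2) := ⟨Nat.prime_two⟩
  obtain ⟨m, hm⟩ : ∃ m, Nat.card X - Nat.card R = m := ⟨_, rfl⟩
  induction m using Nat.strong_induction_on generalizing R with
  | _ m IH =>
  haveI := base_normal (X := X)
  obtain ⟨P, hRP⟩ := hR.exists_le_sylow
  set B := base X with hB
  set T := (P : Subgroup X) ⊓ B with hT
  set D := coreCent R with hD
  set U := T ⊓ Subgroup.normalizer (R : Set X) with hU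
  have hDodd : ∀ d ∈ D, (orderOf d).Coprime 2 := fun d hd =>
    (coreCent_odd R).coprime_dvd_left (Subgroup.orderOf_dvd_natCard D hd)
  by_cases hUR : U ≤ R
  · have hTR : T ≤ R := by
      by_contra hST
      have hlt : R < R ⊔ T := left_lt_sup.mpr hST
      have hleP : R ⊔ T ≤ P := sup_le hRP inf_le_left
      haveI : Group.IsNilpotent ↥(R ⊔ T) := (P.2.to_le hleP).isNilpotent
      have hne : R.subgroupOf (R ⊔ T) < ⊤ := lt_top_iff_ne_top.mpr fun he =>
        hlt.not_ge (Subgroup.subgroupOf_eq_top.mp he)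
      obtain ⟨⟨z, hz⟩, hzN, hzT⟩ :=
        SetLike.exists_of_lt (Group.normalizerCondition_of_isNilpotent (R.subgroupOf (R ⊔ T)) hne)
      have hzN' : z ∈ Subgroup.normalizer (R : Set X) := by
        refine Subgroup.mem_normalizer_fintype fun t ht => ?_
        exact (Subgroup.mem_normalizer_iff.mp hzN ⟨t, Subgroup.mem_sup_left ht⟩).mp ht
      have hTn : R ≤ Subgroup.normalizer (T : Set X) :=
        hRP.trans (Coprime.le_normalizer_inf_of_le Subgroup.le_normalizer Subgroup.le_normalizer_of_normal)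
      rw [← SetLike.mem_coe, Subgroup.coe_mul_of_left_le_normalizer_right R _ hTn, Set.mem_mul] at hz
      obtain ⟨t, ht, s, hs, rfl⟩ := hz
      have hsN : s ∈ Subgroup.normalizer (R : Set X) := by
        rw [show s = t⁻¹ * (t * s) by rw [inv_mul_cancel_left]]
        exact mul_mem (inv_mem (Subgroup.le_normalizer ht)) hzN'
      exact hzT (mul_mem ht (hUR ⟨hs, hsN⟩))
    have hTp : IsPGroup 2 ↥((P : Subgroup X).subgroupOf B) :=
      P.2.comap_of_injective B.subtype B.subtype_injective
    let T' : Sylow 2 ↥B := hTp.toSylow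
      (CharCore.not_dvd_relIndex_of_isSubnormal (inferInstance : B.Normal).isSubnormal P)
    have hT' : (T' : Subgroup ↥B).map B.subtype = T := by
      show ((P : Subgroup X).subgroupOf B).map B.subtype = T
      rw [Subgroup.subgroupOf_map_subtype]
    rw [extendedTwoLayer_eq T', hT']
    intro d hd
    exact Subgroup.mem_sup_right (mem_coreCent P
      (Subgroup.centralizer_le hTR (coreCent_le_centralizer R hd)) (hDodd d hd))
  · set R₁ := R ⊔ U with hR₁
    have hUp : IsPGroup 2 U := P.2.to_le (inf_le_left.trans inf_le_left)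
    have hR₁p : IsPGroup 2 R₁ := P.2.to_le (sup_le hRP (inf_le_left.trans inf_le_left))
    have hcard : Nat.card X - Nat.card R₁ < m := by
      have hlt : Nat.card R < Nat.card R₁ := lt_of_not_ge fun hle =>
        hUR (le_sup_right.trans (Subgroup.eq_of_le_of_card_ge le_sup_left hle).ge)
      have := Subgroup.card_le_card_group R₁
      omega
    have ih := IH _ hcard hR₁p rfl
    have hUD : U ≤ Subgroup.normalizer (D : Set X) :=
      inf_le_right.trans (normalizer_le_normalizer_coreCent R)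
    have hcop : (Nat.card U).Coprime (Nat.card D) := by
      obtain ⟨n, hn⟩ := IsPGroup.iff_card.mp hUp
      rw [hn]
      exact Nat.Coprime.pow_left n (coreCent_odd R).symm
    haveI : Group.IsNilpotent ↥U := hUp.isNilpotent
    rw [← Coprime.commutator_sup_centralizer hUD hcop (Or.inl inferInstance)]
    refine sup_le (fun g hg => ?_) ?_
    · have hgB : g ∈ B := Subgroup.commutator_le_right D B
        (Subgroup.commutator_mono le_rfl (inf_le_left.trans inf_le_right) hg)
      have hgD : g ∈ D := Coprime.commutator_le_left_of_le_normalizer hUD hg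
      exact (le_sup_left : pLayer 2 X ⊔ oddCore X ≤ extendedTwoLayer X) (mem_sup_of_odd hgB (hDodd g hgD))
    · have hle : D ⊓ Subgroup.centralizer (U : Set X) ≤ Subgroup.centralizer (R₁ : Set X) := by
        rw [Subgroup.le_centralizer_iff]
        refine sup_le ?_ ?_ <;> rw [Subgroup.le_centralizer_iff]
        · exact inf_le_left.trans (coreCent_le_centralizer R)
        · exact inf_le_right
      have hRR : Subgroup.centralizer (R₁ : Set X) ≤ Subgroup.centralizer (R : Set X) :=
        Subgroup.centralizer_le (le_sup_left : R ≤ R ⊔ U)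
      haveI := Transfer.pPrimeCore_normal 2 ↥(Subgroup.centralizer (R : Set X))
      intro g hg
      set ι := Subgroup.inclusion hRR with hι
      have hcopι : (Nat.card ↥((pPrimeCore 2 ↥(Subgroup.centralizer (R : Set X))).comap ι)).Coprime 2 := by
        rw [← Subgroup.card_map_of_injective (f := ι) (Subgroup.inclusion_injective hRR)]
        exact (Transfer.pPrimeCore_coprime 2).coprime_dvd_left
          (Subgroup.card_dvd_of_le (Subgroup.map_comap_le _ _))
      obtain ⟨⟨d, hd⟩, hdO, hde⟩ := hg.1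
      refine ih ⟨⟨g, hle hg⟩, Transfer.le_pPrimeCore inferInstance hcopι ?_, rfl⟩
      rw [Subgroup.mem_comap]
      have hgd : ι ⟨g, hle hg⟩ = ⟨d, hd⟩ := Subtype.ext (show g = d from hde.symm)
      exact hgd ▸ hdO

theorem range_codRestrict_eq {Y : Type*} [Group Y] (f : Y →* X) {B : Subgroup X}
    (h : ∀ y, f y ∈ B) : (f.codRestrict B h).range = f.range.subgroupOf B := by
  ext z
  constructor
  · rintro ⟨a, rfl⟩
    exact ⟨a, rfl⟩
  · rintro ⟨a, ha⟩
    exact ⟨a, Subtype.ext ha⟩

/-- The extended 2-layer of a normal subgroup of the centralizer of a 2-subgroup lies in the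
extended 2-layer. -/
theorem map_extendedTwoLayer_le {R : Subgroup X} (hR : IsPGroup 2 R) {Y : Type*} [Group Y]
    [Finite Y] (f : Y →* X) (hf : Function.Injective f)
    (hHC : f.range ≤ Subgroup.centralizer (R : Set X))
    (hn : (f.range.subgroupOf (Subgroup.centralizer (R : Set X))).Normal) :
    (extendedTwoLayer Y).map f ≤ extendedTwoLayer X := by
  haveI : Fact (Nat.Prime 2) := ⟨Nat.prime_two⟩
  set C := Subgroup.centralizer (R : Set X) with hC
  haveI := Transfer.pPrimeCore_normal 2 Y
  have hHn : C ≤ Subgroup.normalizer (f.range : Set X) :=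
    (Subgroup.normal_subgroupOf_iff_le_normalizer hHC).mp hn
  set ι := f.codRestrict C fun y => hHC ⟨y, rfl⟩ with hι
  have hιi : Function.Injective ι := fun a b h => hf (congrArg Subtype.val h)
  haveI hιn : ι.range.Normal := by rw [hι, range_codRestrict_eq]; exact hn
  rw [extendedTwoLayer_eq_iSup, Subgroup.map_sup, Subgroup.map_sup, Subgroup.map_iSup]
  refine sup_le (sup_le ?_ ?_) (iSup_le fun T => ?_)
  · -- the layer
    refine le_trans ?_ ((LBalance.pLayer_centralizer_le hR).trans (le_sup_left.trans le_sup_left))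
    rw [pLayer, Subgroup.map_le_iff_le_comap]
    refine sSup_le fun K hK => ?_
    rw [← Subgroup.map_le_iff_le_comap]
    have hK' := Lift.isPComponent_map (p := 2) ι hιi hιn.isSubnormal (show IsPComponent 2 K from hK)
    refine le_trans (le_of_eq ?_) (Subgroup.map_mono (le_sSup (s := {L | IsPComponent 2 L}) hK'))
    rw [Subgroup.map_map]
    rfl
  · -- the core
    refine le_trans ?_ (coreCent_le hR)
    rintro g ⟨h, hh, rfl⟩
    exact ⟨ι h, PSolvable.map_pPrimeCore_le ι.range ⟨_, CfsgLib.Layer.map_pPrimeCore_le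
      (MonoidHom.ofInjective hιi) ⟨h, hh, rfl⟩, rfl⟩, rfl⟩
  · -- the cores of centralizers
    set T₀ := (T : Subgroup ↥(base Y)).map (base Y).subtype with hT₀
    set T₁ := T₀.map f with hT₁
    have hT₁H : T₁ ≤ f.range := Subgroup.map_le_range f T₀
    have hT₁p : IsPGroup 2 ↥T₁ := ((T.2.map _).map _)
    have hRT : R ≤ Subgroup.normalizer (T₁ : Set X) :=
      le_trans (Subgroup.le_centralizer_iff.mp (hT₁H.trans hHC))
        (Subgroup.centralizer_le_normalizer _)
    have hRTp : IsPGroup 2 ↥(R ⊔ T₁) := hR.to_sup_of_normal_right' hT₁p hRT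
    refine le_trans ?_ (coreCent_le hRTp)
    set CH := Subgroup.centralizer (T₀ : Set Y) with hCH
    set C₁ := Subgroup.centralizer ((R ⊔ T₁ : Subgroup X) : Set X) with hC₁
    let ψ : ↥CH →* ↥C₁ := (f.comp CH.subtype).codRestrict C₁ fun c => by
      refine (Subgroup.le_centralizer_iff.mp (?_ : R ⊔ T₁ ≤ Subgroup.centralizer
        ((Subgroup.zpowers (f (c : Y)) : Subgroup X) : Set X))) (Subgroup.mem_zpowers _)
      refine sup_le ?_ ?_ <;> rw [Subgroup.le_centralizer_iff, Subgroup.zpowers_le]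
      · exact hHC ⟨_, rfl⟩
      · refine Subgroup.mem_centralizer_iff.mpr ?_
        rintro _ ⟨t, ht, rfl⟩
        rw [← map_mul, ← map_mul, Subgroup.mem_centralizer_iff.mp c.2 t ht]
    have hψi : Function.Injective ψ := fun a b h =>
      Subtype.ext (hf (congrArg (fun w : ↥C₁ => (w : X)) h))
    haveI hψn : ψ.range.Normal := by
      refine ⟨fun g hg d => ?_⟩
      obtain ⟨c, rfl⟩ := hg
      have hdH : (d : X) ∈ Subgroup.normalizer (f.range : Set X) :=
        hHn (Subgroup.centralizer_le (le_sup_left : R ≤ R ⊔ T₁) d.2)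
      have hmem : ((d * ψ c * d⁻¹ : ↥C₁) : X) ∈ f.range :=
        (Subgroup.mem_normalizer_iff.mp hdH _).mp ⟨(c : Y), rfl⟩
      obtain ⟨y, hy⟩ := hmem
      refine ⟨⟨y, Subgroup.mem_centralizer_iff.mpr fun t ht => hf ?_⟩, Subtype.ext hy⟩
      rw [map_mul, map_mul, hy]
      exact Subgroup.mem_centralizer_iff.mp (d * ψ c * d⁻¹).2 (f t)
        (Subgroup.mem_sup_right ⟨t, ht, rfl⟩)
    rintro g ⟨h, ⟨c, hc, rfl⟩, rfl⟩
    exact ⟨ψ c, PSolvable.map_pPrimeCore_le ψ.range ⟨_, CfsgLib.Layer.map_pPrimeCore_le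
      (MonoidHom.ofInjective hψi) ⟨c, hc, rfl⟩, rfl⟩, rfl⟩

end CfsgLib.Layer.CoreBalance
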