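import Cfsg.Agent.Lib.Layer.Trichotomy
import Cfsg.Agent.Lib.Layer.CoCentralizer
import Cfsg.Agent.Lib.Layer.StandardRankOne
import Cfsg.Agent.Lib.Layer.Lift

/-!
A standard subgroup in a core-free group: normal, diagonal, or inside a simple layer.
-/

set_option autoImplicit false
set_option linter.style.haveILetI false
set_option linter.unusedSectionVars false

open scoped commutatorElement

namespace CfsgLib.Layer.StandardTrichotomy

open Cfsg
open CfsgLib.Layer

universe u

variable {G : Type u} [Group G] [Finite G] {A : Subgroup G}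

theorem dvd_card_of_isQuasisimple {X : Type*} [Group X] [Finite X] (hX : IsQuasisimple X) :
    2 ∣ Nat.card X := by
  by_contra h
  exact not_isSolvable_of_isQuasisimple hX
    (CfsgLib.OddConseq.oddSolvable _ (Nat.odd_iff.mpr (Nat.two_dvd_ne_zero.mp h)))

theorem le_normalizer_of_centralizes (hA : IsStandardSubgroup A) {x : G} (hx : orderOf x = 2)
    (hxA : x ∈ Subgroup.centralizer (A : Set G)) {D : Subgroup G}
    (hD : D ≤ Subgroup.centralizer ({x} : Set G)) : D ≤ Subgroup.normalizer (A : Set G) :=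
  fun _ hd => StandardRankOne.centralizer_involution_le A hA hxA hx
    (Subgroup.mem_centralizer_singleton_iff.mp (hD hd))

theorem le_normalizer_of_other (hA : IsStandardSubgroup A) {K D : Subgroup G}
    (hK : IsQuasisimple K) (hKA : K ≤ Subgroup.centralizer (A : Set G))
    (hKD : K ≤ Subgroup.centralizer (D : Set G)) : D ≤ Subgroup.normalizer (A : Set G) := by
  haveI : Fact (Nat.Prime 2) := ⟨Nat.prime_two⟩
  obtain ⟨x, hx⟩ := exists_prime_orderOf_dvd_card' (G := K) 2 (dvd_card_of_isQuasisimple hK)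
  exact le_normalizer_of_centralizes hA (by rw [← hx, Subgroup.orderOf_coe]) (hKA x.2)
    fun d hd => Subgroup.mem_centralizer_singleton_iff.mpr
      (Subgroup.mem_centralizer_iff.mp (hKD x.2) d hd)

theorem center_eq_bot (hA : IsStandardSubgroup A) (hO : oddCore G = ⊥) {D : Subgroup G}
    (hD : IsComponent D) (hDA : ¬ D ≤ Subgroup.normalizer (A : Set G))
    (hZ : ∀ z : ↥D, z ∈ Subgroup.center ↥D → (z : G) ∈ Subgroup.centralizer (A : Set G)) :
    Subgroup.center ↥D = ⊥ := by
  haveI : Fact (Nat.Prime 2) := ⟨Nat.prime_two⟩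
  by_cases hev : 2 ∣ Nat.card (Subgroup.center ↥D)
  · exfalso
    obtain ⟨x, hx⟩ := exists_prime_orderOf_dvd_card' (G := Subgroup.center ↥D) 2 hev
    refine hDA (le_normalizer_of_centralizes hA (x := ((x : ↥D) : G))
      (by rw [← hx, Subgroup.orderOf_coe, Subgroup.orderOf_coe]) (hZ x x.2) fun d hd => ?_)
    exact Subgroup.mem_centralizer_singleton_iff.mpr
      (congrArg Subtype.val (Subgroup.mem_center_iff.mp x.2 ⟨d, hd⟩))
  · have h := Transfer.le_pPrimeCore (p := 2) (inferInstance : (Subgroup.center ↥D).Normal)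
      (Nat.Prime.coprime_iff_not_dvd Nat.prime_two |>.mpr hev).symm
    rw [Lift.pPrimeCore_component_eq_bot hO hD.1] at h
    exact le_bot_iff.mp h

theorem isSimpleGroup_of_center {X : Type*} [Group X] (hX : IsQuasisimple X)
    (hZ : Subgroup.center X = ⊥) : IsSimpleGroup X := by
  haveI := hX.2
  exact MulEquiv.isSimpleGroup
    ((QuotientGroup.quotientMulEquivOfEq hZ).trans QuotientGroup.quotientBot).symm

theorem not_isMulCommutative {X : Type*} [Group X] (hX : IsQuasisimple X) : ¬ IsMulCommutative X :=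
  fun h => center_ne_top_of_isQuasisimple hX (eq_top_iff.mpr fun x _ =>
    Subgroup.mem_center_iff.mpr fun y => h.is_comm.comm y x)

theorem eq_layer {D : Subgroup G} (hD : IsComponent D) (h : ∀ K, IsComponent K → K = D) :
    layer G = D :=
  le_antisymm (sSup_le fun K hK => (h K hK).le) (isComponent_le_layer hD)

theorem trichotomy (hA : IsStandardSubgroup A) (hO : oddCore G = ⊥) (t : G) (ht : orderOf t = 2)
    (htA : t ∈ Subgroup.centralizer (A : Set G)) :
    A.Normal ∨ (∃ X : Subgroup G, IsSimpleGroup ↥X ∧ ¬ IsMulCommutative ↥X ∧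
      Nonempty (↥X ≃* ↥A) ∧ (∀ a ∈ X, ∀ b ∈ X.map (MulAut.conj t).toMonoidHom, a * b = b * a) ∧
      X ⊓ X.map (MulAut.conj t).toMonoidHom = ⊥ ∧ X ⊔ X.map (MulAut.conj t).toMonoidHom = layer G ∧
      Subgroup.centralizer (A : Set G) = Subgroup.zpowers t) ∨
    (A ≤ layer G ∧ IsSimpleGroup ↥(layer G) ∧ ¬ IsMulCommutative ↥(layer G)) := by
  classical
  haveI : Fact (Nat.Prime 2) := ⟨Nat.prime_two⟩
  have hq : IsQuasisimple A := hA.1
  set C := Subgroup.centralizer ({t} : Set G) with hCdef
  have hAC : A ≤ C := fun a ha => Subgroup.mem_centralizer_singleton_iff.mpr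
    (Subgroup.mem_centralizer_iff.mp htA a ha)
  have hCN : C ≤ Subgroup.normalizer (A : Set G) :=
    le_normalizer_of_centralizes hA ht htA le_rfl
  have hAc : IsComponent (A.subgroupOf C) :=
    ⟨(Subgroup.normal_subgroupOf_of_le_normalizer hCN).isSubnormal,
      (isQuasisimple_congr (Subgroup.subgroupOfEquivOfLe hAC).symm).mp hq⟩
  have hAnc : ¬ ∀ a ∈ A, ∀ b ∈ A, a * b = b * a := fun h =>
    not_isMulCommutative hq ⟨⟨fun a b => Subtype.ext (h a a.2 b b.2)⟩⟩
  have hOb : pPrimeCore 2 G = ⊥ := hO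
  have hL2 : pLayer 2 G = layer G := le_antisymm
    (CoCentralizer.pLayer_le_layer (by rw [hOb, Subgroup.commutator_bot_right]))
    (sSup_le fun K hK => le_sSup (Trichotomy.isPComponent_of_isComponent hK))
  obtain ⟨D, hD, hcase⟩ := Trichotomy.main hL2 t ht A hAC hAc
  rcases hcase with h | ⟨hlt, -⟩ | ⟨hmove, hlay⟩
  · -- `A` is a component
    subst h
    refine Or.inl ⟨fun a ha g => ?_⟩
    have he : A.map (MulAut.conj g).toMonoidHom = A := by
      by_contra hne
      exact hA.2.2.1 g hne (commutator_eq_bot_of_ne hD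
        (isComponent_map_equiv (MulAut.conj g) hD) (Ne.symm hne))
    exact he.le ⟨a, ha, rfl⟩
  · -- inside one component
    refine Or.inr (Or.inr ?_)
    have hDA : ¬ D ≤ Subgroup.normalizer (A : Set G) := fun h => by
      haveI : (A.subgroupOf D).Normal := Subgroup.normal_subgroupOf_of_le_normalizer h
      rcases eq_top_or_le_center_of_normal hD.2 (A.subgroupOf D) with e | e
      · exact hlt.not_ge (Subgroup.subgroupOf_eq_top.mp e)
      · exact hAnc fun a ha b hb => congrArg Subtype.val
          (Subgroup.mem_center_iff.mp (e (x := ⟨b, hlt.le hb⟩) hb) ⟨a, hlt.le ha⟩)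
    have honly : ∀ K, IsComponent K → K = D := fun K hK => by
      by_contra hne
      have h1 : K ≤ Subgroup.centralizer (D : Set G) :=
        Subgroup.commutator_eq_bot_iff_le_centralizer.mp (commutator_eq_bot_of_ne hK hD hne)
      exact hDA (le_normalizer_of_other hA hK.2 (h1.trans (Subgroup.centralizer_le hlt.le)) h1)
    have hZ := center_eq_bot hA hO hD hDA fun z hz => Subgroup.mem_centralizer_iff.mpr fun a ha =>
      congrArg Subtype.val (Subgroup.mem_center_iff.mp hz ⟨a, hlt.le ha⟩)
    rw [eq_layer hD honly]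
    exact ⟨hlt.le, isSimpleGroup_of_center hD.2 hZ, not_isMulCommutative hD.2⟩
  · -- the diagonal
    refine Or.inr (Or.inl ?_)
    set D' := D.map (MulAut.conj t).toMonoidHom with hD'def
    have hD' : IsComponent D' := isComponent_map_equiv (MulAut.conj t) hD
    have ht2 : t * t = 1 := by rw [← pow_two, ← ht]; exact pow_orderOf_eq_one t
    have hti : t⁻¹ = t := inv_eq_of_mul_eq_one_right ht2
    have hσσ : ∀ z : G, t * (t * z * t⁻¹) * t⁻¹ = z := Trichotomy.conj_conj_of_two ht
    have hmem' : ∀ d ∈ D, t * d * t⁻¹ ∈ D' := fun d hd => ⟨d, hd, rfl⟩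
    have hmem : ∀ d ∈ D', t * d * t⁻¹ ∈ D := by
      rintro _ ⟨d, hd, rfl⟩
      show t * (t * d * t⁻¹) * t⁻¹ ∈ D
      rw [hσσ]; exact hd
    have hcomm : ∀ u ∈ D, ∀ v ∈ D', Commute u v := fun u hu v hv =>
      (Subgroup.mem_centralizer_iff.mp (Subgroup.commutator_eq_bot_iff_le_centralizer.mp
        (commutator_eq_bot_of_ne hD hD' (Ne.symm hmove)) hu) v hv).symm
    have hAM : A ≤ D ⊔ D' := by
      conv_lhs => rw [hlay]
      exact (Subgroup.map_subtype_le _).trans inf_le_left
    let θ : ↥D →* G :=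
      { toFun := fun j => j * (t * j * t⁻¹)
        map_one' := by simp
        map_mul' := fun u v => by
          show (u : G) * v * (t * (u * v) * t⁻¹) = u * (t * u * t⁻¹) * (v * (t * v * t⁻¹))
          have h := hcomm v v.2 _ (hmem' u u.2)
          calc (u : G) * v * (t * (u * v) * t⁻¹)
              = u * ((v : G) * (t * u * t⁻¹)) * (t * v * t⁻¹) := by group
            _ = u * (t * u * t⁻¹ * v) * (t * v * t⁻¹) := by rw [h.eq]
            _ = _ := by group }
    have hθ : ∀ j : ↥D, θ j = (j : G) * (t * j * t⁻¹) := fun _ => rfl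
    have hθC : θ.range ≤ C := by
      rintro _ ⟨j, rfl⟩
      refine Subgroup.mem_centralizer_singleton_iff.mpr ?_
      rw [hθ]
      calc (j : G) * (t * j * t⁻¹) * t = (t * j * t⁻¹) * j * t := by
            rw [(hcomm j j.2 _ (hmem' j j.2)).eq]
        _ = t * j * (t⁻¹ * j * t) := by group
        _ = t * j * (t * j * t⁻¹) := by simp only [hti]
        _ = _ := by group
    -- a fixed element of the product is diagonal modulo the intersection
    have hdec : ∀ a ∈ A, ∃ u : ↥D, ∃ z ∈ D ⊓ D', a = θ u * z := by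
      intro a ha
      have ha' : a ∈ ((D ⊔ D' : Subgroup G) : Set G) := hAM ha
      rw [Subgroup.coe_mul_of_right_le_normalizer_left D D'
        ((isComponent_le_layer hD').trans (component_normal_in_layer hD)), Set.mem_mul] at ha'
      obtain ⟨d, hd, e, he, rfl⟩ := ha'
      refine ⟨⟨d, hd⟩, (t * d * t⁻¹)⁻¹ * e, ?_, by rw [hθ]; group⟩
      have h1 : (t * d * t⁻¹)⁻¹ * e ∈ D' := mul_mem (inv_mem (hmem' d hd)) he
      refine ⟨?_, h1⟩
      have h2 : t * (d * e) * t⁻¹ = d * e := by
        rw [mul_inv_eq_iff_eq_mul]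
        exact (Subgroup.mem_centralizer_singleton_iff.mp (hAC ha)).symm
      have h3 : (t * d * t⁻¹)⁻¹ * e = (t * e * t⁻¹) * d⁻¹ := by
        rw [inv_mul_eq_iff_eq_mul, eq_comm]
        calc t * d * t⁻¹ * (t * e * t⁻¹ * d⁻¹) = t * (d * e) * t⁻¹ * d⁻¹ := by group
          _ = d * e * d⁻¹ := by rw [h2]
          _ = e := by rw [(hcomm d hd e he).eq, mul_inv_cancel_right]
      rw [h3]
      exact mul_mem (hmem e he) (D.inv_mem hd)
    have hzc : ∀ z ∈ D ⊓ D', ∀ g ∈ D ⊔ D', Commute g z := by
      intro z hz g hg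
      have : D ⊔ D' ≤ Subgroup.centralizer ({z} : Set G) := sup_le
        (fun u hu => Subgroup.mem_centralizer_singleton_iff.mpr (hcomm u hu z hz.2).eq)
        (fun v hv => Subgroup.mem_centralizer_singleton_iff.mpr (hcomm z hz.1 v hv).eq.symm)
      exact Subgroup.mem_centralizer_singleton_iff.mp (this hg)
    have hθM : ∀ u, θ u ∈ D ⊔ D' := fun u =>
      mul_mem (Subgroup.mem_sup_left u.2) (Subgroup.mem_sup_right (hmem' u u.2))
    have hAθ : A ≤ θ.range := by
      have hperf : ⁅A, A⁆ = A := Subgroup.isPerfect_iff.mp hq.1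
      rw [← hperf, Subgroup.commutator_le]
      intro a ha b hb
      obtain ⟨u, z, hz, rfl⟩ := hdec a ha
      obtain ⟨v, w, hw, rfl⟩ := hdec b hb
      rw [Trichotomy.commutator_mul_comm (hzc w hw _ (hθM u)) (hzc z hz _ (hθM v))
        (hzc z hz _ (hθM u)) (hzc w hw _ (hθM v)),
        commutatorElement_eq_one_iff_commute.mpr (hzc w hw z (Subgroup.mem_sup_left hz.1)), mul_one,
        ← map_commutatorElement]
      exact ⟨_, rfl⟩
    have hAeq : A = θ.range := by
      haveI : (A.subgroupOf θ.range).Normal :=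
        Subgroup.normal_subgroupOf_of_le_normalizer (hθC.trans hCN)
      haveI : Nontrivial θ.range := by
        haveI := nontrivial_of_isQuasisimple hq
        exact (Subgroup.inclusion_injective hAθ).nontrivial
      have hθq : IsQuasisimple θ.range :=
        isQuasisimple_of_surjective θ.rangeRestrict_surjective hD.2
      rcases eq_top_or_le_center_of_normal hθq (A.subgroupOf θ.range) with e | e
      · exact le_antisymm hAθ (Subgroup.subgroupOf_eq_top.mp e)
      · exact (hAnc fun a ha b hb => congrArg Subtype.val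
          (Subgroup.mem_center_iff.mp (e (x := ⟨b, hAθ hb⟩) hb) ⟨a, hAθ ha⟩)).elim
    have hσI : ∀ z ∈ D ⊓ D', t * z * t⁻¹ ∈ D ⊓ D' := fun z hz => ⟨hmem z hz.2, hmem' z hz.1⟩
    have hDA : ¬ D ≤ Subgroup.normalizer (A : Set G) := by
      intro h
      refine center_ne_top_of_isQuasisimple hD.2 ?_
      haveI := hD.2.1
      rw [← top_le_iff, ← Group.IsPerfect.commutator_eq_top (G := ↥D), commutator_def,
        Subgroup.commutator_le]
      intro d _ u _
      refine Subgroup.mem_center_iff.mpr fun g => Subtype.ext ?_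
      have hu : θ u ∈ A := hAeq ▸ ⟨u, rfl⟩
      obtain ⟨v, hv⟩ := (hAeq.le ((Subgroup.mem_normalizer_iff.mp (h d.2) _).mp hu) : _ ∈ θ.range)
      have he : (v : G) * (t * v * t⁻¹) = d * u * (d : G)⁻¹ * (t * u * t⁻¹) := by
        rw [← hθ, hv, hθ]
        calc (d : G) * ((u : G) * (t * u * t⁻¹)) * (d : G)⁻¹
            = d * u * ((t * u * t⁻¹) * (d : G)⁻¹) := by group
          _ = d * u * ((d : G)⁻¹ * (t * u * t⁻¹)) := by
            rw [((hcomm d d.2 _ (hmem' u u.2)).inv_left).eq]
          _ = _ := by group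
      set z := (v : G)⁻¹ * (d * u * (d : G)⁻¹) with hz
      have hz2 : z = t * ((v : G) * (u : G)⁻¹) * t⁻¹ := by
        rw [hz]
        calc (v : G)⁻¹ * (d * u * (d : G)⁻¹)
            = (v : G)⁻¹ * (d * u * (d : G)⁻¹ * (t * u * t⁻¹)) * (t * u * t⁻¹)⁻¹ := by group
          _ = (v : G)⁻¹ * (v * (t * v * t⁻¹)) * (t * u * t⁻¹)⁻¹ := by rw [← he]
          _ = _ := by group
      have hzI : z ∈ D ⊓ D' := ⟨D.mul_mem (D.inv_mem v.2) (D.mul_mem (D.mul_mem d.2 u.2) (D.inv_mem d.2)),
        hz2 ▸ hmem' _ (mul_mem v.2 (inv_mem u.2))⟩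
      have hw : t * z * t⁻¹ = (v : G) * (u : G)⁻¹ := by rw [hz2, hσσ]
      have hval : ((⁅d, u⁆ : ↥D) : G) = (t * z * t⁻¹) * z := by
        have h1 : Commute (u : G) z := hzc z hzI u (Subgroup.mem_sup_left u.2)
        show (d : G) * u * (d : G)⁻¹ * (u : G)⁻¹ = _
        rw [hw, show (d : G) * u * (d : G)⁻¹ = v * z by rw [hz]; group, mul_assoc (v : G) z,
          ← h1.inv_left.eq, ← mul_assoc]
      show (g : G) * ((⁅d, u⁆ : ↥D) : G) = ((⁅d, u⁆ : ↥D) : G) * g
      rw [hval]
      exact ((hzc _ (hσI z hzI) g (Subgroup.mem_sup_left g.2)).mul_right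
        (hzc z hzI g (Subgroup.mem_sup_left g.2))).eq
    have hZ : Subgroup.center ↥D = ⊥ := by
      refine center_eq_bot hA hO hD hDA fun z hz => Subgroup.mem_centralizer_iff.mpr fun a ha => ?_
      have : D ⊔ D' ≤ Subgroup.centralizer ({(z : G)} : Set G) := sup_le
        (fun u hu => Subgroup.mem_centralizer_singleton_iff.mpr
          (congrArg Subtype.val (Subgroup.mem_center_iff.mp hz ⟨u, hu⟩)))
        (fun v hv => Subgroup.mem_centralizer_singleton_iff.mpr (hcomm z z.2 v hv).eq.symm)
      exact Subgroup.mem_centralizer_singleton_iff.mp (this (hAM ha))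
    have hdisj : D ⊓ D' = ⊥ := eq_bot_iff.mpr fun z hz => by
      have h1 : (⟨z, hz.1⟩ : ↥D) ∈ Subgroup.center ↥D := Subgroup.mem_center_iff.mpr fun u =>
        Subtype.ext (hcomm u u.2 z hz.2).eq
      rw [hZ, Subgroup.mem_bot] at h1
      exact congrArg Subtype.val h1
    have huniq : ∀ u ∈ D, ∀ v ∈ D, ∀ p ∈ D', ∀ q ∈ D', u * p = v * q → u = v := by
      intro u hu v hv p hp q hq e
      have h1 : v⁻¹ * u = q * p⁻¹ := by
        calc v⁻¹ * u = v⁻¹ * (u * p) * p⁻¹ := by group
          _ = q * p⁻¹ := by rw [e]; group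
      have h2 : v⁻¹ * u ∈ D ⊓ D' := ⟨D.mul_mem (D.inv_mem hv) hu, h1 ▸ D'.mul_mem hq (D'.inv_mem hp)⟩
      rw [hdisj, Subgroup.mem_bot, inv_mul_eq_one] at h2
      exact h2.symm
    have hinj : Function.Injective θ := fun u v e =>
      Subtype.ext (huniq u u.2 v v.2 _ (hmem' u u.2) _ (hmem' v v.2) e)
    have honly : ∀ K, IsComponent K → K = D ∨ K = D' := fun K hK => by
      by_contra hne
      push Not at hne
      have h1 : K ≤ Subgroup.centralizer (D : Set G) :=
        Subgroup.commutator_eq_bot_iff_le_centralizer.mp (commutator_eq_bot_of_ne hK hD hne.1)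
      have h2 : K ≤ Subgroup.centralizer (D' : Set G) :=
        Subgroup.commutator_eq_bot_iff_le_centralizer.mp (commutator_eq_bot_of_ne hK hD' hne.2)
      have h3 : K ≤ Subgroup.centralizer ((D ⊔ D' : Subgroup G) : Set G) :=
        Subgroup.le_centralizer_iff.mpr (sup_le (Subgroup.le_centralizer_iff.mp h1)
          (Subgroup.le_centralizer_iff.mp h2))
      exact hDA (le_normalizer_of_other hA hK.2 (h3.trans (Subgroup.centralizer_le hAM)) h1)
    have hlayer : D ⊔ D' = layer G := le_antisymm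
      (sup_le (isComponent_le_layer hD) (isComponent_le_layer hD'))
      (sSup_le fun K hK => (honly K hK).elim (fun e => e.le.trans le_sup_left)
        (fun e => e.le.trans le_sup_right))
    refine ⟨D, isSimpleGroup_of_center hD.2 hZ, not_isMulCommutative hD.2,
      ⟨(MonoidHom.ofInjective hinj).trans (MulEquiv.subgroupCongr hAeq.symm)⟩,
      fun a ha b hb => hcomm a ha b hb, hdisj, hlayer, ?_⟩
    -- the centralizer
    have hR : Subgroup.centralizer ((layer G : Subgroup G) : Set G) = ⊥ := by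
      haveI := layer_normal (G := G)
      haveI : (Subgroup.centralizer ((layer G : Subgroup G) : Set G)).Normal :=
        Subgroup.normal_centralizer
      by_cases hev : 2 ∣ Nat.card (Subgroup.centralizer ((layer G : Subgroup G) : Set G))
      · exfalso
        obtain ⟨x, hx⟩ := exists_prime_orderOf_dvd_card'
          (G := Subgroup.centralizer ((layer G : Subgroup G) : Set G)) 2 hev
        refine hDA (le_normalizer_of_centralizes hA (x := (x : G))
          (by rw [← hx, Subgroup.orderOf_coe])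
          (Subgroup.centralizer_le (hAM.trans hlayer.le) x.2) fun d hd =>
            Subgroup.mem_centralizer_singleton_iff.mpr
              (Subgroup.mem_centralizer_iff.mp x.2 d (hlayer.le (Subgroup.mem_sup_left hd))))
      · exact le_bot_iff.mp (hOb ▸ Transfer.le_pPrimeCore (p := 2) inferInstance
          (Nat.Prime.coprime_iff_not_dvd Nat.prime_two |>.mpr hev).symm)
    have hfix : ∀ c ∈ Subgroup.centralizer (A : Set G),
        D.map (MulAut.conj c).toMonoidHom = D → c = 1 := by
      intro c hc hcD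
      have hcD' : D'.map (MulAut.conj c).toMonoidHom = D' := by
        rcases honly _ (isComponent_map_equiv (MulAut.conj c) hD') with e | e
        · exact absurd (Subgroup.map_injective (MulAut.conj c).injective (e.trans hcD.symm)) hmove
        · exact e
      have hu : ∀ u ∈ D, c * u * c⁻¹ = u ∧ c * (t * u * t⁻¹) * c⁻¹ = t * u * t⁻¹ := by
        intro u hu
        have h1 : c * u * c⁻¹ ∈ D := hcD.le ⟨u, hu, rfl⟩
        have h2 : c * (t * u * t⁻¹) * c⁻¹ ∈ D' := hcD'.le ⟨_, hmem' u hu, rfl⟩
        have hmemA : u * (t * u * t⁻¹) ∈ A := hAeq ▸ ⟨⟨u, hu⟩, rfl⟩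
        have h3 : c * u * c⁻¹ * (c * (t * u * t⁻¹) * c⁻¹) = u * (t * u * t⁻¹) := by
          rw [show c * u * c⁻¹ * (c * (t * u * t⁻¹) * c⁻¹) = c * (u * (t * u * t⁻¹)) * c⁻¹ by group,
            ← Subgroup.mem_centralizer_iff.mp hc _ hmemA, mul_inv_cancel_right]
        have h4 := huniq _ h1 u hu _ h2 _ (hmem' u hu) h3
        exact ⟨h4, mul_left_cancel (by rw [h4] at h3; exact h3)⟩
      have : c ∈ Subgroup.centralizer ((layer G : Subgroup G) : Set G) := by
        rw [← hlayer]
        have hsup : D ⊔ D' ≤ Subgroup.centralizer ({c} : Set G) := by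
          refine sup_le (fun u hu' => Subgroup.mem_centralizer_singleton_iff.mpr
            (mul_inv_eq_iff_eq_mul.mp (hu u hu').1).symm) ?_
          rintro _ ⟨u, hu', rfl⟩
          exact Subgroup.mem_centralizer_singleton_iff.mpr
            (mul_inv_eq_iff_eq_mul.mp (hu u hu').2).symm
        exact fun g hg => Subgroup.mem_centralizer_singleton_iff.mp (hsup hg)
      rwa [hR, Subgroup.mem_bot] at this
    refine le_antisymm (fun c hc => ?_) (Subgroup.zpowers_le.mpr htA)
    rcases honly _ (isComponent_map_equiv (MulAut.conj c) hD) with e | e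
    · rw [hfix c hc e]
      exact one_mem _
    · have h1 : t * c = 1 := by
        refine hfix (t * c) (mul_mem htA hc) ?_
        ext y
        constructor
        · rintro ⟨d, hd, rfl⟩
          show t * c * d * (t * c)⁻¹ ∈ D
          rw [show t * c * d * (t * c)⁻¹ = t * (c * d * c⁻¹) * t⁻¹ by group]
          exact hmem _ (e.le ⟨d, hd, rfl⟩)
        · intro hy
          obtain ⟨d, hd, hde⟩ := e.ge (hmem' y hy)
          refine ⟨d, hd, ?_⟩
          show t * c * d * (t * c)⁻¹ = y
          rw [show t * c * d * (t * c)⁻¹ = t * (c * d * c⁻¹) * t⁻¹ by group,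
            show c * d * c⁻¹ = t * y * t⁻¹ from hde, hσσ]
      rw [eq_inv_of_mul_eq_one_right h1]
      exact inv_mem (Subgroup.mem_zpowers t)

end CfsgLib.Layer.StandardTrichotomy
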