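import Mathlib
import Cfsg.Prelude.Def_Local
import Cfsg.Agent.Lib.Layer.LBalance
import Cfsg.Agent.Lib.Layer.PComponent
import Cfsg.Agent.Lib.OddConseq.Unconditional
import Cfsg.Agent.Lib.Transfer.Basic

/-!
The components of an involution centralizer when the 2-layer is the layer.
-/

set_option autoImplicit false
set_option linter.style.haveILetI false
set_option linter.unusedSectionVars false

open Cfsg
open scoped commutatorElement

namespace CfsgLib.Layer.Trichotomy

variable {G : Type*} [Group G] [Finite G]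

theorem isPComponent_of_isComponent {K : Subgroup G} (hK : IsComponent K) : IsPComponent 2 K := by
  set π := QuotientGroup.mk' (pPrimeCore 2 G) with hπ
  have hcomp : IsComponent (K.map π) := by
    refine ⟨hK.1.map (QuotientGroup.mk'_surjective _), ?_⟩
    haveI : Nontrivial ↥(K.map π) := (Subgroup.nontrivial_iff_ne_bot _).mpr fun h => by
      rw [Subgroup.map_eq_bot_iff, hπ, QuotientGroup.ker_mk'] at h
      refine not_isSolvable_of_isComponent hK (CfsgLib.OddConseq.oddSolvable _ ?_)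
      exact Nat.coprime_two_right.mp
        ((Transfer.pPrimeCore_coprime 2 (G := G)).coprime_dvd_left (Subgroup.card_dvd_of_le h))
    exact isQuasisimple_of_surjective (f := π.subgroupMap K) (π.subgroupMap_surjective K) hK.2
  refine ⟨hK.1, hcomp, fun H hH hHK he => ?_⟩
  rcases eq_top_or_le_center_of_isSubnormal hK.2 (hH.subgroupOf (K := K)) with h | h
  · exact le_antisymm hHK (Subgroup.subgroupOf_eq_top.mp h)
  · refine absurd ?_ (not_isSolvable_of_isComponent hcomp)
    haveI : Group.IsSolvable ↥H := Group.isSolvable_of_comm fun a b =>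
      Subtype.ext (congrArg Subtype.val (Subgroup.mem_center_iff.mp
        (h (show (⟨(b : G), hHK b.2⟩ : K) ∈ H.subgroupOf K from b.2)) ⟨(a : G), hHK a.2⟩) :)
    rw [← he]
    exact Group.isSolvable_of_surjective (π.subgroupMap_surjective H)

theorem le_layer (hL2 : pLayer 2 G = layer G) {t : G} (ht : orderOf t = 2) {L : Subgroup G}
    (hLt : L ≤ Subgroup.centralizer ({t} : Set G))
    (hL : IsComponent (L.subgroupOf (Subgroup.centralizer ({t} : Set G)))) : L ≤ layer G := by
  have hC : Subgroup.centralizer ((Subgroup.zpowers t : Subgroup G) : Set G) =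
      Subgroup.centralizer ({t} : Set G) :=
    le_antisymm (Subgroup.centralizer_le (Set.singleton_subset_iff.mpr (Subgroup.mem_zpowers t)))
      fun u hu => by
        rintro _ ⟨k, rfl⟩
        exact ((show Commute t u from
          (Subgroup.mem_centralizer_singleton_iff.mp hu).symm).zpow_left k).eq
  have key : ∀ C : Subgroup G, Subgroup.centralizer ((Subgroup.zpowers t : Subgroup G) : Set G) = C →
      L ≤ C → IsComponent (L.subgroupOf C) → L ≤ pLayer 2 G := by
    rintro C rfl hLC hLc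
    refine le_trans ?_ (LBalance.pLayer_centralizer_le (T := Subgroup.zpowers t)
      (IsPGroup.of_card (n := 1) (by rw [Nat.card_zpowers, ht, pow_one])))
    rw [← Subgroup.map_subgroupOf_eq_of_le hLC]
    exact Subgroup.map_mono (le_sSup (isPComponent_of_isComponent hLc))
  exact hL2 ▸ key _ hC hLt hL

theorem le_normalizer_commutator_left (A B : Subgroup G) :
    A ≤ Subgroup.normalizer ((⁅A, B⁆ : Subgroup G) : Set G) := by
  refine fun a ha => Subgroup.mem_normalizer_fintype fun n hn => ?_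
  have h : ⁅A, B⁆ ≤ (⁅A, B⁆ : Subgroup G).comap (MulAut.conj a).toMonoidHom := by
    refine Subgroup.commutator_le.mpr fun x hx y hy => ?_
    show a * ⁅x, y⁆ * a⁻¹ ∈ ⁅A, B⁆
    have he : a * ⁅x, y⁆ * a⁻¹ = ⁅a * x, y⁆ * ⁅a, y⁆⁻¹ := by
      simp only [commutatorElement_def]; group
    rw [he]
    exact mul_mem (Subgroup.commutator_mem_commutator (mul_mem ha hx) hy)
      (inv_mem (Subgroup.commutator_mem_commutator ha hy))
  exact h hn

theorem commutator_mul_comm {p q c d : G} (h1 : Commute p d) (h2 : Commute q c)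
    (h3 : Commute p c) (h4 : Commute q d) : ⁅p * c, q * d⁆ = ⁅p, q⁆ * ⁅c, d⁆ := by
  simp only [commutatorElement_def]
  have k1 : Commute c (q : G) := h2.symm
  calc p * c * (q * d) * (p * c)⁻¹ * (q * d)⁻¹
      = p * (c * q) * d * c⁻¹ * (p⁻¹ * d⁻¹) * q⁻¹ := by group
    _ = p * (q * c) * d * c⁻¹ * (d⁻¹ * p⁻¹) * q⁻¹ := by rw [k1.eq, h1.inv_inv.eq]
    _ = p * q * ((c * d * c⁻¹ * d⁻¹) * (p⁻¹ * q⁻¹)) := by group
    _ = p * q * ((p⁻¹ * q⁻¹) * (c * d * c⁻¹ * d⁻¹)) := by
        rw [((((h3.mul_right h1).mul_right h3.inv_right).mul_right h1.inv_right).inv_left.mul_left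
          (((h2.mul_right h4).mul_right h2.inv_right).mul_right h4.inv_right).inv_left).symm.eq]
    _ = p * q * p⁻¹ * q⁻¹ * (c * d * c⁻¹ * d⁻¹) := by group

theorem conj_conj_of_two {t : G} (ht : orderOf t = 2) (g : G) : t * (t * g * t⁻¹) * t⁻¹ = g := by
  have h1 : t * t = 1 := by rw [← pow_two, ← ht, pow_orderOf_eq_one]
  have h2 : t⁻¹ = t := inv_eq_of_mul_eq_one_right h1
  rw [h2, show t * (t * g * t) * t = t * t * g * (t * t) by group, h1, one_mul, mul_one]

theorem main (hL2 : pLayer 2 G = layer G) (t : G) (ht : orderOf t = 2) (L : Subgroup G)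
    (hLt : L ≤ Subgroup.centralizer ({t} : Set G))
    (hL : IsComponent (L.subgroupOf (Subgroup.centralizer ({t} : Set G)))) :
    ∃ D : Subgroup G, IsComponent D ∧ (L = D ∨ (L < D ∧ D = ⁅D, Subgroup.zpowers t⁆) ∨
      (D.map (MulAut.conj t).toMonoidHom ≠ D ∧
        L = (layer ↥((D ⊔ D.map (MulAut.conj t).toMonoidHom) ⊓ Subgroup.centralizer ({t} : Set G))).map
          ((D ⊔ D.map (MulAut.conj t).toMonoidHom) ⊓ Subgroup.centralizer ({t} : Set G)).subtype)) := by
  classical
  set C := Subgroup.centralizer ({t} : Set G) with hC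
  set E := layer G with hE
  have hLE : L ≤ E := le_layer hL2 ht hLt hL
  have hLq : IsQuasisimple ↥L :=
    (isQuasisimple_congr (Subgroup.subgroupOfEquivOfLe hLt)).mp hL.2
  have hLp : ⁅L, L⁆ = L := Subgroup.isPerfect_iff.mp hLq.1
  have hfix : ∀ g ∈ C, t * g * t⁻¹ = g := fun g hg => by
    rw [← Subgroup.mem_centralizer_singleton_iff.mp hg, mul_inv_cancel_right]
  haveI : (E.subgroupOf C).Normal := inferInstance
  -- the pieces
  let τ : Subgroup G → Subgroup G := fun D => D.map (MulAut.conj t).toMonoidHom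
  have hττ : ∀ D : Subgroup G, τ (τ D) = D := fun D => by
    ext g
    constructor
    · rintro ⟨_, ⟨d, hd, rfl⟩, rfl⟩
      show t * (t * d * t⁻¹) * t⁻¹ ∈ D
      rwa [conj_conj_of_two ht]
    · exact fun hg => ⟨t * g * t⁻¹, ⟨g, hg, rfl⟩, conj_conj_of_two ht g⟩
  have hτc : ∀ {D : Subgroup G}, IsComponent D → IsComponent (τ D) := fun hD =>
    isComponent_map_equiv (MulAut.conj t) hD
  have hEP : ∀ {D : Subgroup G}, IsComponent D → E ≤ Subgroup.normalizer ((D ⊔ τ D : Subgroup G) : Set G) :=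
    fun {D} hD => (le_inf (component_normal_in_layer hD) (component_normal_in_layer (hτc hD))).trans
      (Subgroup.normalizer_inf_normalizer_le_normalizer_sup D (τ D))
  have hR : ∀ {D : Subgroup G}, IsComponent D → L ≤ (D ⊔ τ D) ⊓ C ∨ ⁅L, (D ⊔ τ D) ⊓ C⁆ = ⊥ := by
    intro D hD
    have hRC : (D ⊔ τ D) ⊓ C ≤ C := inf_le_right
    have hRE : (D ⊔ τ D) ⊓ C ≤ E ⊓ C :=
      inf_le_inf_right _ (sup_le (isComponent_le_layer hD) (isComponent_le_layer (hτc hD)))
    have hn : E ⊓ C ≤ Subgroup.normalizer (((D ⊔ τ D) ⊓ C : Subgroup G) : Set G) :=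
      fun g hg => Subgroup.mem_normalizer_fintype fun n hn => by
        obtain ⟨hn1, hn2⟩ := hn
        exact ⟨(Subgroup.mem_normalizer_iff.mp (hEP hD hg.1) n).mp hn1,
          C.mul_mem (C.mul_mem hg.2 hn2) (C.inv_mem hg.2)⟩
    have hs : (((D ⊔ τ D) ⊓ C).subgroupOf C).IsSubnormal := by
      refine Subgroup.IsSubnormal.step _ (E.subgroupOf C) (fun g hg => (hRE hg).1)
        (inferInstance : (E.subgroupOf C).Normal).isSubnormal ?_
      refine (Subgroup.normal_subgroupOf_iff_le_normalizer (H := ((D ⊔ τ D) ⊓ C).subgroupOf C)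
        (K := E.subgroupOf C) (fun g hg => (hRE hg).1)).mpr fun g hg => ?_
      exact Subgroup.mem_normalizer_fintype fun n hn' =>
        (Subgroup.mem_normalizer_iff.mp (hn ⟨hg, g.2⟩) (n : G)).mp hn'
    rcases le_or_commutator_eq_bot hL hs with h | h
    · exact Or.inl fun g hg => h (x := ⟨g, hLt hg⟩) hg
    · exact Or.inr ((commutator_subgroupOf_eq_bot hLt hRC).mp h)
  obtain ⟨D, hD, hLR⟩ : ∃ D : Subgroup G, IsComponent D ∧ L ≤ (D ⊔ τ D) ⊓ C := by
    by_contra hno
    push Not at hno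
    refine not_isSolvable_of_isQuasisimple hLq (Group.isSolvable_of_comm fun a b => Subtype.ext ?_)
    suffices h : L ≤ Subgroup.centralizer (E : Set G) by
      exact (Subgroup.mem_centralizer_iff.mp (h b.2) a (hLE a.2))
    rw [← Subgroup.commutator_eq_bot_iff_le_centralizer, Subgroup.commutator_comm,
      Subgroup.commutator_eq_bot_iff_le_centralizer]
    refine sSup_le fun D hD => ?_
    rw [← Subgroup.commutator_eq_bot_iff_le_centralizer, Subgroup.commutator_comm,
      Subgroup.commutator_eq_bot_iff_le_centralizer]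
    set P := D ⊔ τ D with hP
    refine le_trans ?_ (Subgroup.centralizer_le (show (D : Set G) ⊆ P from le_sup_left (b := τ D)))
    set Z := Subgroup.centralizer (P : Set G) with hZ
    have hcomR : ⁅L, P ⊓ C⁆ = ⊥ := (hR hD).resolve_left (hno D hD)
    have hEsup : E ≤ P ⊔ Z := sSup_le fun K hK => by
      by_cases h1 : K = D
      · rw [h1]; exact le_sup_of_le_left le_sup_left
      by_cases h2 : K = τ D
      · rw [h2]; exact le_sup_of_le_left le_sup_right
      refine le_sup_of_le_right ?_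
      rw [hZ, hP, ← Subgroup.commutator_eq_bot_iff_le_centralizer, Subgroup.commutator_comm,
        Subgroup.commutator_eq_bot_iff_le_centralizer]
      exact sup_le
        (Subgroup.commutator_eq_bot_iff_le_centralizer.mp (commutator_eq_bot_of_ne hD hK (Ne.symm h1)))
        (Subgroup.commutator_eq_bot_iff_le_centralizer.mp
          (commutator_eq_bot_of_ne (hτc hD) hK (Ne.symm h2)))
    have hdec : ∀ l ∈ L, ∃ p ∈ P, ∃ c ∈ Z, l = p * c := fun l hl => by
      have h := hEsup (hLE hl)
      rw [← SetLike.mem_coe, Subgroup.coe_mul_of_right_le_normalizer_left P Z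
        (Subgroup.centralizer_le_normalizer _), Set.mem_mul] at h
      obtain ⟨p, hp, c, hc, rfl⟩ := h
      exact ⟨p, hp, c, hc, rfl⟩
    have hPt : ∀ p ∈ P, t * p * t⁻¹ ∈ P := fun p hp => by
      have h : P.map (MulAut.conj t).toMonoidHom = P := by
        rw [hP, Subgroup.map_sup]
        show τ D ⊔ τ (τ D) = D ⊔ τ D
        rw [hττ, sup_comm]
      exact h ▸ ⟨p, hp, rfl⟩
    have hcom : ∀ p ∈ P, ∀ c ∈ Z, Commute p c := fun p hp c hc =>
      Subgroup.mem_centralizer_iff.mp hc p hp
    have hZt : ∀ c ∈ Z, t * c * t⁻¹ ∈ Z := fun c hc => Subgroup.mem_centralizer_iff.mpr fun p hp => by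
      have h1 := hcom _ (hPt p hp) c hc
      calc p * (t * c * t⁻¹) = t * (t * p * t⁻¹) * t⁻¹ * (t * c * t⁻¹) := by
            rw [conj_conj_of_two ht]
        _ = t * ((t * p * t⁻¹) * c) * t⁻¹ := by group
        _ = t * (c * (t * p * t⁻¹)) * t⁻¹ := by rw [h1.eq]
        _ = t * c * t⁻¹ * (t * (t * p * t⁻¹) * t⁻¹) := by group
        _ = t * c * t⁻¹ * p := by rw [conj_conj_of_two ht]
    have hkey : ∀ l ∈ L, ∀ p ∈ P, ∀ c ∈ Z, l = p * c → p⁻¹ * (t * p * t⁻¹) ∈ Z := by
      intro l hl p hp c hc he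
      have h := hfix l (hLt hl)
      rw [he] at h
      have h' : p⁻¹ * (t * p * t⁻¹) = c * (t * c * t⁻¹)⁻¹ := by
        calc p⁻¹ * (t * p * t⁻¹) = p⁻¹ * (t * (p * c) * t⁻¹) * (t * c * t⁻¹)⁻¹ := by group
          _ = c * (t * c * t⁻¹)⁻¹ := by rw [h, inv_mul_cancel_left]
      rw [h']
      exact mul_mem hc (inv_mem (hZt c hc))
    have hfix2 : ∀ p ∈ P, ∀ q ∈ P, p⁻¹ * (t * p * t⁻¹) ∈ Z → q⁻¹ * (t * q * t⁻¹) ∈ Z →
        ⁅p, q⁆ ∈ P ⊓ C := by
      intro p hp q hq hz hw
      refine ⟨by simp only [commutatorElement_def]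
                 exact P.mul_mem (P.mul_mem (P.mul_mem hp hq) (P.inv_mem hp)) (P.inv_mem hq), ?_⟩
      have hzP : p⁻¹ * (t * p * t⁻¹) ∈ P := mul_mem (inv_mem hp) (hPt p hp)
      have hwP : q⁻¹ * (t * q * t⁻¹) ∈ P := mul_mem (inv_mem hq) (hPt q hq)
      set z := p⁻¹ * (t * p * t⁻¹) with hzd
      set w := q⁻¹ * (t * q * t⁻¹) with hwd
      have h1 : t * ⁅p, q⁆ * t⁻¹ = ⁅p * z, q * w⁆ := by
        rw [hzd, hwd, mul_inv_cancel_left, mul_inv_cancel_left]
        exact map_commutatorElement (MulAut.conj t) p q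
      rw [commutator_mul_comm (hcom p hp w hw) (hcom q hq z hz) (hcom p hp z hz) (hcom q hq w hw),
        commutatorElement_eq_one_iff_commute.mpr (hcom z hzP w hw), mul_one] at h1
      exact Subgroup.mem_centralizer_singleton_iff.mpr (mul_inv_eq_iff_eq_mul.mp h1).symm
    have hM : L ≤ (P ⊓ C) ⊔ Z := by
      conv_lhs => rw [← hLp]
      refine Subgroup.commutator_le.mpr fun l hl m hm => ?_
      obtain ⟨p, hp, c, hc, hlp⟩ := hdec l hl
      obtain ⟨q, hq, d, hd, hmq⟩ := hdec m hm
      rw [hlp, hmq, commutator_mul_comm (hcom p hp d hd) (hcom q hq c hc) (hcom p hp c hc)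
        (hcom q hq d hd)]
      refine mul_mem (Subgroup.mem_sup_left
        (hfix2 p hp q hq (hkey l hl p hp c hc hlp) (hkey m hm q hq d hd hmq)))
        (Subgroup.mem_sup_right ?_)
      simp only [commutatorElement_def]
      exact mul_mem (mul_mem (mul_mem hc hd) (inv_mem hc)) (inv_mem hd)
    conv_lhs => rw [← hLp]
    refine Subgroup.commutator_le.mpr fun l hl m hm => ?_
    have hdec2 : ∀ l ∈ L, ∃ p ∈ P ⊓ C, ∃ c ∈ Z, l = p * c := fun l hl => by
      have h := hM hl
      rw [← SetLike.mem_coe, Subgroup.coe_mul_of_right_le_normalizer_left (P ⊓ C) Z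
        ((Subgroup.centralizer_le (show ((P ⊓ C : Subgroup G) : Set G) ⊆ P from fun _ h => h.1)).trans
          (Subgroup.centralizer_le_normalizer _)), Set.mem_mul] at h
      obtain ⟨p, hp, c, hc, rfl⟩ := h
      exact ⟨p, hp, c, hc, rfl⟩
    obtain ⟨p, hp, c, hc, hlp⟩ := hdec2 l hl
    obtain ⟨q, hq, d, hd, hmq⟩ := hdec2 m hm
    have hpq : Commute p q := by
      have h1 : Commute l q := (Subgroup.mem_centralizer_iff.mp
        (Subgroup.commutator_eq_bot_iff_le_centralizer.mp hcomR hl) q hq).symm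
      rw [hlp] at h1
      have h2 : Commute c q := (hcom q hq.1 c hc).symm
      have := h1.mul_left h2.inv_left
      rwa [mul_inv_cancel_right] at this
    rw [hlp, hmq, commutator_mul_comm (hcom p hp.1 d hd) (hcom q hq.1 c hc) (hcom p hp.1 c hc)
      (hcom q hq.1 d hd), commutatorElement_eq_one_iff_commute.mpr hpq, one_mul]
    simp only [commutatorElement_def]
    exact mul_mem (mul_mem (mul_mem hc hd) (inv_mem hc)) (inv_mem hd)
  refine ⟨D, hD, ?_⟩
  by_cases hDt : τ D = D
  · by_cases hLD : L = D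
    · exact Or.inl hLD
    have hle : L ≤ D := fun g hg => by
      have := (hLR hg).1
      rwa [hDt, sup_idem] at this
    refine Or.inr (Or.inl ⟨lt_of_le_of_ne hle hLD, ?_⟩)
    have hKle : ⁅D, Subgroup.zpowers t⁆ ≤ D := by
      refine Subgroup.commutator_le.mpr fun d hd s hs => ?_
      simp only [commutatorElement_def]
      have hn : Subgroup.zpowers t ≤ Subgroup.normalizer (D : Set G) :=
        Subgroup.zpowers_le.mpr (Subgroup.mem_normalizer_fintype fun n hn => hDt ▸ ⟨n, hn, rfl⟩)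
      rw [mul_assoc d s, mul_assoc d (s * d⁻¹)]
      exact mul_mem hd ((Subgroup.mem_normalizer_iff.mp (hn hs) _).mp (inv_mem hd))
    haveI : ((⁅D, Subgroup.zpowers t⁆ : Subgroup G).subgroupOf D).Normal :=
      Subgroup.normal_subgroupOf_of_le_normalizer (le_normalizer_commutator_left D _)
    rcases eq_top_or_le_center_of_normal hD.2 ((⁅D, Subgroup.zpowers t⁆ : Subgroup G).subgroupOf D)
      with h | h
    · exact le_antisymm (Subgroup.subgroupOf_eq_top.mp h) hKle
    · refine absurd ?_ hLD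
      have hDC : D ≤ C := by
        have h2 : ⁅D, Subgroup.zpowers t⁆ = ⊥ := by
          refine commutator_eq_bot_of_perfect (isPerfect_of_isComponent hD) ?_
          rw [Subgroup.commutator_eq_bot_iff_le_centralizer]
          exact fun k hk => Subgroup.mem_centralizer_iff.mpr fun d hd =>
            congrArg Subtype.val (Subgroup.mem_center_iff.mp
              (h (show (⟨k, hKle hk⟩ : D) ∈ _ from hk)) ⟨d, hd⟩)
        exact (Subgroup.commutator_eq_bot_iff_le_centralizer.mp h2).trans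
          (Subgroup.centralizer_le (Set.singleton_subset_iff.mpr (Subgroup.mem_zpowers t)))
      exact Subgroup.subgroupOf_inj.mp (eq_of_isComponent_of_le hL (isComponent_subgroupOf hD hDC)
        (fun g hg => hle hg)) |> fun h => by rwa [inf_eq_left.mpr hLt, inf_eq_left.mpr hDC] at h
  · refine Or.inr (Or.inr ⟨hDt, ?_⟩)
    set R := (D ⊔ τ D) ⊓ C with hRdef
    have hLR' : L ≤ R := hLR
    have hLc : IsComponent (L.subgroupOf R) :=
      ⟨hL.1.comap (Subgroup.inclusion (show R ≤ C from inf_le_right)),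
        (isQuasisimple_congr (Subgroup.subgroupOfEquivOfLe hLR').symm).mp hLq⟩
    have hDD : ∀ a ∈ D, ∀ b ∈ τ D, Commute a b := fun a ha b hb =>
      (Subgroup.mem_centralizer_iff.mp (Subgroup.commutator_eq_bot_iff_le_centralizer.mp
        (commutator_eq_bot_of_ne hD (hτc hD) (Ne.symm hDt)) ha) b hb).symm
    let φ : ↥D →* ↥R :=
      { toFun := fun d => ⟨(d : G) * (t * d * t⁻¹),
          mul_mem (Subgroup.mem_sup_left d.2) (Subgroup.mem_sup_right ⟨d, d.2, rfl⟩),
          Subgroup.mem_centralizer_singleton_iff.mpr (mul_inv_eq_iff_eq_mul.mp (show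
            t * ((d : G) * (t * d * t⁻¹)) * t⁻¹ = (d : G) * (t * d * t⁻¹) by
            rw [show t * ((d : G) * (t * d * t⁻¹)) * t⁻¹ =
              t * d * t⁻¹ * (t * (t * d * t⁻¹) * t⁻¹) by group, conj_conj_of_two ht]
            exact (hDD _ d.2 _ ⟨d, d.2, rfl⟩).eq.symm)).symm⟩
        map_one' := Subtype.ext (by simp)
        map_mul' := fun a b => Subtype.ext (by
          show (a : G) * b * (t * ((a : G) * b) * t⁻¹) =
            (a : G) * (t * a * t⁻¹) * ((b : G) * (t * b * t⁻¹))
          rw [show t * ((a : G) * b) * t⁻¹ = (t * a * t⁻¹) * (t * b * t⁻¹) by group, mul_assoc (a : G) (b : G)]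
          have hc : (b : G) * (t * a * t⁻¹) = t * a * t⁻¹ * b := (hDD _ b.2 _ ⟨a, a.2, rfl⟩).eq
          rw [← mul_assoc (b : G) (t * a * t⁻¹), hc]
          group) }
    have hdec : ∀ r : ↥R, ∃ d : ↥D, ∃ z ∈ Subgroup.center ↥R, r = φ d * z := by
      intro r
      have hr : (r : G) ∈ D ⊔ τ D := r.2.1
      rw [← SetLike.mem_coe, Subgroup.coe_mul_of_right_le_normalizer_left D (τ D)
        ((Subgroup.commutator_eq_bot_iff_le_centralizer.mp
          (commutator_eq_bot_of_ne (hτc hD) hD hDt)).trans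
            (Subgroup.centralizer_le_normalizer _)), Set.mem_mul] at hr
      obtain ⟨d, hd, e, he, hde⟩ := hr
      refine ⟨⟨d, hd⟩, (φ ⟨d, hd⟩)⁻¹ * r, ?_, (mul_inv_cancel_left _ _).symm⟩
      have hz : (((φ ⟨d, hd⟩)⁻¹ * r : ↥R) : G) = (t * d * t⁻¹)⁻¹ * e := by
        show (d * (t * d * t⁻¹))⁻¹ * (r : G) = _
        rw [← hde]
        group
      set z := (t * d * t⁻¹)⁻¹ * e with hzd
      have hzτ : z ∈ τ D := mul_mem (inv_mem ⟨d, hd, rfl⟩) he
      have hzD : z ∈ D := by
        have h1 : t * z * t⁻¹ = z := hfix z (hz ▸ ((φ ⟨d, hd⟩)⁻¹ * r).2.2)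
        rw [← h1]
        exact hττ D ▸ ⟨z, hzτ, rfl⟩
      refine Subgroup.mem_center_iff.mpr fun s => Subtype.ext ?_
      show (s : G) * _ = _ * (s : G)
      rw [hz]
      refine (Subgroup.mem_centralizer_iff.mp ((sup_le ?_ ?_ : D ⊔ τ D ≤ Subgroup.centralizer {z})
        s.2.1) z rfl).symm
      · exact fun a ha => Subgroup.mem_centralizer_singleton_iff.mpr (hDD a ha z hzτ).eq
      · exact fun b hb => Subgroup.mem_centralizer_singleton_iff.mpr (hDD z hzD b hb).eq.symm
    set I := φ.range with hI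
    haveI hIn : I.Normal := ⟨fun n hn g => by
      obtain ⟨d, z, hz, rfl⟩ := hdec g
      have hc := Subgroup.mem_center_iff.mp hz n
      rw [show φ d * z * n * (φ d * z)⁻¹ = φ d * (z * n * z⁻¹) * (φ d)⁻¹ by group, ← hc,
        mul_inv_cancel_right]
      exact mul_mem (mul_mem (MonoidHom.mem_range.mpr ⟨d, rfl⟩) hn)
        (inv_mem (MonoidHom.mem_range.mpr ⟨d, rfl⟩))⟩
    have hsub : ∀ K : Subgroup ↥R, IsComponent K → K ≤ I := fun K hK => by
      rw [← isPerfect_of_isComponent hK]
      refine Subgroup.commutator_le.mpr fun a _ b _ => ?_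
      obtain ⟨p, z, hz, rfl⟩ := hdec a
      obtain ⟨q, w, hw, rfl⟩ := hdec b
      have hz' : ∀ x, Commute x z := fun x => Subgroup.mem_center_iff.mp hz x
      have hw' : ∀ x, Commute x w := fun x => Subgroup.mem_center_iff.mp hw x
      rw [commutator_mul_comm (hw' _) (hz' _) (hz' _) (hw' _),
        commutatorElement_eq_one_iff_commute.mpr (hw' z), mul_one, ← map_commutatorElement]
      exact ⟨_, rfl⟩
    haveI : Nontrivial ↥I := (Subgroup.nontrivial_iff_ne_bot _).mpr fun h =>
      ne_bot_of_isComponent hLc (le_bot_iff.mp (h ▸ hsub _ hLc))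
    have hIc : IsComponent I :=
      ⟨hIn.isSubnormal, isQuasisimple_of_surjective φ.rangeRestrict_surjective hD.2⟩
    have hlay : layer ↥R = L.subgroupOf R := by
      refine le_antisymm (sSup_le fun K hK => ?_) (isComponent_le_layer hLc)
      rw [eq_of_isComponent_of_le hLc hIc (hsub _ hLc)]
      exact hsub K hK
    show L = (layer ↥R).map R.subtype
    rw [hlay, Subgroup.map_subgroupOf_eq_of_le hLR']

end CfsgLib.Layer.Trichotomy
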