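import Cfsg.Agent.Lib.Layer.FStar
import Cfsg.Agent.Lib.Layer.PLocal
import Cfsg.Agent.Lib.Transfer.TateFrattini
import Cfsg.Agent.Lib.HSub.Fusion
import Cfsg.Agent.Lib.OddOmega.Basic
import Cfsg.Agent.Lib.Layer.FrattiniQuot
import Cfsg.Agent.Lib.Hall.Carter

/-!
Groups with a two-generated non-abelian Sylow subgroup: the generalized Fitting subgroup is the
unique minimal normal subgroup.
-/

set_option autoImplicit false
set_option linter.style.haveILetI false
set_option linter.unusedSectionVars false

open Pointwise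
open scoped commutatorElement

namespace CfsgLib.TwoGenSylow

open Cfsg

variable {G : Type*} [Group G] [Finite G] {p : ℕ} [hp : Fact p.Prime] (P : Sylow p G)

/-- The Frattini subgroup of `P`, inside `G`. -/
abbrev Φ : Subgroup G := (frattini ↥(P : Subgroup G)).map (P : Subgroup G).subtype

/-- Tate's theorem for a subgroup normalised by `P`. -/
theorem pResidual_coprime {N : Subgroup G} (hN : (P : Subgroup G) ≤ Subgroup.normalizer (N : Set G))
    (h : N ⊓ (P : Subgroup G) ≤ Φ P) :
    (Nat.card ((Cfsg.pResidual p N).map N.subtype : Subgroup G)).Coprime p := by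
  set H := N ⊔ (P : Subgroup G)
  have hPH : (P : Subgroup G) ≤ H := le_sup_right
  have hNn : H ≤ Subgroup.normalizer (N : Set G) := sup_le Subgroup.le_normalizer hN
  haveI : (N.subgroupOf H).Normal := Subgroup.normal_subgroupOf_of_le_normalizer hNn
  let S : Sylow p H := P.subtype hPH
  have hS : (S : Subgroup H) = (P : Subgroup G).subgroupOf H := rfl
  haveI := Transfer.pResidual_normal p H
  have hres : Cfsg.pResidual p H ≤ N.subgroupOf H := by
    refine Transfer.pResidual_le_of_isPGroup_quotient _ ?_
    intro y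
    induction y using QuotientGroup.induction_on with
    | H l =>
      have hl : (l : G) ∈ N ⊔ (P : Subgroup G) := l.2
      rw [← SetLike.mem_coe, Subgroup.coe_mul_of_right_le_normalizer_left N _ hN] at hl
      obtain ⟨u, hu, a, ha, hua⟩ := hl
      obtain ⟨k, hk⟩ := P.2 ⟨a, ha⟩
      refine ⟨k, ?_⟩
      have h1 : (QuotientGroup.mk l : H ⧸ N.subgroupOf H) =
          QuotientGroup.mk (⟨a, hPH ha⟩ : H) := by
        rw [QuotientGroup.eq_iff_div_mem, Subgroup.mem_subgroupOf]
        show (l : G) / a ∈ N
        rw [← (hua : u * a = (l : G)), mul_div_cancel_right]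
        exact hu
      rw [h1, ← QuotientGroup.mk_pow, QuotientGroup.eq_one_iff, Subgroup.mem_subgroupOf,
        SubmonoidClass.coe_pow]
      show a ^ p ^ k ∈ N
      rw [(show a ^ p ^ k = 1 by simpa using congrArg Subtype.val hk)]
      exact one_mem N
  have hT : Cfsg.HasNormalPComplement p H := by
    refine Transfer.hasNormalPComplement_of_le_frattini S ?_
    intro x hx
    obtain ⟨hxS, hxR⟩ := Subgroup.mem_inf.mp hx
    obtain ⟨w, hw, hwx⟩ := h (⟨hres hxR, hxS⟩ : (x : G) ∈ N ⊓ (P : Subgroup G))
    let e : (P : Subgroup G) ≃* (S : Subgroup H) := (Subgroup.subgroupOfEquivOfLe hPH).symm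
    refine ⟨e w, ?_, Subtype.ext hwx⟩
    exact Layer.map_frattini_le e.toMonoidHom e.surjective ⟨w, hw, rfl⟩
  have hcop : (Nat.card (Cfsg.pResidual p H)).Coprime p :=
    ((Fact.out : p.Prime).coprime_iff_not_dvd.mpr
      (Transfer.hasNormalPComplement_iff_pResidual.mp hT)).symm
  have hle : (Cfsg.pResidual p N).map N.subtype ≤ (Cfsg.pResidual p H).map H.subtype := by
    have h1 := Transfer.map_pResidual_le (p := p) (Subgroup.inclusion (le_sup_left : N ≤ H))
    have h2 := Subgroup.map_mono (f := H.subtype) h1
    rwa [Subgroup.map_map, Subgroup.subtype_comp_inclusion] at h2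
  refine hcop.coprime_dvd_left ((Subgroup.card_dvd_of_le hle).trans ?_)
  rw [Subgroup.card_subtype]

/-- A normal subgroup `≠ 1` is not hidden in the Frattini subgroup. -/
theorem not_le_frattini (hcore : pPrimeCore p G = ⊥) (hfrat : (Φ P).normalCore = ⊥)
    {N : Subgroup G} [N.Normal] (hN : N ≠ ⊥) : ¬ N ⊓ (P : Subgroup G) ≤ Φ P := by
  intro h
  have hc := pResidual_coprime P Subgroup.le_normalizer_of_normal h
  haveI := Transfer.pResidual_normal p N
  haveI : (Cfsg.pResidual p N).Characteristic := by
    rw [Subgroup.characteristic_iff_map_le]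
    exact fun φ => Transfer.map_pResidual_le φ.toMonoidHom
  have h0 : Cfsg.pResidual p N = ⊥ := by
    have h1 := (Transfer.le_pPrimeCore (PSolvable.normal_map_of_characteristic N _) hc).trans hcore.le
    rw [le_bot_iff, Subgroup.map_eq_bot_iff_of_injective _ N.subtype_injective] at h1
    exact h1
  have hNp : IsPGroup p N := by
    refine IsPGroup.of_injective (Transfer.isPGroup_quotient_pResidual (G := N))
      (QuotientGroup.mk' (Cfsg.pResidual p N)) ?_
    rw [← MonoidHom.ker_eq_bot_iff, QuotientGroup.ker_mk', h0]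
  refine hN ?_
  rw [← le_bot_iff, ← hfrat]
  exact Subgroup.normal_le_normalCore.mpr
    ((le_inf le_rfl (IsPGroup.le_sylow_of_normal hNp P)).trans h)

/-- In a two-generated `P`, the trace of a subgroup outside the Frattini subgroup has a
cyclic supplement. -/
theorem exists_cyclic_supplement (hgen : (frattini ↥(P : Subgroup G)).index = p ^ 2)
    (C : Subgroup ↥(P : Subgroup G)) (hC : ¬ C ≤ frattini ↥(P : Subgroup G)) :
    ∃ b, C ⊔ Subgroup.zpowers b = ⊤ := by
  set F := frattini ↥(P : Subgroup G) with hF
  have hlt : F < C ⊔ F := lt_of_le_of_ne le_sup_right fun h => hC (h ▸ le_sup_left)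
  have hdvd : (C ⊔ F).index ∣ p := by
    have h1 := Subgroup.relIndex_mul_index (hlt.le)
    rw [hgen] at h1
    obtain ⟨i, hi, hi'⟩ := (Nat.dvd_prime_pow hp.out).mp (Dvd.intro_left _ h1)
    rw [hi']
    rcases Nat.lt_or_ge i 2 with hi2 | hi2
    · exact (pow_dvd_pow p (Nat.lt_succ_iff.mp hi2)).trans (by rw [pow_one])
    · have hi2' : i = 2 := by omega
      rw [hi', hi2'] at h1
      have h3 : F.relIndex (C ⊔ F) = 1 := by
        exact Nat.eq_of_mul_eq_mul_right (pow_pos hp.out.pos 2) (by rw [h1, one_mul])
      exact absurd (Subgroup.relIndex_eq_one.mp h3) (fun h => hlt.not_ge h)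
  rcases hp.out.eq_one_or_self_of_dvd _ hdvd with h | h
  · refine ⟨1, ?_⟩
    have h1 : C ⊔ F = ⊤ := Subgroup.index_eq_one.mp h
    rw [Subgroup.zpowers_one_eq_bot, sup_bot_eq]
    exact frattini_nongenerating h1
  · obtain ⟨b, hb⟩ : ∃ b, b ∉ C ⊔ F := by
      by_contra hall
      push Not at hall
      rw [Subgroup.eq_top_iff' _ |>.mpr hall, Subgroup.index_top] at h
      exact hp.out.one_lt.ne h
    refine ⟨b, frattini_nongenerating (K := C ⊔ Subgroup.zpowers b) ?_⟩
    rw [sup_right_comm]
    have hdvd2 : (C ⊔ F ⊔ Subgroup.zpowers b).index ∣ p :=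
      (Subgroup.index_dvd_of_le le_sup_left).trans (dvd_of_eq h)
    rcases hp.out.eq_one_or_self_of_dvd _ hdvd2 with h' | h'
    · exact Subgroup.index_eq_one.mp h'
    · exfalso
      refine hb ?_
      have h3 := Subgroup.relIndex_mul_index (le_sup_left : C ⊔ F ≤ C ⊔ F ⊔ Subgroup.zpowers b)
      rw [h, h'] at h3
      have h4 : (C ⊔ F).relIndex (C ⊔ F ⊔ Subgroup.zpowers b) = 1 :=
        Nat.eq_of_mul_eq_mul_right hp.out.pos (by rw [h3, one_mul])
      exact Subgroup.relIndex_eq_one.mp h4 (Subgroup.mem_sup_right (Subgroup.mem_zpowers b))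

/-- `P` is a product of the trace and a cyclic group. -/
theorem exists_decomp (hgen : (frattini ↥(P : Subgroup G)).index = p ^ 2) {N : Subgroup G}
    (hN : (P : Subgroup G) ≤ Subgroup.normalizer (N : Set G))
    (h : ¬ N ⊓ (P : Subgroup G) ≤ Φ P) :
    ∃ b ∈ (P : Subgroup G), ∀ x ∈ (P : Subgroup G),
      ∃ c ∈ N ⊓ (P : Subgroup G), ∃ i : ℤ, x = c * b ^ i := by
  have hC : ¬ N.subgroupOf (P : Subgroup G) ≤ frattini ↥(P : Subgroup G) := fun hle => h (fun x hx =>
    ⟨⟨x, hx.2⟩, hle hx.1, rfl⟩)
  haveI : (N.subgroupOf (P : Subgroup G)).Normal := Subgroup.normal_subgroupOf_of_le_normalizer hN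
  obtain ⟨b, hb⟩ := exists_cyclic_supplement P hgen _ hC
  refine ⟨b, b.2, fun x hx => ?_⟩
  have hx' : (⟨x, hx⟩ : (P : Subgroup G)) ∈ N.subgroupOf (P : Subgroup G) ⊔ Subgroup.zpowers b := by
    rw [hb]; trivial
  obtain ⟨c, hc, _, ⟨i, rfl⟩, hcb⟩ := Subgroup.mem_sup_of_normal_left.mp hx'
  exact ⟨c, ⟨hc, c.2⟩, i, by simpa using (congrArg Subtype.val hcb).symm⟩

theorem commutator_le_of (hgen : (frattini ↥(P : Subgroup G)).index = p ^ 2) {N : Subgroup G}
    (hN : (P : Subgroup G) ≤ Subgroup.normalizer (N : Set G))
    (h : ¬ N ⊓ (P : Subgroup G) ≤ Φ P) : ⁅(P : Subgroup G), (P : Subgroup G)⁆ ≤ N := by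
  obtain ⟨b, hb, hdec⟩ := exists_decomp P hgen hN h
  haveI : (N.subgroupOf (P : Subgroup G)).Normal := Subgroup.normal_subgroupOf_of_le_normalizer hN
  rw [Subgroup.commutator_le]
  intro x hx y hy
  obtain ⟨c, hc, i, rfl⟩ := hdec x hx
  obtain ⟨d, hd, j, rfl⟩ := hdec y hy
  set π := QuotientGroup.mk' (N.subgroupOf (P : Subgroup G))
  let c' : (P : Subgroup G) := ⟨c, hc.2⟩
  let d' : (P : Subgroup G) := ⟨d, hd.2⟩
  let b' : (P : Subgroup G) := ⟨b, hb⟩
  have h1 : π ⁅c' * b' ^ i, d' * b' ^ j⁆ = 1 := by
    rw [map_commutatorElement, map_mul, map_mul,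
      show π c' = 1 from (QuotientGroup.eq_one_iff c').mpr hc.1,
      show π d' = 1 from (QuotientGroup.eq_one_iff d').mpr hd.1, one_mul, one_mul, map_zpow,
      map_zpow, commutatorElement_eq_one_iff_mul_comm]
    exact Commute.zpow_zpow_self (π b') i j
  have h3 : ⁅c' * b' ^ i, d' * b' ^ j⁆ ∈ N.subgroupOf (P : Subgroup G) :=
    (QuotientGroup.eq_one_iff _).mp h1
  rw [Subgroup.mem_subgroupOf] at h3
  simpa [commutatorElement_def, c', d', b'] using h3

variable (hna : ¬ IsMulCommutative (P : Subgroup G))
include hna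

theorem exists_commutator : ∃ z ∈ ⁅(P : Subgroup G), (P : Subgroup G)⁆, z ≠ (1 : G) := by
  by_contra h
  push Not at h
  exact hna (.of_comm fun a b => Subtype.ext (commutatorElement_eq_one_iff_mul_comm.mp
    (h _ (Subgroup.commutator_mem_commutator a.2 b.2))))

/-- There is a unique minimal normal subgroup, and it contains `P'`. -/
theorem exists_unique_minimal (hgen : (frattini ↥(P : Subgroup G)).index = p ^ 2)
    (hcore : pPrimeCore p G = ⊥) (hfrat : (Φ P).normalCore = ⊥) :
    ∃ M : Subgroup G, M.Normal ∧ M ≠ ⊥ ∧ ⁅(P : Subgroup G), (P : Subgroup G)⁆ ≤ M ∧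
      ∀ K : Subgroup G, K.Normal → K ≠ ⊥ → M ≤ K := by
  refine ⟨sInf {K : Subgroup G | K.Normal ∧ K ≠ ⊥}, ?_, ?_, ?_, fun K h1 h2 => sInf_le ⟨h1, h2⟩⟩
  · refine ⟨fun x hx g => ?_⟩
    rw [Subgroup.mem_sInf] at hx ⊢
    exact fun K hK => hK.1.conj_mem x (hx K hK) g
  · obtain ⟨z, hz, hz1⟩ := exists_commutator P hna
    intro h
    refine hz1 (Subgroup.mem_bot.mp (h ▸ (Subgroup.mem_sInf.mpr fun K hK => ?_)))
    haveI := hK.1
    exact commutator_le_of P hgen Subgroup.le_normalizer_of_normal
      (not_le_frattini P hcore hfrat hK.2) hz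
  · refine le_sInf fun K hK => ?_
    haveI := hK.1
    exact commutator_le_of P hgen Subgroup.le_normalizer_of_normal (not_le_frattini P hcore hfrat hK.2)

omit hna in
/-- A normal nilpotent subgroup is an elementary abelian subgroup of `P`. -/
theorem fitting_facts (hcore : pPrimeCore p G = ⊥) (hfrat : (Φ P).normalCore = ⊥)
    (Q : Subgroup G) [Q.Normal] [Group.IsNilpotent Q] :
    Q ≤ (P : Subgroup G) ∧ (∀ x ∈ Q, x ^ p = 1) ∧ ∀ x ∈ Q, ∀ y ∈ Q, x * y = y * x := by
  haveI := Transfer.pResidual_normal p Q
  haveI : (Cfsg.pResidual p Q).Characteristic := by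
    rw [Subgroup.characteristic_iff_map_le]
    exact fun φ => Transfer.map_pResidual_le φ.toMonoidHom
  have hQ : IsPGroup p Q := by
    -- the `p`-residual has order prime to `p`, by nilpotency
    have h0 : Cfsg.pResidual p Q = ⊥ := by
      obtain ⟨S⟩ : Nonempty (Sylow p Q) := inferInstance
      haveI hSn : (S : Subgroup Q).Normal := inferInstance
      have hcop : (Nat.card (Cfsg.pResidual p Q)).Coprime p := by
        obtain ⟨K, hK⟩ := Subgroup.exists_right_complement'_of_coprime S.card_coprime_index
        have hSK : ∀ s ∈ (S : Subgroup Q), ∀ k ∈ K, Commute s k := fun s hs k hk => by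
          obtain ⟨a, ha⟩ := S.2 ⟨s, hs⟩
          refine CfsgLib.Hall.commute_of_coprime_orderOf (p := p) (j := a)
            (orderOf_dvd_of_pow_eq_one (show s ^ p ^ a = 1 by simpa using congrArg Subtype.val ha)) ?_
          refine Nat.Coprime.coprime_dvd_left (Subgroup.orderOf_dvd_natCard K hk) ?_
          rw [← hK.symm.index_eq_card]
          exact ((Fact.out : p.Prime).coprime_iff_not_dvd.mpr S.not_dvd_index).symm
        haveI : K.Normal := ⟨fun k hk g => by
          obtain ⟨⟨⟨s, hs⟩, ⟨k', hk'⟩⟩, hg, -⟩ := hK.existsUnique g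
          simp only at hg
          have hs' : Commute s (k' * k * k'⁻¹) := hSK s hs _ (mul_mem (mul_mem hk' hk) (inv_mem hk'))
          rw [← hg, show s * k' * k * (s * k')⁻¹ = s * (k' * k * k'⁻¹) * s⁻¹ by group, hs'.eq,
            mul_inv_cancel_right]
          exact mul_mem (mul_mem hk' hk) (inv_mem hk')⟩
        have hc : (Nat.card K).Coprime p := by
          rw [← hK.symm.index_eq_card]
          exact ((Fact.out : p.Prime).coprime_iff_not_dvd.mpr S.not_dvd_index).symm
        refine hc.coprime_dvd_left (Subgroup.card_dvd_of_le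
          (Transfer.pResidual_le_of_isPGroup_quotient K ?_))
        obtain ⟨a, ha⟩ := S.2.exists_card_eq
        exact IsPGroup.of_card (n := a) (by rw [← Subgroup.index_eq_card, hK.index_eq_card, ha])
      have h1 := (Transfer.le_pPrimeCore (PSolvable.normal_map_of_characteristic Q (Cfsg.pResidual p Q))
        (by rwa [Subgroup.card_subtype])).trans hcore.le
      rw [le_bot_iff, Subgroup.map_eq_bot_iff_of_injective _ Q.subtype_injective] at h1
      exact h1
    refine IsPGroup.of_injective (Transfer.isPGroup_quotient_pResidual (G := Q))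
      (QuotientGroup.mk' (Cfsg.pResidual p Q)) ?_
    rw [← MonoidHom.ker_eq_bot_iff, QuotientGroup.ker_mk', h0]
  have hQP : Q ≤ (P : Subgroup G) := IsPGroup.le_sylow_of_normal hQ P
  have hkill : ∀ x : G, (∀ g : G, g * x * g⁻¹ ∈ Φ P) → x = 1 := fun x hx => by
    have h1 : x ∈ (Φ P).normalCore := hx
    rwa [hfrat, Subgroup.mem_bot] at h1
  refine ⟨hQP, fun x hx => hkill _ fun g => ?_, fun x hx y hy =>
    commutatorElement_eq_one_iff_mul_comm.mp (hkill _ fun g => ?_)⟩
  · rw [← conj_pow]
    have hgx : g * x * g⁻¹ ∈ Q := (inferInstance : Q.Normal).conj_mem x hx g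
    exact ⟨(⟨_, hQP hgx⟩ : (P : Subgroup G)) ^ p, OddOmega.pow_mem_frattini P.2 _, rfl⟩
  · have hgx : g * x * g⁻¹ ∈ Q := (inferInstance : Q.Normal).conj_mem x hx g
    have hgy : g * y * g⁻¹ ∈ Q := (inferInstance : Q.Normal).conj_mem y hy g
    have h1 : g * ⁅x, y⁆ * g⁻¹ = ⁅g * x * g⁻¹, g * y * g⁻¹⁆ := by
      simp only [commutatorElement_def]; group
    rw [h1]
    refine ⟨⁅(⟨_, hQP hgx⟩ : (P : Subgroup G)), ⟨_, hQP hgy⟩⁆, ?_, by rw [map_commutatorElement]; rfl⟩
    exact HSub.commutator_le_frattini P.2 (Subgroup.commutator_mem_commutator trivial trivial)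

omit hna hp in
/-- Transfer: a central element of an abelian Sylow subgroup of a perfect group is trivial. -/
theorem eq_one_of_perfect {E : Type*} [Group E] [Finite E] [Group.IsPerfect E] [Fact p.Prime]
    (S : Sylow p E) [IsMulCommutative (S : Subgroup E)] {z : E} (hzS : z ∈ (S : Subgroup E))
    (hz : ∀ g : E, g * z = z * g) : z = 1 := by
  open scoped IsMulCommutative in
  let τ := MonoidHom.transfer (MonoidHom.id (S : Subgroup E))
  have hτ : τ z = 1 := by
    have h1 : commutator E ≤ τ.ker := Abelianization.commutator_subset_ker τ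
    rw [Group.IsPerfect.commutator_eq_top] at h1
    exact h1 (Subgroup.mem_top z)
  have key : ∀ (k : ℕ) (g₀ : E), g₀⁻¹ * z ^ k * g₀ ∈ (S : Subgroup E) → g₀⁻¹ * z ^ k * g₀ = z ^ k :=
    fun k g₀ _ => by
      rw [mul_assoc, ((show Commute g₀ z from hz g₀).pow_right k).symm.eq, inv_mul_cancel_left]
  rw [MonoidHom.transfer_eq_pow (MonoidHom.id _) z key] at hτ
  have h2 : z ^ (S : Subgroup E).index = 1 := congrArg Subtype.val hτ
  obtain ⟨a, ha⟩ := S.2 ⟨z, hzS⟩
  have h3 : orderOf z ∣ p ^ a :=
    orderOf_dvd_of_pow_eq_one (show z ^ p ^ a = 1 by simpa using congrArg Subtype.val ha)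
  refine orderOf_eq_one_iff.mp (Nat.eq_one_of_dvd_coprimes ?_ h3 (orderOf_dvd_of_pow_eq_one h2))
  exact Nat.Coprime.pow_left _ ((Fact.out : p.Prime).coprime_iff_not_dvd.mpr S.not_dvd_index)

theorem structure_result (hgen : (frattini ↥(P : Subgroup G)).index = p ^ 2)
    (hcore : pPrimeCore p G = ⊥) (hfrat : (Φ P).normalCore = ⊥)
    [hFn : (generalizedFittingSubgroup G).Normal] :
    (generalizedFittingSubgroup G ≠ ⊥ ∧
      ∀ K : Subgroup G, K.Normal → K ≠ ⊥ → generalizedFittingSubgroup G ≤ K) ∧
      IsCyclic ↥((P : Subgroup G).map (QuotientGroup.mk' (generalizedFittingSubgroup G))) ∧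
      (¬ IsMulCommutative (generalizedFittingSubgroup G) → ∀ K L : Subgroup G, IsComponent K →
        IsComponent L → ∃ x ∈ (P : Subgroup G), L = K.map (MulAut.conj x).toMonoidHom) := by
  classical
  obtain ⟨M, hMn, hM1, hPM, hmin⟩ := exists_unique_minimal P hna hgen hcore hfrat
  haveI := hMn
  set F := fittingSubgroup G with hF
  haveI : F.Normal := Fitting.fittingSubgroup_normal (G := G)
  haveI : Group.IsNilpotent F := Fitting.fittingSubgroup_isNilpotent (G := G)
  set E := layer G with hE
  haveI : E.Normal := Layer.layer_normal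
  obtain ⟨hFP, hFexp, hFcomm⟩ := fitting_facts P hcore hfrat F
  have hGne : generalizedFittingSubgroup G ≠ ⊥ := fun h => by
    haveI := Layer.generalizedFitting_eq_bot_iff.mp h
    exact hna (.of_comm fun a b => Subtype.ext (Subsingleton.elim _ _))
  obtain ⟨b, hb, hdec⟩ := exists_decomp P hgen (N := M) Subgroup.le_normalizer_of_normal
    (not_le_frattini P hcore hfrat hM1)
  have hFM : generalizedFittingSubgroup G = M := by
    refine le_antisymm ?_ (hmin _ hFn hGne)
    by_cases hMab : M ≤ Subgroup.centralizer (M : Set G)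
    · -- abelian case
      haveI : IsMulCommutative M := .of_comm fun a c => Subtype.ext (hMab c.2 a a.2)
      haveI : Group.IsNilpotent M := by open scoped IsMulCommutative in infer_instance
      have hMF : M ≤ F := Fitting.le_fittingSubgroup hMn inferInstance
      obtain ⟨hMP, -, -⟩ := fitting_facts P hcore hfrat M
      have hE0 : E = ⊥ := by
        by_contra hE1
        have hME : M ≤ E := hmin E inferInstance hE1
        haveI : Group.IsPerfect E := Layer.layer_isPerfect
        have hMc : ∀ m ∈ M, ∀ e ∈ E, e * m = m * e := fun m hm e he =>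
          (Layer.fitting_le_centralizer_layer (hMF hm) e he)
        obtain ⟨S, hS⟩ : ∃ S : Sylow p E, (P : Subgroup G) ⊓ E ≤ (S : Subgroup E).map E.subtype ∧
            True := by
          obtain ⟨S, hS⟩ := (show IsPGroup p ((P : Subgroup G).subgroupOf E) from
            P.2.comap_of_injective E.subtype E.subtype_injective).exists_le_sylow
          exact ⟨S, fun x hx => ⟨⟨x, hx.2⟩, hS hx.1, rfl⟩, trivial⟩
        have hSab : IsMulCommutative (S : Subgroup E) := by
          have hcard : ((S : Subgroup E).map E.subtype) ≤ (P : Subgroup G) ⊓ E := by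
            refine (Subgroup.eq_of_le_of_card_ge hS.1 ?_).ge
            rw [Subgroup.card_subtype]
            haveI : (E.subgroupOf (P : Subgroup G)).Normal :=
              Subgroup.normal_subgroupOf_of_le_normalizer Subgroup.le_normalizer_of_normal
            -- the trace of a Sylow subgroup on a normal subgroup is a Sylow subgroup
            have h1 : ¬ p ∣ ((P : Subgroup G) ⊓ E).relIndex E := by
              rw [inf_comm, Subgroup.inf_relIndex_left]
              exact fun hd => P.not_dvd_index
                (hd.trans (Fitting.relIndex_dvd_index_of_normal_right _ E))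
            obtain ⟨a, ha⟩ := S.2.exists_card_eq
            obtain ⟨c, hc⟩ := (P.2.to_le (inf_le_left : (P : Subgroup G) ⊓ E ≤ _)).exists_card_eq
            rw [ha, hc]
            refine Nat.pow_le_pow_right hp.out.pos ?_
            have h2 : Nat.card ((P : Subgroup G) ⊓ E : Subgroup G) *
                ((P : Subgroup G) ⊓ E).relIndex E = Nat.card E := by
              rw [← Subgroup.relIndex_bot_left, ← Subgroup.relIndex_bot_left]
              exact Subgroup.relIndex_mul_relIndex _ _ _ bot_le inf_le_right
            have h3 : p ^ a ∣ p ^ c * ((P : Subgroup G) ⊓ E).relIndex E := by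
              rw [← hc, h2, ← ha]
              exact Subgroup.card_subgroup_dvd_card _
            exact (Nat.pow_dvd_pow_iff_le_right hp.out.one_lt).mp
              (((hp.out.coprime_iff_not_dvd.mpr h1).pow_left a).dvd_of_dvd_mul_right h3)
          refine .of_comm fun x y => Subtype.ext (Subtype.ext ?_)
          have hx := hcard ⟨(x : E), x.2, rfl⟩
          have hy := hcard ⟨(y : E), y.2, rfl⟩
          obtain ⟨c, hc, i, hxc⟩ := hdec _ hx.1
          obtain ⟨d, hd, j, hyd⟩ := hdec _ hy.1
          have hcE : c ∈ E := hME hc.1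
          have hdE : d ∈ E := hME hd.1
          have hbi : b ^ i ∈ E := by
            rw [show b ^ i = c⁻¹ * ((x : E) : G) by
              rw [show ((x : E) : G) = c * b ^ i from hxc]; group]
            exact mul_mem (inv_mem hcE) hx.2
          have hbj : b ^ j ∈ E := by
            rw [show b ^ j = d⁻¹ * ((y : E) : G) by
              rw [show ((y : E) : G) = d * b ^ j from hyd]; group]
            exact mul_mem (inv_mem hdE) hy.2
          show ((x : E) : G) * ((y : E) : G) = ((y : E) : G) * ((x : E) : G)
          rw [show ((x : E) : G) = c * b ^ i from hxc, show ((y : E) : G) = d * b ^ j from hyd]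
          have cd : Commute c d := hMab hd.1 c hc.1
          have cb : Commute c (b ^ j) := (hMc c hc.1 _ hbj).symm
          have bd : Commute (b ^ i) d := hMc d hd.1 _ hbi
          exact ((cd.mul_right cb).mul_left (bd.mul_right (Commute.zpow_zpow_self b i j))).eq
        haveI := hSab
        refine hM1 ((Subgroup.eq_bot_iff_forall _).mpr fun m hm => ?_)
        obtain ⟨w, hw, hwm⟩ := hS.1 (⟨hMP hm, hME hm⟩ : m ∈ (P : Subgroup G) ⊓ E)
        have hw1 : w = 1 := eq_one_of_perfect S hw (fun e => Subtype.ext (by
          show (e : G) * (w : G) = (w : G) * e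
          rw [show (w : G) = m from hwm]
          exact hMc m hm e e.2))
        rw [← hwm, hw1, map_one]
      rw [generalizedFittingSubgroup, ← hE, hE0, bot_sup_eq]
      intro q hq
      by_contra hqM
      -- `q` is central in `P` modulo nothing
      set π := QuotientGroup.mk' M with hπ
      have hπF : ∀ y ∈ F, π y ∈ Subgroup.zpowers (π b) := fun y hy => by
        obtain ⟨c, hc, i, rfl⟩ := hdec y (hFP hy)
        rw [map_mul, show π c = 1 from (QuotientGroup.eq_one_iff c).mpr hc.1, one_mul, map_zpow]
        exact Subgroup.zpow_mem _ (Subgroup.mem_zpowers _) i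
      -- choose the lift inside the powers of `b`
      obtain ⟨c, hc, i, hqc⟩ := hdec q (hFP hq)
      have hq₀F : b ^ i ∈ F := by
        rw [show b ^ i = c⁻¹ * q by rw [hqc]; group]
        exact mul_mem (inv_mem (hMF hc.1)) hq
      obtain ⟨q₀, hq₀⟩ : ∃ t : G, t = b ^ i := ⟨_, rfl⟩
      rw [← hq₀] at hqc hq₀F
      have hq₀M : q₀ ∉ M := fun h => hqM (hqc ▸ mul_mem hc.1 h)
      have hq₀P : ∀ y ∈ (P : Subgroup G), y * q₀ * y⁻¹ = q₀ := fun y hy => by
        obtain ⟨d, hd, j, rfl⟩ := hdec y hy
        have h1 : Commute d q₀ := hFcomm d (hMF hd.1) q₀ hq₀F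
        have h2 : Commute (b ^ j) q₀ := hq₀ ▸ Commute.zpow_zpow_self b j i
        rw [(h1.mul_left h2).eq, mul_inv_cancel_right]
      -- the image of `F` has order `p`
      have hord : ∀ y ∈ F, y ∉ M → orderOf (π y) = p := fun y hy hyM =>
        orderOf_eq_prime (by rw [← map_pow, hFexp y hy, map_one])
          (fun h => hyM ((QuotientGroup.eq_one_iff y).mp h))
      have hline : ∀ y ∈ F, π y ∈ Subgroup.zpowers (π q₀) := by
        intro y hy
        by_cases hyM : y ∈ M
        · rw [show π y = 1 from (QuotientGroup.eq_one_iff y).mpr hyM]; exact one_mem _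
        have hle : ∀ z ∈ F, Subgroup.zpowers (π z) ≤ Subgroup.zpowers (π b) :=
          fun z hz => Subgroup.zpowers_le.mpr (hπF z hz)
        haveI : IsCyclic (Subgroup.zpowers (π b)) := inferInstance
        by_contra hnot
        haveI : Fintype (Subgroup.zpowers (π b)) := Fintype.ofFinite _
        set C := Subgroup.zpowers (π b)
        let S₁ : Finset C := Finset.univ.filter (fun z : C => (z : G ⧸ M) ∈ Subgroup.zpowers (π q₀))
        have hS₁ : S₁.card = p := by
          rw [← hord q₀ hq₀F hq₀M, ← Nat.card_zpowers,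
            ← Nat.card_congr (Subgroup.subgroupOfEquivOfLe (hle q₀ hq₀F)).toEquiv,
            Nat.card_eq_fintype_card]
          exact (Fintype.card_subtype _).symm
        have hsub : insert (⟨π y, hπF y hy⟩ : C) S₁ ⊆ Finset.univ.filter (fun z : C => z ^ p = 1) := by
          intro z hz
          refine Finset.mem_filter.mpr ⟨Finset.mem_univ _, Subtype.ext ?_⟩
          rw [SubmonoidClass.coe_pow, OneMemClass.coe_one]
          rcases Finset.mem_insert.mp hz with rfl | hz
          · show π y ^ p = 1
            rw [← map_pow, hFexp y hy, map_one]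
          · obtain ⟨n, hn⟩ := Subgroup.mem_zpowers_iff.mp (Finset.mem_filter.mp hz).2
            rw [← hn, ← zpow_natCast, ← zpow_mul, mul_comm, zpow_mul, zpow_natCast, ← map_pow,
              hFexp q₀ hq₀F, map_one, one_zpow]
        have hcard := (Finset.card_le_card hsub).trans (IsCyclic.card_pow_eq_one_le hp.out.pos)
        have hni : (⟨π y, hπF y hy⟩ : C) ∉ S₁ := fun h => hnot (Finset.mem_filter.mp h).2
        rw [Finset.card_insert_of_notMem hni, hS₁] at hcard
        omega
      -- the multiple of each conjugate congruent to `q₀`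
      have hlift : ∀ g : G, ∃ y : G, y ∈ Subgroup.zpowers (g * q₀ * g⁻¹) ∧ π y = π q₀ := by
        intro g
        have hgF : g * q₀ * g⁻¹ ∈ F := (inferInstance : F.Normal).conj_mem _ hq₀F g
        have hgM : g * q₀ * g⁻¹ ∉ M := fun h => hq₀M (by
          have := hMn.conj_mem _ h g⁻¹
          simpa [mul_assoc] using this)
        have heq : Subgroup.zpowers (π (g * q₀ * g⁻¹)) = Subgroup.zpowers (π q₀) :=
          Subgroup.eq_of_le_of_card_ge (Subgroup.zpowers_le.mpr (hline _ hgF))
            (by rw [Nat.card_zpowers, Nat.card_zpowers, hord _ hgF hgM, hord q₀ hq₀F hq₀M])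
        have hmem : π q₀ ∈ Subgroup.zpowers (π (g * q₀ * g⁻¹)) := by
          rw [heq]; exact Subgroup.mem_zpowers _
        obtain ⟨n, hn⟩ := Subgroup.mem_zpowers_iff.mp hmem
        exact ⟨(g * q₀ * g⁻¹) ^ n, Subgroup.zpow_mem _ (Subgroup.mem_zpowers _) n,
          by rw [map_zpow]; exact hn⟩
      choose f hf hfπ using hlift
      have huniq : ∀ (g : G) (y z : G), y ∈ Subgroup.zpowers (g * q₀ * g⁻¹) →
          z ∈ Subgroup.zpowers (g * q₀ * g⁻¹) → π y = π z → y = z := by
        intro g y z hy hz hyz
        have hgF : g * q₀ * g⁻¹ ∈ F := (inferInstance : F.Normal).conj_mem _ hq₀F g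
        by_contra hne
        have h1 : y⁻¹ * z ∈ Subgroup.zpowers (g * q₀ * g⁻¹) :=
          (Subgroup.zpowers (g * q₀ * g⁻¹)).mul_mem (inv_mem hy) hz
        have h2 : y⁻¹ * z ∈ M := by
          rw [← QuotientGroup.eq_one_iff]
          show π (y⁻¹ * z) = 1
          rw [map_mul, map_inv, hyz, inv_mul_cancel]
        have h3 : y⁻¹ * z ≠ 1 := fun h => hne (inv_mul_eq_one.mp h)
        have h4 : Subgroup.zpowers (y⁻¹ * z) = Subgroup.zpowers (g * q₀ * g⁻¹) := by
          refine Subgroup.eq_of_le_of_card_ge (Subgroup.zpowers_le.mpr h1) ?_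
          have hg1 : g * q₀ * g⁻¹ ≠ 1 := fun h => hq₀M (by
            rw [conj_eq_one_iff.mp h]; exact one_mem _)
          have hexpz : (y⁻¹ * z) ^ p = 1 :=
            hFexp _ (Subgroup.zpowers_le.mpr hgF h1)
          rw [Nat.card_zpowers, Nat.card_zpowers, orderOf_eq_prime hexpz h3,
            orderOf_eq_prime (hFexp _ hgF) hg1]
        have h5 : g * q₀ * g⁻¹ ∈ M :=
          Subgroup.zpowers_le.mpr h2 (h4 ▸ Subgroup.mem_zpowers _)
        refine hq₀M ?_
        have := hMn.conj_mem _ h5 g⁻¹
        simpa [mul_assoc] using this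
      have hfF : ∀ g, f g ∈ F := fun g =>
        Subgroup.zpowers_le.mpr ((inferInstance : F.Normal).conj_mem _ hq₀F g) (hf g)
      -- independence of the representative
      have hfcongr : ∀ g y, y ∈ (P : Subgroup G) → f (g * y) = f g := fun g y hy =>
        huniq g _ _ (by
          have := hf (g * y)
          rwa [show g * y * q₀ * (g * y)⁻¹ = g * (y * q₀ * y⁻¹) * g⁻¹ by group, hq₀P y hy] at this)
          (hf g) (by rw [hfπ, hfπ])
      haveI : IsMulCommutative F := .of_comm fun a c => Subtype.ext (hFcomm a a.2 c c.2)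
      haveI : Fintype (G ⧸ (P : Subgroup G)) := Fintype.ofFinite _
      open scoped IsMulCommutative in
      let tot : F := ∏ c : G ⧸ (P : Subgroup G), (⟨f c.out, hfF _⟩ : F)
      have hπtot : π (tot : G) = π q₀ ^ (P : Subgroup G).index := by
        open scoped IsMulCommutative in
        have h1 : (π.comp F.subtype) tot = π (tot : G) := rfl
        rw [← h1]
        show (π.comp F.subtype) (∏ c : G ⧸ (P : Subgroup G), (⟨f c.out, hfF _⟩ : F)) = _
        have h2 : ∀ s : Finset (G ⧸ (P : Subgroup G)),
            (π.comp F.subtype) (∏ c ∈ s, (⟨f c.out, hfF _⟩ : F)) = π q₀ ^ s.card := by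
          intro s
          induction s using Finset.induction with
          | empty => simp
          | insert a s ha ih =>
            rw [Finset.prod_insert ha, map_mul, ih, Finset.card_insert_of_notMem ha, pow_succ']
            congr 1
            exact hfπ _
        rw [h2, Finset.card_univ, Subgroup.index_eq_card, Nat.card_eq_fintype_card]
      have htot : (tot : G) ∉ M := by
        intro h
        have h1 : π q₀ ^ (P : Subgroup G).index = 1 := by
          rw [← hπtot]; exact (QuotientGroup.eq_one_iff _).mpr h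
        have h2 := orderOf_dvd_of_pow_eq_one h1
        rw [hord q₀ hq₀F hq₀M] at h2
        exact P.not_dvd_index h2
      have hnorm : (Subgroup.zpowers (tot : G)).Normal := by
        refine ⟨fun x hx h => ?_⟩
        obtain ⟨m, rfl⟩ := Subgroup.mem_zpowers_iff.mp hx
        rw [← conj_zpow]
        refine Subgroup.zpow_mem _ ?_ m
        obtain ⟨a, ha⟩ := Subgroup.mem_zpowers_iff.mp
          (hline _ ((inferInstance : F.Normal).conj_mem _ hq₀F h))
        have hterm : ∀ g, h * f g * h⁻¹ = f (h * g) ^ a := by
          intro g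
          refine huniq (h * g) _ _ ?_ (Subgroup.zpow_mem _ (hf (h * g)) a) ?_
          · obtain ⟨n, hn⟩ := Subgroup.mem_zpowers_iff.mp (hf g)
            rw [← hn, ← conj_zpow]
            have h5 : h * g * q₀ * (h * g)⁻¹ = h * (g * q₀ * g⁻¹) * h⁻¹ := by group
            rw [h5]
            exact Subgroup.zpow_mem _ (Subgroup.mem_zpowers _) n
          · rw [map_zpow, hfπ, ha, map_mul, map_mul, hfπ g, ← map_mul, ← map_mul]
        open scoped IsMulCommutative in
        let cj : F →* F :=
          { toFun := fun y => ⟨h * y * h⁻¹, (inferInstance : F.Normal).conj_mem _ y.2 h⟩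
            map_one' := Subtype.ext (by simp)
            map_mul' := fun u v => Subtype.ext (by simp [mul_assoc]) }
        have hcj : cj tot = tot ^ a := by
          open scoped IsMulCommutative in
          show cj (∏ c : G ⧸ (P : Subgroup G), (⟨f c.out, hfF _⟩ : F)) = _
          rw [map_prod, ← Finset.prod_zpow]
          refine Fintype.prod_equiv (MulAction.toPerm h) _ _ fun c => Subtype.ext ?_
          show h * f c.out * h⁻¹ = f ((h • c).out) ^ a
          rw [hterm]
          congr 1
          have hc : (QuotientGroup.mk (h * c.out) : G ⧸ (P : Subgroup G)) = h • c := by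
            rw [← smul_eq_mul, ← MulAction.Quotient.smul_mk, QuotientGroup.out_eq']
          obtain ⟨y, hy⟩ := QuotientGroup.mk_out_eq_mul (P : Subgroup G) (h * c.out)
          rw [← hc, hy, hfcongr _ _ y.2]
        have h6 : h * (tot : G) * h⁻¹ = (tot : G) ^ a :=
          (congrArg Subtype.val hcj).trans (SubgroupClass.coe_zpow tot a)
        rw [h6]
        exact Subgroup.zpow_mem _ (Subgroup.mem_zpowers _) a
      have hne : Subgroup.zpowers (tot : G) ≠ ⊥ := fun h => htot (by
        rw [Subgroup.zpowers_eq_bot.mp h]; exact one_mem _)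
      have hle := hmin _ hnorm hne
      have heq : M = Subgroup.zpowers (tot : G) := by
        refine Subgroup.eq_of_le_of_card_ge hle ?_
        rw [Nat.card_zpowers, orderOf_eq_prime (hFexp _ tot.2) (fun h => htot (by rw [h]; exact one_mem _))]
        refine Nat.le_of_dvd Nat.card_pos ?_
        obtain ⟨n, hn⟩ := (P.2.to_le hMP).exists_card_eq
        rcases Nat.eq_zero_or_pos n with rfl | hn0
        · exact absurd (Subgroup.card_eq_one.mp (by rw [hn, pow_zero])) hM1
        · rw [hn]; exact dvd_pow_self p hn0.ne'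
      exact htot (heq ▸ Subgroup.mem_zpowers _)
    · -- non-abelian case
      have hC : Subgroup.centralizer (M : Set G) = ⊥ := by
        by_contra h
        exact hMab (hmin _ Subgroup.normal_centralizer h)
      refine sup_le (sSup_le fun K hK => ?_) ?_
      · rcases Layer.le_or_commutator_eq_bot hK hMn.isSubnormal with h | h
        · exact h
        · exfalso
          have h1 := Subgroup.commutator_eq_bot_iff_le_centralizer.mp h
          rw [hC, le_bot_iff] at h1
          exact Layer.ne_bot_of_isComponent hK h1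
      · intro x hx
        have hFM0 : F ⊓ M = ⊥ := by
          by_contra h
          have h1 : M ≤ F := (hmin _ inferInstance h).trans inf_le_left
          exact hMab fun m hm n hn => hFcomm n (h1 hn) m (h1 hm)
        have h2 : x ∈ Subgroup.centralizer (M : Set G) :=
          Subgroup.commutator_eq_bot_iff_le_centralizer.mp
            (le_bot_iff.mp ((Subgroup.commutator_le_inf F M).trans hFM0.le)) hx
        rw [hC, Subgroup.mem_bot] at h2
        rw [h2]; exact one_mem _
  refine ⟨⟨hGne, fun K hK hK1 => hFM ▸ hmin K hK hK1⟩, ?_, fun hnab K L hK hL => ?_⟩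
  · set π := QuotientGroup.mk' (generalizedFittingSubgroup G)
    have hle : (P : Subgroup G).map π ≤ Subgroup.zpowers (π b) := by
      rintro _ ⟨x, hx, rfl⟩
      obtain ⟨c, hc, i, rfl⟩ := hdec x hx
      rw [map_mul, show π c = 1 from (QuotientGroup.eq_one_iff c).mpr (hFM ▸ hc.1), one_mul, map_zpow]
      exact Subgroup.zpow_mem _ (Subgroup.mem_zpowers _) i
    exact isCyclic_of_injective (Subgroup.inclusion hle) (Subgroup.inclusion_injective hle)
  · -- transitivity
    by_contra hcon
    push Not at hcon
    have hnot : ∀ (J : Subgroup G), IsComponent J →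
        ¬ Layer.PLocal.orbitSup (P : Subgroup G) J ⊓ (P : Subgroup G) ≤ Φ P := by
      intro J hJ h
      have hc := pResidual_coprime P (Layer.PLocal.le_normalizer_orbitSup _ J) h
      set O := Layer.PLocal.orbitSup (P : Subgroup G) J with hO
      have hOE : O ≤ E := Layer.PLocal.orbitSup_le_layer hJ
      haveI : (O.subgroupOf E).Normal := by
        refine Subgroup.normal_subgroupOf_of_le_normalizer fun e he => ?_
        refine Subgroup.mem_normalizer_fintype fun u hu => ?_
        have h1 : O.map (MulAut.conj e).toMonoidHom ≤ O := by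
          rw [hO, Layer.PLocal.orbitSup, Subgroup.map_iSup]
          refine iSup_le fun π => le_iSup_of_le π ?_
          rw [Subgroup.map_le_iff_le_comap]
          intro z hz
          exact (Subgroup.mem_normalizer_iff.mp
            (Layer.component_normal_in_layer (Layer.isComponent_conj hJ _) he) z).mp hz
        exact h1 ⟨u, hu, rfl⟩
      have hres : Cfsg.pResidual p O = ⊤ := by
        haveI := Transfer.pResidual_normal p O
        rw [eq_top_iff]
        intro o _
        have hgen' : ∀ π : (P : Subgroup G), MulAut.conj (π : G) • J ≤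
            (Cfsg.pResidual p O).map O.subtype := by
          intro π
          have hcomp := Layer.isComponent_conj hJ (π : G)
          set J' := MulAut.conj (π : G) • J
          have hJO : J' ≤ O := le_iSup (fun π : (P : Subgroup G) => MulAut.conj (π : G) • J) π
          haveI : Group.IsPerfect J' := hcomp.2.1
          have hker : ((QuotientGroup.mk' (Cfsg.pResidual p O)).comp (Subgroup.inclusion hJO)).ker = ⊤ := by
            set ψ := (QuotientGroup.mk' (Cfsg.pResidual p O)).comp (Subgroup.inclusion hJO)
            haveI : Group.IsPerfect ψ.range :=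
              Group.IsPerfect.ofSurjective (f := ψ.rangeRestrict) ψ.rangeRestrict_surjective
            have hpg : IsPGroup p ψ.range :=
              (Transfer.isPGroup_quotient_pResidual (G := O)).to_subgroup _
            haveI : Group.IsNilpotent ψ.range := hpg.isNilpotent
            have hsub : Subsingleton ψ.range := by
              by_contra hns
              rw [not_subsingleton_iff_nontrivial] at hns
              exact Group.IsPerfect.not_isSolvable ψ.range inferInstance
            rw [eq_top_iff]
            intro z _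
            exact congrArg Subtype.val (Subsingleton.elim (⟨ψ z, z, rfl⟩ : ψ.range) 1)
          intro z hz
          have hz' : (⟨z, hz⟩ : J') ∈
              ((QuotientGroup.mk' (Cfsg.pResidual p O)).comp (Subgroup.inclusion hJO)).ker := by
            rw [hker]; trivial
          exact ⟨⟨z, hJO hz⟩, (QuotientGroup.eq_one_iff _).mp hz', rfl⟩
        obtain ⟨w, hw, hwo⟩ := (iSup_le hgen' : O ≤ _) o.2
        exact (show w = o from Subtype.ext hwo) ▸ hw
      rw [hres, ← MonoidHom.range_eq_map, Subgroup.range_subtype] at hc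
      have hle : O.subgroupOf E ≤ pPrimeCore p E := Transfer.le_pPrimeCore inferInstance (by
        rwa [Nat.card_congr (Subgroup.subgroupOfEquivOfLe hOE).toEquiv])
      have h0 : (pPrimeCore p E).map E.subtype ≤ pPrimeCore p G :=
        Transfer.le_pPrimeCore (PSolvable.normal_map_of_characteristic E _)
          (by rw [Subgroup.card_subtype]; exact Transfer.pPrimeCore_coprime p)
      have hJ0 : J ≤ ⊥ := by
        refine (Layer.PLocal.le_orbitSup (P : Subgroup G) J).trans (le_trans ?_ (h0.trans hcore.le))
        intro z hz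
        exact ⟨⟨z, hOE hz⟩, hle hz, rfl⟩
      exact Layer.ne_bot_of_isComponent hJ (le_bot_iff.mp hJ0)
    obtain ⟨z, hz, hz1⟩ := exists_commutator P hna
    have hzK := commutator_le_of P hgen (Layer.PLocal.le_normalizer_orbitSup _ K) (hnot K hK) hz
    have hzL := commutator_le_of P hgen (Layer.PLocal.le_normalizer_orbitSup _ L) (hnot L hL) hz
    have hzE : z ∈ layer G ⊓ Subgroup.centralizer (layer G : Set G) := by
      refine ⟨Layer.PLocal.orbitSup_le_layer hK hzK, ?_⟩
      have hle : layer G ≤ Subgroup.centralizer ({z} : Set G) := by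
        refine sSup_le fun J hJ => ?_
        by_cases hJK : ∃ π : (P : Subgroup G), J = MulAut.conj (π : G) • K
        · -- then `J` is outside the orbit of `L`
          obtain ⟨π, rfl⟩ := hJK
          have h1 : Layer.PLocal.orbitSup (P : Subgroup G) L ≤
              Subgroup.centralizer ((MulAut.conj (π : G) • K : Subgroup G) : Set G) :=
            iSup_le fun ρ => Subgroup.commutator_eq_bot_iff_le_centralizer.mp
              (Layer.commutator_eq_bot_of_ne (Layer.isComponent_conj hL _)
                (Layer.isComponent_conj hK _) fun h => hcon ((ρ : G)⁻¹ * π)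
                  (mul_mem (inv_mem ρ.2) π.2) (by
                    rw [← Coprime.conj_smul_eq_map, map_mul, mul_smul, ← h, smul_smul, ← map_mul,
                      inv_mul_cancel, map_one, one_smul]))
          intro j hj
          exact Subgroup.mem_centralizer_singleton_iff.mpr (h1 hzL j hj)
        · push Not at hJK
          have h1 : Layer.PLocal.orbitSup (P : Subgroup G) K ≤ Subgroup.centralizer (J : Set G) :=
            iSup_le fun ρ => Subgroup.commutator_eq_bot_iff_le_centralizer.mp
              (Layer.commutator_eq_bot_of_ne (Layer.isComponent_conj hK _) hJ fun h => hJK ρ h.symm)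
          intro j hj
          exact Subgroup.mem_centralizer_singleton_iff.mpr (h1 hzK j hj)
      exact Subgroup.mem_centralizer_iff.mpr fun e he =>
        Subgroup.mem_centralizer_singleton_iff.mp (hle he)
    have hzF := Layer.layer_inf_centralizer_le_fitting hzE
    apply hnab
    have hMF : M ≤ F := hmin F inferInstance fun h => hz1 (by
      rw [hF] at h; rw [h] at hzF; exact Subgroup.mem_bot.mp hzF)
    rw [hFM]
    exact .of_comm fun a c => Subtype.ext (hFcomm a (hMF a.2) c (hMF c.2))

end CfsgLib.TwoGenSylow
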